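import Cfsg.Agent.Lib.Recog.SuzThree.Count

/-!
# Three strongly self-centralizing subgroups: the orders of the outside elements

Under the assumption that an involution centralizes an element of odd prime order `r`.
-/

set_option autoImplicit false
set_option linter.style.haveILetI false
set_option linter.unusedSectionVars false
set_option linter.unusedVariables false

namespace CfsgLib.Recog.SuzThree

open CfsgLib.Chars CfsgLib.CharApps Subgroup
open scoped Classical

universe u

variable {G : Type u} [Group G] [Finite G] {A₁ A₂ A₃ : Subgroup G}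

/-- `N(A₂)` supplies an element of order four. -/
theorem Three.exists_order_four (T : Three A₁ A₂ A₃) : ∃ x : G, orderOf x = 4 := by
  by_contra hno
  push Not at hno
  haveI := Fact.mk Nat.prime_two
  obtain ⟨P⟩ : Nonempty (Sylow 2 (normalizer (A₂ : Set G))) := Sylow.nonempty
  have hdvd : 2 ^ 2 ∣ Nat.card (normalizer (A₂ : Set G)) := by
    rw [T.h₂.card_norm]; exact Dvd.intro _ rfl
  have hP : 4 ≤ Nat.card (P : Subgroup (normalizer (A₂ : Set G))) :=
    Nat.le_of_dvd Nat.card_pos (P.pow_dvd_card_of_pow_dvd_card hdvd)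
  have hsq : ∀ q ∈ (P : Subgroup (normalizer (A₂ : Set G))), ((q : G)) * (q : G) = 1 := by
    intro q hq
    obtain ⟨k, hk⟩ := P.2 ⟨q, hq⟩
    have hq' : (q : G) ^ 2 ^ k = 1 := by
      simpa using congrArg (fun z : (P : Subgroup (normalizer (A₂ : Set G))) =>
        ((z : normalizer (A₂ : Set G)) : G)) hk
    obtain ⟨j, -, hj⟩ := (Nat.dvd_prime_pow Nat.prime_two).1 (orderOf_dvd_of_pow_eq_one hq')
    rcases Nat.lt_or_ge j 2 with hj2 | hj2
    · rw [← sq, ← orderOf_dvd_iff_pow_eq_one, hj]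
      interval_cases j <;> norm_num
    · exfalso
      refine hno ((q : G) ^ 2 ^ (j - 2)) ?_
      rw [orderOf_pow' _ (pow_ne_zero _ two_ne_zero), hj,
        Nat.gcd_eq_right (pow_dvd_pow 2 (Nat.sub_le j 2)), Nat.pow_div (Nat.sub_le j 2) two_pos,
        show j - (j - 2) = 2 by omega]
      norm_num
  have hnA : ∀ q ∈ (P : Subgroup (normalizer (A₂ : Set G))), q ≠ 1 → (q : G) ∉ A₂ := by
    intro q hq hq1 hm
    have ho : orderOf (q : G) = 2 :=
      orderOf_eq_prime (by rw [sq]; exact hsq q hq) fun e1 => hq1 (Subtype.ext e1)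
    have := Subgroup.orderOf_dvd_natCard A₂ hm
    rw [ho] at this
    exact Nat.not_even_iff_odd.2 (T.h₂.odd_card ⟨2, rfl⟩) (even_iff_two_dvd.2 this)
  haveI := Fintype.ofFinite (P : Subgroup (normalizer (A₂ : Set G)))
  obtain ⟨u, v, hu, hv, huv⟩ : ∃ u v : (P : Subgroup (normalizer (A₂ : Set G))),
      u ≠ 1 ∧ v ≠ 1 ∧ u ≠ v := by
    have h3 : 1 < (Finset.univ.erase (1 : (P : Subgroup (normalizer (A₂ : Set G))))).card := by
      rw [Finset.card_erase_of_mem (Finset.mem_univ _), Finset.card_univ, ← Nat.card_eq_fintype_card]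
      omega
    obtain ⟨u, hu, v, hv, huv⟩ := Finset.one_lt_card.1 h3
    exact ⟨u, v, Finset.ne_of_mem_erase hu, Finset.ne_of_mem_erase hv, huv⟩
  obtain ⟨a, ha⟩ : ∃ a : A₂, a ≠ 1 := by
    haveI := Finite.one_lt_card_iff_nontrivial.1 T.h₂.pos
    exact exists_ne 1
  have ha1 : (a : G) ≠ 1 := fun e1 => ha (Subtype.ext e1)
  have hu' : ((u : normalizer (A₂ : Set G)) : G) ∉ A₂ :=
    hnA _ u.2 fun e1 => hu (Subtype.ext e1)
  have hv' : ((v : normalizer (A₂ : Set G)) : G) ∉ A₂ :=
    hnA _ v.2 fun e1 => hv (Subtype.ext e1)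
  have huv' : (u : normalizer (A₂ : Set G)) * (v : normalizer (A₂ : Set G)) ≠ 1 := by
    intro e1
    refine huv (Subtype.ext (Subtype.ext ?_))
    have e2 : ((u : normalizer (A₂ : Set G)) : G) * ((v : normalizer (A₂ : Set G)) : G) = 1 :=
      congrArg Subtype.val e1
    rw [eq_inv_of_mul_eq_one_left e2]
    exact inv_eq_of_mul_eq_one_right (hsq _ v.2)
  refine hnA _ (mul_mem u.2 v.2) huv' (T.h₂.mem_of_fix a.2 ha1 ?_)
  rw [Subgroup.coe_mul]
  set p := ((u : normalizer (A₂ : Set G)) : G)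
  set q := ((v : normalizer (A₂ : Set G)) : G)
  calc p * q * (a : G) * (p * q)⁻¹ = p * (q * (a : G) * q⁻¹) * p⁻¹ := by group
    _ = p * (a : G)⁻¹ * p⁻¹ := by rw [T.h₂.invert (v : normalizer (A₂ : Set G)).2 hv' (hsq _ v.2) a.2]
    _ = (p * (a : G) * p⁻¹)⁻¹ := by group
    _ = (a : G) := by rw [T.h₂.invert (u : normalizer (A₂ : Set G)).2 hu' (hsq _ u.2) a.2, inv_inv]

/-- An involution `t` centralizes an element `y` of odd prime order `r`; `x` has order four. -/
structure Bad (A₁ A₂ A₃ : Subgroup G) (r : ℕ) (y t x : G) : Prop where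
  T : Three A₁ A₂ A₃
  hr : r.Prime
  hr2 : r ≠ 2
  ht : orderOf t = 2
  hy : orderOf y = r
  hc : Commute t y
  hx : orderOf x = 4

variable {r : ℕ} {y t x : G}

theorem sq_of_orderOf {e : G} (he : orderOf e = 2) : e * e = 1 := by
  rw [← sq, ← he, pow_orderOf_eq_one]

theorem orderOf_mul_invol {e z : G} {m : ℕ} (he : orderOf e = 2) (hz : orderOf z = m) (hm : Odd m)
    (h : Commute e z) : orderOf (e * z) = 2 * m := by
  rw [h.orderOf_mul_eq_mul_orderOf_of_coprime (by rw [he, hz, Nat.coprime_two_left]; exact hm), he, hz]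

/-- The two parts of a product of a commuting involution and an element of odd order. -/
theorem split_pow {e z : G} {m : ℕ} (he : orderOf e = 2) (hz : orderOf z = m) (hm : Odd m)
    (h : Commute e z) : (e * z) ^ (m + 1) = z ∧ (e * z) ^ m = e := by
  have h1 : z ^ m = 1 := by rw [← hz, pow_orderOf_eq_one]
  obtain ⟨k, rfl⟩ := hm
  constructor
  · rw [h.mul_pow, pow_succ z, h1, one_mul, show 2 * k + 1 + 1 = 2 * (k + 1) by ring, pow_mul, sq,
      sq_of_orderOf he, one_pow, one_mul]
  · rw [h.mul_pow, h1, mul_one, pow_succ, pow_mul, sq, sq_of_orderOf he, one_pow, one_mul]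

theorem IsConj.pow' {a b : G} (h : IsConj a b) (k : ℕ) : IsConj (a ^ k) (b ^ k) := by
  obtain ⟨g, rfl⟩ := isConj_iff.1 h
  exact isConj_iff.2 ⟨g, by rw [conj_pow]⟩

theorem IsConj.orderOf_eq' {a b : G} (h : IsConj a b) : orderOf a = orderOf b := by
  obtain ⟨g, rfl⟩ := isConj_iff.1 h
  rw [← MulAut.conj_apply, MulEquiv.orderOf_eq]

namespace Bad

variable (B : Bad A₁ A₂ A₃ r y t x)
include B

theorem odd_r : Odd r := B.hr.odd_of_ne_two B.hr2

theorem three_le : 3 ≤ r := by have := B.hr.two_le; have := B.hr2; omega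

theorem not_dvd : ¬ r ∣ Nat.card A₁ * Nat.card A₂ * Nat.card A₃ := by
  intro hd
  have key : ∀ {A : Subgroup G} {e : ℕ}, CC A e → Even e → r ∣ Nat.card A → False := by
    intro A e hA he hd
    obtain ⟨a, ha, ha1, hc⟩ := hA.meets_of_prime B.hr hd B.hy
    obtain ⟨g, hg⟩ := isConj_iff.1 hc.symm
    have h1 : g * t * g⁻¹ ∈ A := hA.mem_of_commute ha ha1 (by
      rw [← hg]; exact B.hc.map (MulAut.conj g).toMonoidHom)
    have h2 := Subgroup.orderOf_dvd_natCard A h1
    rw [← MulAut.conj_apply, MulEquiv.orderOf_eq, B.ht] at h2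
    exact Nat.not_even_iff_odd.2 (hA.odd_card he) (even_iff_two_dvd.2 h2)
  rcases B.hr.dvd_mul.1 hd with h | h
  · rcases B.hr.dvd_mul.1 h with h | h
    · exact key B.T.h₁ ⟨1, rfl⟩ h
    · exact key B.T.h₂ ⟨2, rfl⟩ h
  · exact key B.T.h₃ ⟨2, rfl⟩ h

/-- Elements whose order has a prime factor off `N` are outside. -/
theorem out_of_prime {w : G} {p : ℕ} (hp : p ∣ orderOf w)
    (hpN : ¬ p ∣ Nat.card A₁ * Nat.card A₂ * Nat.card A₃) : Out A₁ A₂ A₃ w := by
  refine ⟨fun hm => hpN ?_, fun hm => hpN ?_, fun hm => hpN ?_⟩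
  · exact (hp.trans (B.T.h₁.orderOf_dvd_of_meets hm)).mul_right _ |>.mul_right _
  · exact ((hp.trans (B.T.h₂.orderOf_dvd_of_meets hm)).mul_left _).mul_right _
  · exact (hp.trans (B.T.h₃.orderOf_dvd_of_meets hm)).mul_left _

theorem out_of_dvd {w : G} (hw : r ∣ orderOf w) : Out A₁ A₂ A₃ w := B.out_of_prime hw B.not_dvd

theorem out_two {w : G} (hw : 2 ∣ orderOf w) : Out A₁ A₂ A₃ w :=
  B.T.out_of_even (even_iff_two_dvd.2 hw)

theorem orderOf_ty : orderOf (t * y) = 2 * r := orderOf_mul_invol B.ht B.hy B.odd_r B.hc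

theorem five_out : ∀ s ∈ ({1, t, x, y, t * y} : Finset G), Out A₁ A₂ A₃ s := by
  intro s hs
  simp only [Finset.mem_insert, Finset.mem_singleton] at hs
  rcases hs with rfl | rfl | rfl | rfl | rfl
  · exact Three.out_one
  · exact B.out_two (by rw [B.ht])
  · exact B.out_two (by rw [B.hx]; norm_num)
  · exact B.out_of_dvd (by rw [B.hy])
  · exact B.out_two (by rw [B.orderOf_ty]; exact dvd_mul_right _ _)

theorem five_inj : ∀ s ∈ ({1, t, x, y, t * y} : Finset G), ∀ s' ∈ ({1, t, x, y, t * y} : Finset G),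
    IsConj s s' → s = s' := by
  intro s hs s' hs' hc
  have h := IsConj.orderOf_eq' hc
  have := B.three_le
  have hodd := B.odd_r
  obtain ⟨k, hk⟩ := hodd
  simp only [Finset.mem_insert, Finset.mem_singleton] at hs hs'
  rcases hs with rfl | rfl | rfl | rfl | rfl <;> rcases hs' with rfl | rfl | rfl | rfl | rfl <;>
    first
      | rfl
      | (simp only [orderOf_one, B.ht, B.hx, B.hy, B.orderOf_ty] at h; omega)

theorem five_card : ({1, t, x, y, t * y} : Finset G).card = 5 := by
  have := B.three_le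
  obtain ⟨k, hk⟩ := B.odd_r
  have e := B.orderOf_ty
  have h : ∀ {a b : G}, orderOf a ≠ orderOf b → a ≠ b := fun hne e1 => hne (by rw [e1])
  rw [Finset.card_insert_of_notMem, Finset.card_insert_of_notMem, Finset.card_insert_of_notMem,
    Finset.card_pair]
  all_goals try simp only [Finset.mem_insert, Finset.mem_singleton, not_or]
  · exact h (by rw [B.hy, e]; omega)
  · exact ⟨h (by rw [B.hx, B.hy]; omega), h (by rw [B.hx, e]; omega)⟩
  · exact ⟨h (by rw [B.ht, B.hx]; omega), h (by rw [B.ht, B.hy]; omega), h (by rw [B.ht, e]; omega)⟩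
  · exact ⟨h (by rw [B.ht, orderOf_one]; omega), h (by rw [B.hx, orderOf_one]; omega),
      h (by rw [B.hy, orderOf_one]; omega), h (by rw [e, orderOf_one]; omega)⟩

theorem large : (Nat.card A₁ * Nat.card A₂ * Nat.card A₃) ^ 2 < Nat.card G :=
  (B.T.out_classes _ B.five_out B.five_inj).2 (by rw [B.five_card])

end Bad

/-- An outside element in none of the five classes. -/
def Extra (A₁ A₂ A₃ : Subgroup G) (y t x : G) (w : G) : Prop :=
  Out A₁ A₂ A₃ w ∧ ∀ s ∈ ({1, t, x, y, t * y} : Finset G), ¬ IsConj w s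

namespace Bad

variable (B : Bad A₁ A₂ A₃ r y t x)
include B

theorem extra_conj {w w' : G} (hw : Extra A₁ A₂ A₃ y t x w) (hw' : Extra A₁ A₂ A₃ y t x w') :
    IsConj w w' := by
  by_contra hne
  have hne' : w ≠ w' := fun e => hne (e ▸ IsConj.refl w)
  set S : Finset G := insert w (insert w' {1, t, x, y, t * y}) with hS
  have h7 : S.card = 7 := by
    rw [hS, Finset.card_insert_of_notMem, Finset.card_insert_of_notMem, B.five_card]
    · exact fun h => hw'.2 _ h (IsConj.refl _)
    · rw [Finset.mem_insert, not_or]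
      exact ⟨hne', fun h => hw.2 _ h (IsConj.refl _)⟩
  have := (B.T.out_classes S ?_ ?_).1
  · omega
  · intro s hs
    simp only [hS, Finset.mem_insert] at hs
    rcases hs with rfl | rfl | hs
    · exact hw.1
    · exact hw'.1
    · exact B.five_out s (by simpa using hs)
  · intro s hs s' hs' hc
    rw [hS, Finset.mem_insert, Finset.mem_insert] at hs hs'
    rcases hs with rfl | rfl | hs <;> rcases hs' with rfl | rfl | hs'
    · rfl
    · exact absurd hc hne
    · exact absurd hc (hw.2 _ hs')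
    · exact absurd hc.symm hne
    · rfl
    · exact absurd hc (hw'.2 _ hs')
    · exact absurd hc.symm (hw.2 _ hs)
    · exact absurd hc.symm (hw'.2 _ hs)
    · exact B.five_inj s hs s' hs' hc

theorem extra_orderOf {w w' : G} (hw : Extra A₁ A₂ A₃ y t x w) (hw' : Extra A₁ A₂ A₃ y t x w') :
    orderOf w = orderOf w' := IsConj.orderOf_eq' (B.extra_conj hw hw')

theorem extra_of_order {w : G} (ho : Out A₁ A₂ A₃ w) (h1 : orderOf w ≠ 1) (h2 : orderOf w ≠ 2)
    (h4 : orderOf w ≠ 4) (h5 : orderOf w ≠ r) (h6 : orderOf w ≠ 2 * r) :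
    Extra A₁ A₂ A₃ y t x w := by
  refine ⟨ho, fun s hs hc => ?_⟩
  have h := IsConj.orderOf_eq' hc
  simp only [Finset.mem_insert, Finset.mem_singleton] at hs
  rcases hs with rfl | rfl | rfl | rfl | rfl
  · exact h1 (h.trans orderOf_one)
  · exact h2 (h.trans B.ht)
  · exact h4 (h.trans B.hx)
  · exact h5 (h.trans B.hy)
  · exact h6 (h.trans B.orderOf_ty)

theorem invol_conj {e : G} (he : orderOf e = 2) : IsConj e t := B.T.isConj_of_involutions he B.ht

theorem ne_invol {e : G} (he : orderOf e = 2) : e ≠ 1 := fun e1 => by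
  rw [e1, orderOf_one] at he; omega

/-- Elements of order `r` with an involution in the centralizer form one class. -/
theorem r_class {e z : G} (he : orderOf e = 2) (hz : orderOf z = r) (h : Commute e z) :
    IsConj z y := by
  by_contra hne
  obtain ⟨k, hk⟩ := B.odd_r
  have := B.three_le
  have ho := orderOf_mul_invol he hz B.odd_r h
  have hexz : Extra A₁ A₂ A₃ y t x z := by
    refine ⟨B.out_of_dvd (by rw [hz]), fun s hs hc => ?_⟩
    have h1 := IsConj.orderOf_eq' hc
    simp only [Finset.mem_insert, Finset.mem_singleton] at hs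
    rcases hs with rfl | rfl | rfl | rfl | rfl <;>
      first
        | exact hne hc
        | (simp only [hz, orderOf_one, B.ht, B.hx, B.orderOf_ty] at h1; omega)
  have hexe : Extra A₁ A₂ A₃ y t x (e * z) := by
    refine ⟨B.out_two (by rw [ho]; exact dvd_mul_right _ _), fun s hs hc => ?_⟩
    have h1 := IsConj.orderOf_eq' hc
    simp only [Finset.mem_insert, Finset.mem_singleton] at hs
    rcases hs with rfl | rfl | rfl | rfl | rfl <;>
      first
        | (simp only [ho, orderOf_one, B.ht, B.hx, B.hy] at h1; omega)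
        | exact hne (by
            have h2 := IsConj.pow' hc (r + 1)
            rwa [(split_pow he hz B.odd_r h).1, (split_pow B.ht B.hy B.odd_r B.hc).1] at h2)
  have := B.extra_orderOf hexz hexe
  omega

/-- No element of order eight centralizes an element of order `r`, and elements of order four that
do form an extra class. -/
theorem extra_four_r {v z : G} (hv : orderOf v = 4) (hz : orderOf z = r) (h : Commute v z) :
    orderOf (v * z) = 4 * r ∧ Extra A₁ A₂ A₃ y t x (v * z) := by
  obtain ⟨k, hk⟩ := B.odd_r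
  have := B.three_le
  have ho : orderOf (v * z) = 4 * r := by
    rw [h.orderOf_mul_eq_mul_orderOf_of_coprime (by
      rw [hv, hz]; exact (Nat.Coprime.pow_left 2 (Nat.coprime_two_left.2 B.odd_r) : (2 ^ 2).Coprime r)),
      hv, hz]
  refine ⟨ho, B.extra_of_order (B.out_of_dvd (by rw [ho]; exact dvd_mul_left _ _)) ?_ ?_ ?_ ?_ ?_⟩ <;>
    rw [ho] <;> omega

/-- A 2-element centralizing an element of order `r` has order at most four. -/
theorem pow_four {v z : G} {k : ℕ} (hv : v ^ 2 ^ k = 1) (hz : orderOf z = r) (h : Commute v z) :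
    v ^ 4 = 1 := by
  obtain ⟨j, -, hj⟩ := (Nat.dvd_prime_pow Nat.prime_two).1 (orderOf_dvd_of_pow_eq_one hv)
  by_contra hne
  have hj3 : 3 ≤ j := by
    by_contra hlt
    refine hne (orderOf_dvd_iff_pow_eq_one.1 ?_)
    rw [hj]
    exact pow_dvd_pow 2 (show j ≤ 2 by omega)
  have h8 : orderOf (v ^ 2 ^ (j - 3)) = 8 := by
    rw [orderOf_pow' _ (pow_ne_zero _ two_ne_zero), hj,
      Nat.gcd_eq_right (pow_dvd_pow 2 (Nat.sub_le j 3)), Nat.pow_div (Nat.sub_le j 3) two_pos,
      show j - (j - 3) = 3 by omega]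
    norm_num
  have hc := h.pow_left (2 ^ (j - 3))
  generalize v ^ 2 ^ (j - 3) = w at h8 hc
  obtain ⟨m, hm⟩ := B.odd_r
  have := B.three_le
  have ho : orderOf (w * z) = 8 * r := by
    rw [hc.orderOf_mul_eq_mul_orderOf_of_coprime (by
      rw [h8, hz]; exact (Nat.Coprime.pow_left 3 (Nat.coprime_two_left.2 B.odd_r) : (2 ^ 3).Coprime r)),
      h8, hz]
  have hex : Extra A₁ A₂ A₃ y t x (w * z) := by
    refine B.extra_of_order (B.out_of_dvd (by rw [ho]; exact dvd_mul_left _ _)) ?_ ?_ ?_ ?_ ?_ <;>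
      rw [ho] <;> omega
  have h4 : orderOf (w ^ 2) = 4 := by rw [orderOf_pow' _ two_ne_zero, h8]; norm_num
  have := B.extra_orderOf hex (B.extra_four_r h4 hz (hc.pow_left 2)).2
  rw [ho, (B.extra_four_r h4 hz (hc.pow_left 2)).1] at this
  omega

end Bad

/-- A group of even order has an odd number of involutions. -/
theorem odd_card_involutions {W : Type*} [Group W] [Finite W] (h : Even (Nat.card W)) :
    Odd (Nat.card {w : W // orderOf w = 2}) := by
  haveI := Fintype.ofFinite W
  haveI := Fact.mk Nat.prime_two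
  have h1 := Equiv.Perm.card_compl_support_modEq (σ := Equiv.inv W) (n := 1)
    (show (Equiv.inv W) ^ 2 ^ 1 = 1 from Equiv.ext fun w => by simp [pow_two])
  have h2 : (Equiv.inv W : Equiv.Perm W).supportᶜ =
      insert 1 (Finset.univ.filter fun w : W => orderOf w = 2) := by
    ext w
    simp only [Finset.mem_compl, Equiv.Perm.mem_support, not_not, Equiv.inv_apply,
      Finset.mem_insert, Finset.mem_filter, Finset.mem_univ, true_and]
    constructor
    · intro hw
      by_cases h3 : w = 1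
      · exact Or.inl h3
      · exact Or.inr (orderOf_eq_prime (by rw [sq, ← eq_inv_iff_mul_eq_one, hw]) h3)
    · rintro (rfl | hw)
      · simp
      · exact inv_eq_of_mul_eq_one_right (sq_of_orderOf hw)
  rw [h2, Finset.card_insert_of_notMem (by simp)] at h1
  rw [Nat.card_eq_fintype_card, Fintype.card_subtype, Nat.odd_iff]
  rw [Nat.card_eq_fintype_card, Nat.even_iff] at h
  have : ((Finset.univ.filter fun w : W => orderOf w = 2).card + 1) % 2 = Fintype.card W % 2 := h1
  omega

namespace Bad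

variable (B : Bad A₁ A₂ A₃ r y t x)
include B

/-- The conjugating element fixes the odd part. -/
theorem conj_in_centralizer {e e' z : G} (he : orderOf e = 2) (he' : orderOf e' = 2)
    (hz : orderOf z = r) (h : Commute e z) (h' : Commute e' z)
    (hc : IsConj (e * z) (e' * z)) : ∃ g : G, Commute g z ∧ g * e * g⁻¹ = e' := by
  obtain ⟨g, hg⟩ := isConj_iff.1 hc
  obtain ⟨a1, a2⟩ := split_pow he hz B.odd_r h
  obtain ⟨b1, b2⟩ := split_pow he' hz B.odd_r h'
  refine ⟨g, mul_inv_eq_iff_eq_mul.1 ?_, ?_⟩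
  · conv_lhs => rw [← a1]
    rw [← conj_pow, hg, b1]
  · conv_lhs => rw [← a2]
    rw [← conj_pow, hg, b2]

/-- The elements of order `2r` form one class. -/
theorem invol_r_conj {e : G} (he : orderOf e = 2) (h : Commute e y) : IsConj (e * y) (t * y) := by
  by_contra hne
  obtain ⟨k, hk⟩ := B.odd_r
  have h3 := B.three_le
  have hex : ∀ {e' : G}, orderOf e' = 2 → Commute e' y → ¬ IsConj (e' * y) (t * y) →
      Extra A₁ A₂ A₃ y t x (e' * y) := by
    intro e' he' h' hn
    have ho := orderOf_mul_invol he' B.hy B.odd_r h'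
    refine ⟨B.out_two (by rw [ho]; exact dvd_mul_right _ _), fun s hs hc => ?_⟩
    have h1 := IsConj.orderOf_eq' hc
    simp only [Finset.mem_insert, Finset.mem_singleton] at hs
    rcases hs with rfl | rfl | rfl | rfl | rfl <;>
      first
        | exact hn hc
        | (simp only [ho, orderOf_one, B.ht, B.hx, B.hy] at h1; omega)
  set W := centralizer ({y} : Set G)
  have hW : ∀ w : W, Commute (w : G) y := fun w => mem_centralizer_singleton_iff.1 w.2
  haveI := Fact.mk Nat.prime_two
  have hno4 : ∀ v : G, Commute v y → orderOf v ≠ 4 := fun v hv h4 => by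
    have h5 := B.extra_four_r h4 B.hy hv
    have := B.extra_orderOf h5.2 (hex he h hne)
    rw [h5.1, orderOf_mul_invol he B.hy B.odd_r h] at this
    omega
  -- Sylow subgroups are elementary, so involution classes have odd size
  have hodd : ∀ s : W, orderOf s = 2 → Odd (Nat.card {w : W // IsConj s w}) := by
    intro s hs
    obtain ⟨P, hP⟩ := (IsPGroup.of_card (p := 2) (n := 1) (G := zpowers s)
      (by rw [Nat.card_zpowers, hs, pow_one])).exists_le_sylow
    have hsq : ∀ q : (P : Subgroup W), q * q = 1 := by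
      intro q
      obtain ⟨j, hj⟩ := P.2 q
      have hq' : ((q : W) : G) ^ 2 ^ j = 1 := by
        simpa using congrArg (fun z : (P : Subgroup W) => ((z : W) : G)) hj
      have h4 := B.pow_four hq' B.hy (hW q)
      obtain ⟨i, hi, hio⟩ := (Nat.dvd_prime_pow Nat.prime_two).1
        (show orderOf ((q : W) : G) ∣ 2 ^ 2 from orderOf_dvd_of_pow_eq_one h4)
      refine Subtype.ext (Subtype.ext ?_)
      show ((q : W) : G) * ((q : W) : G) = 1
      rw [← sq, ← orderOf_dvd_iff_pow_eq_one, hio]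
      interval_cases i
      · norm_num
      · norm_num
      · exact absurd hio (hno4 _ (hW q))
    have hle : (P : Subgroup W) ≤ centralizer ({s} : Set W) := fun q hq => by
      rw [mem_centralizer_singleton_iff]
      have hab : ∀ a b : (P : Subgroup W), a * b = b * a := fun a b => by
        have ha : a⁻¹ = a := inv_eq_of_mul_eq_one_right (hsq a)
        have hb : b⁻¹ = b := inv_eq_of_mul_eq_one_right (hsq b)
        have hab : (a * b)⁻¹ = a * b := inv_eq_of_mul_eq_one_right (hsq (a * b))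
        rw [← hab, mul_inv_rev, ha, hb]
      exact congrArg Subtype.val (hab ⟨q, hq⟩ ⟨s, hP (mem_zpowers s)⟩)
    have h1 := card_isConj_mul_card_centralizer s
    have h2 := Subgroup.card_dvd_of_le hle
    rw [P.card_eq_multiplicity] at h2
    rw [Nat.odd_iff, ← Nat.two_dvd_ne_zero]
    intro hd
    have h3 : 2 ^ ((Nat.card W).factorization 2 + 1) ∣ Nat.card W := by
      have h4 := mul_dvd_mul hd h2
      rw [h1] at h4
      rwa [pow_succ, mul_comm]
    have := (Nat.prime_two.pow_dvd_iff_le_factorization Nat.card_pos.ne').1 h3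
    omega
  have hte : ∀ {u v : G} (hu : orderOf u = 2) (hv : orderOf v = 2) (cu : Commute u y)
      (cv : Commute v y), IsConj (u * y) (v * y) ↔ IsConj (⟨u, mem_centralizer_singleton_iff.2 cu⟩ : W)
        ⟨v, mem_centralizer_singleton_iff.2 cv⟩ := by
    intro u v hu hv cu cv
    constructor
    · intro hc
      obtain ⟨g, hg, hgu⟩ := B.conj_in_centralizer hu hv B.hy cu cv hc
      exact isConj_iff.2 ⟨⟨g, mem_centralizer_singleton_iff.2 hg⟩, Subtype.ext hgu⟩
    · intro hc
      obtain ⟨g, hg⟩ := isConj_iff.1 hc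
      refine isConj_iff.2 ⟨(g : G), ?_⟩
      have h1 : (g : G) * u * (g : G)⁻¹ = v := congrArg Subtype.val hg
      rw [← h1, show (g : G) * (u * y) * (g : G)⁻¹ = (g : G) * u * (g : G)⁻¹ * ((g : G) * y * (g : G)⁻¹) by group,
        (hW g).eq, mul_inv_cancel_right]
  let sW : ∀ {u : G}, Commute u y → W := fun {u} cu => ⟨u, mem_centralizer_singleton_iff.2 cu⟩
  have hsum : Nat.card {w : W // orderOf w = 2} =
      Nat.card {w : W // IsConj (sW B.hc) w} + Nat.card {w : W // IsConj (sW h) w} := by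
    rw [← Nat.card_sum]
    refine (Nat.card_congr (Equiv.ofBijective (Sum.elim
      (fun w : {w : W // IsConj (sW B.hc) w} => (⟨w.1, ?_⟩ : {w : W // orderOf w = 2}))
      (fun w : {w : W // IsConj (sW h) w} => (⟨w.1, ?_⟩ : {w : W // orderOf w = 2}))) ⟨?_, ?_⟩)).symm
    · rw [← IsConj.orderOf_eq' w.2, ← Subgroup.orderOf_coe]; exact B.ht
    · rw [← IsConj.orderOf_eq' w.2, ← Subgroup.orderOf_coe]; exact he
    · have hdisj : ∀ w : W, IsConj (sW B.hc) w → IsConj (sW h) w → False := fun w h1 h2 =>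
        hne ((hte he B.ht h B.hc).2 (h2.trans h1.symm))
      rintro (a | a) (b | b) hab <;>
        simp only [Sum.elim_inl, Sum.elim_inr, Subtype.mk.injEq] at hab
      · exact congrArg Sum.inl (Subtype.ext hab)
      · exact (hdisj _ a.2 (hab ▸ b.2)).elim
      · exact (hdisj _ (hab ▸ b.2) a.2).elim
      · exact congrArg Sum.inr (Subtype.ext hab)
    · rintro ⟨w, hw⟩
      have hw' : orderOf (w : G) = 2 := by rw [Subgroup.orderOf_coe]; exact hw
      by_cases hc : IsConj ((w : G) * y) (t * y)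
      · exact ⟨Sum.inl ⟨w, ((hte hw' B.ht (hW w) B.hc).1 hc).symm⟩, rfl⟩
      · exact ⟨Sum.inr ⟨w, ((hte hw' he (hW w) h).1
          (B.extra_conj (hex hw' (hW w) hc) (hex he h hne))).symm⟩, rfl⟩
  have h1 := odd_card_involutions (W := W) (even_iff_two_dvd.2 (by
    have := Subgroup.orderOf_dvd_natCard W (x := t) (mem_centralizer_singleton_iff.2 B.hc)
    rwa [B.ht] at this))
  rw [hsum] at h1
  exact Nat.not_even_iff_odd.2 h1 ((hodd _ (by rw [← Subgroup.orderOf_coe]; exact B.ht)).add_odd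
    (hodd _ (by rw [← Subgroup.orderOf_coe]; exact he)))

/-- Pairs of an involution and a commuting element of order `r` form one class. -/
theorem pair_conj {e e' z z' : G} (he : orderOf e = 2) (he' : orderOf e' = 2) (hz : orderOf z = r)
    (hz' : orderOf z' = r) (h : Commute e z) (h' : Commute e' z') :
    IsConj (e * z) (e' * z') := by
  suffices key : ∀ {f w : G}, orderOf f = 2 → orderOf w = r → Commute f w →
      IsConj (f * w) (t * y) from (key he hz h).trans (key he' hz' h').symm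
  intro f w hf hw hfw
  obtain ⟨g, hg⟩ := isConj_iff.1 (B.r_class hf hw hfw)
  have h1 : IsConj (f * w) (g * f * g⁻¹ * y) := isConj_iff.2 ⟨g, by rw [← hg]; group⟩
  exact h1.trans (B.invol_r_conj (by rw [← MulAut.conj_apply, MulEquiv.orderOf_eq, hf])
    (hg ▸ hfw.map (MulAut.conj g).toMonoidHom))

/-- Elements of odd order prime to `r` centralize no involution and no element of order `r`. -/
theorem no_comm {w c : G} (hw : Odd (orderOf w)) (hwr : ¬ r ∣ orderOf w) (hw1 : w ≠ 1)
    (hc : orderOf c = 2 ∨ orderOf c = r) : ¬ Commute w c := by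
  intro hcm
  obtain ⟨p, hp, hpd⟩ := Nat.exists_prime_and_dvd (n := orderOf w) (by rwa [Ne, orderOf_eq_one_iff])
  have hp2 : p ≠ 2 := fun e => Nat.not_even_iff_odd.2 hw (even_iff_two_dvd.2 (e ▸ hpd))
  have hpr : p ≠ r := fun e => hwr (e ▸ hpd)
  set v := w ^ (orderOf w / p)
  have hv : orderOf v = p := orderOf_pow_orderOf_div (orderOf_pos w).ne' hpd
  have hvc : Commute v c := hcm.pow_left _
  have hp3 : 3 ≤ p := by have := hp.two_le; omega
  by_cases hpN : p ∣ Nat.card A₁ * Nat.card A₂ * Nat.card A₃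
  · have key' : ∀ {A : Subgroup G} {e : ℕ}, CC A e → Even e → p ∣ Nat.card A →
        (r ∣ Nat.card A → r ∣ Nat.card A₁ * Nat.card A₂ * Nat.card A₃) → False := by
      intro A e hA he hd hsub
      obtain ⟨a, ha, ha1, hav⟩ := hA.meets_of_prime hp hd hv
      obtain ⟨g, hg⟩ := isConj_iff.1 hav.symm
      have h1 : g * c * g⁻¹ ∈ A := hA.mem_of_commute ha ha1 (by
        rw [← hg]; exact hvc.symm.map (MulAut.conj g).toMonoidHom)
      have h2 := Subgroup.orderOf_dvd_natCard A h1
      rw [← MulAut.conj_apply, MulEquiv.orderOf_eq] at h2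
      rcases hc with hc | hc <;> rw [hc] at h2
      · exact Nat.not_even_iff_odd.2 (hA.odd_card he) (even_iff_two_dvd.2 h2)
      · exact B.not_dvd (hsub h2)
    rcases hp.dvd_mul.1 hpN with h | h
    · rcases hp.dvd_mul.1 h with h | h
      · exact key' B.T.h₁ ⟨1, rfl⟩ h fun h2 => (h2.mul_right _).mul_right _
      · exact key' B.T.h₂ ⟨2, rfl⟩ h fun h2 => (h2.mul_left _).mul_right _
    · exact key' B.T.h₃ ⟨2, rfl⟩ h fun h2 => h2.mul_left _
  · obtain ⟨q, hq, hq2⟩ : ∃ q, orderOf c = q ∧ (q = 2 ∨ q = r) := ⟨_, rfl, hc⟩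
    have hqp : q ≠ p := by rcases hq2 with e | e <;> omega
    have hqprime : q.Prime := by rcases hq2 with e | e <;> rw [e]; exacts [Nat.prime_two, B.hr]
    have ho : orderOf (v * c) = p * q := by
      rw [hvc.orderOf_mul_eq_mul_orderOf_of_coprime
        (by rw [hv, hq]; exact (Nat.coprime_primes hp hqprime).2 hqp.symm), hv, hq]
    have hpne4 : p ≠ 4 := fun e => by rw [e] at hp; norm_num at hp
    have e1 : Extra A₁ A₂ A₃ y t x v := by
      refine B.extra_of_order (B.out_of_prime (by rw [hv]) hpN) ?_ ?_ ?_ ?_ ?_ <;> rw [hv]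
      · omega
      · exact hp2
      · exact hpne4
      · exact hpr
      · exact fun e => Nat.not_even_iff_odd.2 (hp.odd_of_ne_two hp2) ⟨r, by omega⟩
    have h6 : p * q ≠ 1 ∧ p * q ≠ 2 ∧ p * q ≠ 4 ∧ p * q ≠ r ∧ p * q ≠ 2 * r := by
      have h2 := hqprime.two_le
      have hp' := Nat.mul_le_mul hp3 h2
      refine ⟨by omega, by omega, by omega, fun e => hpr ?_, fun e => hpr ?_⟩
      · exact (Nat.prime_dvd_prime_iff_eq hp B.hr).1 ⟨q, e.symm⟩
      · exact (Nat.prime_dvd_prime_iff_eq hp B.hr).1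
          ((hp.dvd_mul.1 ⟨q, e.symm⟩).resolve_left fun h => hp2
            ((Nat.prime_dvd_prime_iff_eq hp Nat.prime_two).1 h))
    obtain ⟨a1, a2, a3, a4, a5⟩ := h6
    have e2 : Extra A₁ A₂ A₃ y t x (v * c) := by
      refine B.extra_of_order (B.out_of_prime (by rw [ho]; exact dvd_mul_right _ _) hpN)
        ?_ ?_ ?_ ?_ ?_ <;> rw [ho] <;> assumption
    have := B.extra_orderOf e1 e2
    rw [hv, ho] at this
    exact hqprime.ne_one (Nat.eq_of_mul_eq_mul_left hp.pos (by rw [mul_one]; exact this.symm))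

/-- The prime is three or five. -/
theorem r_eq : r = 3 ∨ r = 5 := by
  haveI := Fact.mk B.hr
  obtain ⟨k, hk⟩ := B.odd_r
  have h3 := B.three_le
  obtain ⟨j, hj⟩ := IsCyclic.exists_generator (α := (ZMod r)ˣ)
  have hjo : orderOf j = r - 1 := by
    rw [orderOf_eq_card_of_forall_mem_zpowers hj, Nat.card_eq_fintype_card, ZMod.card_units]
  set i := (j : ZMod r).val
  have hi : ¬ r ∣ i := fun hd => by
    rw [← CharP.cast_eq_zero_iff (ZMod r) r, ZMod.natCast_zmod_val] at hd
    exact Units.ne_zero j hd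
  have hyi : orderOf (y ^ i) = r := by
    rw [orderOf_pow, B.hy, Nat.Coprime.gcd_eq_one ((B.hr.coprime_iff_not_dvd).2 hi), Nat.div_one]
  obtain ⟨g, hg⟩ := isConj_iff.1 (B.r_class B.ht hyi (B.hc.pow_right i)).symm
  have hpow : ∀ n : ℕ, g ^ n * y * (g ^ n)⁻¹ = y ^ (i ^ n) := by
    intro n
    induction n with
    | zero => simp
    | succ n ih =>
      calc g ^ (n + 1) * y * (g ^ (n + 1))⁻¹ = g ^ n * (g * y * g⁻¹) * (g ^ n)⁻¹ := by
            rw [pow_succ]; group
        _ = y ^ (i ^ (n + 1)) := by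
            rw [hg, ← conj_pow, ih, ← pow_mul, pow_succ]
  have hdvd : r - 1 ∣ orderOf g := by
    rw [← hjo]
    refine orderOf_dvd_of_pow_eq_one (Units.ext ?_)
    have h1 := hpow (orderOf g)
    rw [pow_orderOf_eq_one, one_mul, inv_one, mul_one] at h1
    have h2 : i ^ orderOf g ≡ 1 [MOD r] := by
      have h9 : y ^ (i ^ orderOf g) = y ^ 1 := by rw [← h1, pow_one]
      rw [pow_eq_pow_iff_modEq, B.hy] at h9
      exact h9
    rw [← ZMod.natCast_eq_natCast_iff, Nat.cast_pow, ZMod.natCast_zmod_val, Nat.cast_one] at h2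
    rw [Units.val_pow_eq_pow_val, h2, Units.val_one]
  have hev : 2 ∣ orderOf g := (show 2 ∣ r - 1 from ⟨k, by omega⟩).trans hdvd
  by_contra hne
  have h7 : 7 ≤ r := by
    push Not at hne
    rcases Nat.lt_or_ge r 7 with h | h
    · have h6 : r ≠ 6 := fun e => by omega
      omega
    · exact h
  have hgt : orderOf g ≠ 1 ∧ orderOf g ≠ 2 ∧ orderOf g ≠ 4 ∧ orderOf g ≠ r ∧ orderOf g ≠ 2 * r := by
    have hle := Nat.le_of_dvd (orderOf_pos g) hdvd
    refine ⟨by omega, by omega, by omega, fun e => ?_, fun e => ?_⟩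
    · rw [e] at hev; omega
    · rw [e] at hdvd
      have h8 : r - 1 ∣ 2 := ((Nat.coprime_self_sub_left (show 1 ≤ r by omega)).2
        (Nat.coprime_one_left r)).dvd_of_dvd_mul_right hdvd
      have := Nat.le_of_dvd two_pos h8
      omega
  obtain ⟨c1, c2, c3, c4, c5⟩ := hgt
  have hexg := B.extra_of_order (B.out_two hev) c1 c2 c3 c4 c5
  obtain ⟨m, hm⟩ := hev
  have hg2 : orderOf (g ^ 2) = m := by
    rw [orderOf_pow' _ two_ne_zero, hm, Nat.gcd_mul_right_left, Nat.mul_div_cancel_left _ two_pos]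
  -- the square is outside
  have hout : Out A₁ A₂ A₃ (g ^ 2) := by
    have key : ∀ {A : Subgroup G} {e : ℕ}, CC A e → Even e → ¬ Meets A (g ^ 2) := by
      intro A e hA he hmt
      obtain ⟨a, ha, ha1, hc⟩ := hmt
      obtain ⟨q, hq⟩ := isConj_iff.1 hc.symm
      have h1 : q * g * q⁻¹ ∈ A := hA.mem_of_commute ha ha1 (by
        rw [← hq]; exact (Commute.self_pow g 2).map (MulAut.conj q).toMonoidHom)
      have h2 := Subgroup.orderOf_dvd_natCard A h1
      rw [← MulAut.conj_apply, MulEquiv.orderOf_eq, hm] at h2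
      exact Nat.not_even_iff_odd.2 (hA.odd_card he) (even_iff_two_dvd.2 (dvd_of_mul_right_dvd h2))
    exact ⟨key B.T.h₁ ⟨1, rfl⟩, key B.T.h₂ ⟨2, rfl⟩, key B.T.h₃ ⟨2, rfl⟩⟩
  have hcase : m = 1 ∨ m = 2 ∨ m = 4 ∨ m = r ∨ m = 2 * r := by
    by_contra hc
    push Not at hc
    obtain ⟨d1, d2, d3, d4, d5⟩ := hc
    have := B.extra_orderOf hexg (B.extra_of_order hout (hg2 ▸ d1) (hg2 ▸ d2) (hg2 ▸ d3)
      (hg2 ▸ d4) (hg2 ▸ d5))
    rw [hg2, hm] at this
    have h0 := orderOf_pos g
    omega
  rw [hm] at hdvd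
  rcases hcase with e | e | e | e | e <;> rw [e] at hdvd
  · rw [e] at hm; omega
  · rw [e] at hm; omega
  · have h8 := Nat.le_of_dvd (by norm_num) hdvd
    rcases (show r = 7 ∨ r = 9 by omega) with e' | e'
    · rw [e'] at hdvd; norm_num at hdvd
    · exact absurd B.hr (by rw [e']; norm_num)
  · have h8 : r - 1 ∣ 2 := ((Nat.coprime_self_sub_left (show 1 ≤ r by omega)).2
      (Nat.coprime_one_left r)).dvd_of_dvd_mul_right hdvd
    have := Nat.le_of_dvd two_pos h8
    omega
  · have h8 : r - 1 ∣ 4 := ((Nat.coprime_self_sub_left (show 1 ≤ r by omega)).2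
      (Nat.coprime_one_left r)).dvd_of_dvd_mul_right
        (by rwa [show 4 * r = 2 * (2 * r) by ring])
    have := Nat.le_of_dvd (by norm_num) h8
    omega

end Bad

end CfsgLib.Recog.SuzThree
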