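import Cfsg.Prelude.Def_Characters
import Cfsg.Agent.Lib.Chars.Induction
import Mathlib

/-!
# Strongly self-centralizing subgroups

An abelian subgroup which is the centralizer of each of its nonidentity elements is a trivial
intersection set; it is a Hall subgroup and meets every class in at most one orbit of its
normalizer.
-/

set_option autoImplicit false
set_option linter.style.haveILetI false
set_option linter.unusedSectionVars false

namespace CfsgLib.Recog.SuzThree

open Subgroup

variable {G : Type*} [Group G]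

/-- `A` is the centralizer of each of its nonidentity elements and has index `e` in its
normalizer. -/
structure CC (A : Subgroup G) (e : ℕ) : Prop where
  cent : ∀ a ∈ A, a ≠ 1 → centralizer ({a} : Set G) = A
  card_norm : Nat.card (normalizer (A : Set G)) = e * Nat.card A
  pos : 1 < Nat.card A

/-- `x` is conjugate to a nonidentity element of `A`. -/
def Meets (A : Subgroup G) (x : G) : Prop := ∃ a ∈ A, a ≠ 1 ∧ IsConj a x

variable {A B : Subgroup G} {e f : ℕ}

theorem not_meets_one : ¬ Meets A (1 : G) := fun ⟨_, _, h1, hc⟩ => h1 (isConj_one_left.1 hc)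

theorem Meets.of_isConj {x y : G} (h : Meets A x) (hc : IsConj x y) : Meets A y := by
  obtain ⟨a, ha, h1, h2⟩ := h
  exact ⟨a, ha, h1, h2.trans hc⟩

theorem meets_of_mem {a : G} (ha : a ∈ A) (h1 : a ≠ 1) : Meets A a := ⟨a, ha, h1, IsConj.refl a⟩

theorem CC.mem_of_commute (h : CC A e) {a g : G} (ha : a ∈ A) (h1 : a ≠ 1)
    (hc : Commute g a) : g ∈ A := by
  rw [← h.cent a ha h1]
  exact mem_centralizer_singleton_iff.2 hc.eq

theorem CC.commute (h : CC A e) {a b : G} (ha : a ∈ A) (hb : b ∈ A) : Commute a b := by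
  by_cases hb1 : b = 1
  · rw [hb1]; exact Commute.one_right a
  · rw [← h.cent b hb hb1] at ha
    exact (mem_centralizer_singleton_iff.1 ha : a * b = b * a)

theorem CC.mem_normalizer (h : CC A e) {a g : G} (ha : a ∈ A) (h1 : a ≠ 1)
    (hg : g * a * g⁻¹ ∈ A) : g ∈ normalizer (A : Set G) := by
  have h2 : g * a * g⁻¹ ≠ 1 := fun e => h1 (by simpa using e)
  refine Subgroup.mem_normalizer_iff.2 fun x => ⟨fun hx => ?_, fun hx => ?_⟩
  · refine h.mem_of_commute hg h2 ?_
    exact (h.commute hx ha).map (MulAut.conj g).toMonoidHom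
  · refine h.mem_of_commute ha h1 ?_
    have := (h.commute hx hg).map (MulAut.conj g⁻¹).toMonoidHom
    simpa [mul_assoc] using this

theorem CC.conj_mem (h : CC A e) {a g : G} (hg : g ∈ normalizer (A : Set G)) (ha : a ∈ A) :
    g * a * g⁻¹ ∈ A :=
  (Subgroup.mem_normalizer_iff.1 hg a).1 ha

theorem CC.mem_of_fix (h : CC A e) {a g : G} (ha : a ∈ A) (h1 : a ≠ 1)
    (hg : g * a * g⁻¹ = a) : g ∈ A :=
  h.mem_of_commute ha h1 (mul_inv_eq_iff_eq_mul.1 hg)

theorem CC.conj (h : CC A e) (g : G) : CC (A.map (MulAut.conj g).toMonoidHom) e where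
  cent := by
    intro b hb h1
    obtain ⟨a, ha, rfl⟩ := hb
    have ha1 : a ≠ 1 := fun e => h1 (by subst e; simp)
    ext x
    rw [mem_centralizer_singleton_iff]
    constructor
    · intro hx
      refine ⟨g⁻¹ * x * g, h.mem_of_commute ha ha1 ?_, by simp [mul_assoc]⟩
      show g⁻¹ * x * g * a = a * (g⁻¹ * x * g)
      simp only [MulEquiv.coe_toMonoidHom, MulAut.conj_apply] at hx
      calc g⁻¹ * x * g * a = g⁻¹ * (x * (g * a * g⁻¹)) * g := by group
        _ = a * (g⁻¹ * x * g) := by rw [hx]; group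
    · rintro ⟨c, hc, rfl⟩
      exact ((h.commute hc ha).map (MulAut.conj g).toMonoidHom).eq
  card_norm := by
    have h1 : normalizer ((A.map (MulAut.conj g).toMonoidHom : Subgroup G) : Set G) =
        (normalizer (A : Set G)).map (MulAut.conj g).toMonoidHom :=
      (Subgroup.map_equiv_normalizer_eq A (MulAut.conj g)).symm
    rw [h1, Subgroup.card_map_of_injective (MulAut.conj g).injective,
      Subgroup.card_map_of_injective (MulAut.conj g).injective, h.card_norm]
  pos := by rw [Subgroup.card_map_of_injective (MulAut.conj g).injective]; exact h.pos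

/-- Two subgroups sharing a nonidentity element are equal. -/
theorem CC.eq_of_mem (hA : CC A e) (hB : CC B f) {a : G} (ha : a ∈ A) (hb : a ∈ B) (h1 : a ≠ 1) :
    A = B := by rw [← hA.cent a ha h1, hB.cent a hb h1]

/-- Two subgroups meeting a common class are conjugate. -/
theorem CC.exists_conj_eq (hA : CC A e) (hB : CC B f) {x : G} (h1 : Meets A x)
    (h2 : Meets B x) : ∃ g : G, A.map (MulAut.conj g).toMonoidHom = B := by
  obtain ⟨a, ha, ha1, hax⟩ := h1
  obtain ⟨b, hb, -, hbx⟩ := h2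
  obtain ⟨g, hg⟩ := isConj_iff.1 (hax.trans hbx.symm)
  refine ⟨g, (hA.conj g).eq_of_mem hB ⟨a, ha, by simp⟩ (?_ : g * a * g⁻¹ ∈ B)
    (fun e => ha1 (by simpa using e))⟩
  rw [hg]; exact hb

section Finite

variable [Finite G]

/-- A Sylow subgroup for a prime dividing the order lies in `A` after conjugation. -/
theorem CC.sylow_le (h : CC A e) {p : ℕ} [hp : Fact p.Prime] (hd : p ∣ Nat.card A) :
    ∃ P : Sylow p G, (P : Subgroup G) ≤ A := by
  obtain ⟨a, ha⟩ := exists_prime_orderOf_dvd_card' p hd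
  have hao : orderOf (a : G) = p := by rw [Subgroup.orderOf_coe, ha]
  have ha1 : (a : G) ≠ 1 := fun h1 => by simp [h1, hp.out.ne_one.symm] at hao
  obtain ⟨P, hP⟩ := (IsPGroup.of_card (p := p) (n := 1) (G := zpowers (a : G))
    (by rw [Nat.card_zpowers, hao, pow_one])).exists_le_sylow
  refine ⟨P, fun x hx => ?_⟩
  haveI : Nontrivial (P : Subgroup G) :=
    ⟨⟨⟨(a : G), hP (mem_zpowers _)⟩, 1, fun h1 => ha1 (congrArg Subtype.val h1)⟩⟩
  haveI := P.2.center_nontrivial
  obtain ⟨z, hz⟩ := exists_ne (1 : center (P : Subgroup G))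
  have hz1 : ((z : (P : Subgroup G)) : G) ≠ 1 := fun h1 => hz (Subtype.ext (Subtype.ext h1))
  have hc : ∀ y : (P : Subgroup G), Commute (y : G) ((z : (P : Subgroup G)) : G) := fun y =>
    congrArg Subtype.val (Subgroup.mem_center_iff.1 z.2 y)
  have hzA : ((z : (P : Subgroup G)) : G) ∈ A :=
    h.mem_of_commute a.2 ha1 (hc ⟨(a : G), hP (mem_zpowers _)⟩).symm
  exact h.mem_of_commute hzA hz1 (hc ⟨x, hx⟩)

/-- Elements of prime order dividing `|A|` meet `A`. -/
theorem CC.meets_of_prime (h : CC A e) {p : ℕ} (hp : p.Prime) (hd : p ∣ Nat.card A) {x : G}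
    (hx : orderOf x = p) : Meets A x := by
  haveI := Fact.mk hp
  obtain ⟨P, hP⟩ := h.sylow_le hd
  obtain ⟨Q, hQ⟩ := (IsPGroup.of_card (p := p) (n := 1) (G := zpowers x)
    (by rw [Nat.card_zpowers, hx, pow_one])).exists_le_sylow
  obtain ⟨g, hg⟩ := MulAction.exists_smul_eq G Q P
  have h1 : g * x * g⁻¹ ∈ (P : Subgroup G) := by
    rw [← hg, Sylow.coe_subgroup_smul]
    exact ⟨x, hQ (mem_zpowers x), rfl⟩
  refine ⟨g * x * g⁻¹, hP h1, fun e => hp.ne_one ?_, (isConj_iff.2 ⟨g, rfl⟩ : IsConj x _).symm⟩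
  rw [← hx, orderOf_eq_one_iff]
  simpa using e

/-- `A` is a Hall subgroup. -/
theorem CC.ordProj_dvd (h : CC A e) {p : ℕ} (hp : p.Prime) (hd : p ∣ Nat.card A) :
    p ^ (Nat.card G).factorization p ∣ Nat.card A := by
  haveI := Fact.mk hp
  obtain ⟨P, hP⟩ := h.sylow_le hd
  rw [← P.card_eq_multiplicity]
  exact Subgroup.card_dvd_of_le hP

/-- Nonconjugate subgroups have coprime orders. -/
theorem CC.coprime (hA : CC A e) (hB : CC B f)
    (hne : ∀ g : G, A.map (MulAut.conj g).toMonoidHom ≠ B) :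
    Nat.Coprime (Nat.card A) (Nat.card B) := by
  refine Nat.coprime_of_dvd fun p hp h1 h2 => ?_
  haveI := Fact.mk hp
  obtain ⟨a, ha⟩ := exists_prime_orderOf_dvd_card' p h1
  have hao : orderOf (a : G) = p := by rw [Subgroup.orderOf_coe, ha]
  obtain ⟨g, hg⟩ := hA.exists_conj_eq hB (hA.meets_of_prime hp h1 hao)
    (hB.meets_of_prime hp h2 hao)
  exact hne g hg

/-- The number of conjugates of `a` in `A`. -/
theorem CC.card_orbit (h : CC A e) {a : G} (ha : a ∈ A) (ha1 : a ≠ 1) :
    Nat.card {x : G // x ∈ A ∧ IsConj a x} = e := by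
  classical
  let N := normalizer (A : Set G)
  let F : N → {x : G // x ∈ A ∧ IsConj a x} := fun g =>
    ⟨(g : G) * a * (g : G)⁻¹, h.conj_mem g.2 ha, isConj_iff.2 ⟨g, rfl⟩⟩
  have hfib : ∀ y, Nat.card {g : N // F g = y} = Nat.card A := by
    rintro ⟨y, hy, hc⟩
    obtain ⟨k, rfl⟩ := isConj_iff.1 hc
    have hk : k ∈ N := h.mem_normalizer ha ha1 hy
    refine Nat.card_congr
      { toFun := fun g => ⟨k⁻¹ * (g.1 : G), h.mem_of_fix ha ha1 ?_⟩
        invFun := fun s => ⟨⟨k * (s : G), mul_mem hk (Subgroup.le_normalizer s.2)⟩, ?_⟩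
        left_inv := fun g => Subtype.ext (Subtype.ext (mul_inv_cancel_left _ _))
        right_inv := fun s => Subtype.ext (inv_mul_cancel_left _ _) }
    · have h1 : (g.1 : G) * a * (g.1 : G)⁻¹ = k * a * k⁻¹ := congrArg Subtype.val g.2
      calc k⁻¹ * (g.1 : G) * a * (k⁻¹ * (g.1 : G))⁻¹
          = k⁻¹ * ((g.1 : G) * a * (g.1 : G)⁻¹) * k := by group
        _ = a := by rw [h1]; group
    · refine Subtype.ext ?_
      show k * (s : G) * a * (k * (s : G))⁻¹ = k * a * k⁻¹
      rw [mul_assoc k, (h.commute s.2 ha).eq]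
      group
  haveI := Fintype.ofFinite {x : G // x ∈ A ∧ IsConj a x}
  have h1 : Nat.card N = Nat.card {x : G // x ∈ A ∧ IsConj a x} * Nat.card A := by
    rw [← Nat.card_congr (Equiv.sigmaFiberEquiv F), Nat.card_sigma,
      Finset.sum_congr rfl fun y _ => hfib y, Finset.sum_const, smul_eq_mul, Finset.card_univ,
      ← Nat.card_eq_fintype_card]
  exact (Nat.eq_of_mul_eq_mul_right Nat.card_pos (h.card_norm.symm.trans h1)).symm

/-- The classes meeting `A`. -/
theorem CC.card_classes (h : CC A e) :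
    e * Nat.card {c : ConjClasses G // ∃ x, ConjClasses.mk x = c ∧ Meets A x} + 1 =
      Nat.card A := by
  classical
  haveI := Fintype.ofFinite G
  let T := {c : ConjClasses G // ∃ x, ConjClasses.mk x = c ∧ Meets A x}
  haveI := Fintype.ofFinite T
  let F : {a : A // a ≠ 1} → T := fun a => ⟨ConjClasses.mk ((a.1 : G)), _, rfl,
    meets_of_mem a.1.2 fun e => a.2 (Subtype.ext e)⟩
  have hfib : ∀ c, Nat.card {a : {a : A // a ≠ 1} // F a = c} = e := by
    rintro ⟨c, x, rfl, b, hb, hb1, hbx⟩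
    rw [← h.card_orbit hb hb1]
    refine Nat.card_congr
      { toFun := fun a => ⟨((a.1.1 : A) : G), a.1.1.2, ?_⟩
        invFun := fun s => ⟨⟨⟨s.1, s.2.1⟩, ?_⟩, ?_⟩
        left_inv := fun a => rfl
        right_inv := fun s => rfl }
    · exact hbx.trans (ConjClasses.mk_eq_mk_iff_isConj.1 (congrArg Subtype.val a.2)).symm
    · intro e1
      have e2 : s.1 = 1 := congrArg Subtype.val e1
      have := s.2.2
      rw [e2] at this
      exact hb1 (isConj_one_left.1 this)
    · exact Subtype.ext (ConjClasses.mk_eq_mk_iff_isConj.2 (s.2.2.symm.trans hbx))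
  have h1 : Nat.card {a : A // a ≠ 1} = Nat.card T * e := by
    rw [← Nat.card_congr (Equiv.sigmaFiberEquiv F), Nat.card_sigma,
      Finset.sum_congr rfl fun y _ => hfib y, Finset.sum_const, smul_eq_mul, Finset.card_univ,
      ← Nat.card_eq_fintype_card]
  have h2 : Nat.card {a : A // a ≠ 1} + 1 = Nat.card A := by
    haveI := Fintype.ofFinite {a : A // a ≠ 1}
    rw [Nat.card_eq_fintype_card, Nat.card_eq_fintype_card, Fintype.card_subtype_compl,
      Fintype.card_subtype_eq]
    have := Fintype.card_pos (α := A)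
    omega
  rw [h1] at h2
  rw [← h2, mul_comm]

/-- A group element inverting `A`: any element of `N(A) \ A` of order two. -/
theorem CC.invert (h : CC A e) {u : G} (hu : u ∈ normalizer (A : Set G)) (huA : u ∉ A)
    (h2 : u * u = 1) {a : G} (ha : a ∈ A) : u * a * u⁻¹ = a⁻¹ := by
  have hb : u * a * u⁻¹ ∈ A := h.conj_mem hu ha
  by_contra hne
  refine huA (h.mem_of_fix (mul_mem ha hb) (fun e => hne (eq_inv_of_mul_eq_one_right e)) ?_)
  have hu' : u⁻¹ = u := inv_eq_of_mul_eq_one_right h2
  calc u * (a * (u * a * u⁻¹)) * u⁻¹ = (u * a * u⁻¹) * ((u * u) * a * (u * u)⁻¹) := by group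
    _ = a * (u * a * u⁻¹) := by rw [h2]; simpa using (h.commute hb ha).eq

end Finite

end CfsgLib.Recog.SuzThree
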