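import Mathlib

/-!
# Small integral vectors with prescribed inner products

The combinatorics of the exceptional characters: a bound for the size of the union of the supports.
-/

set_option autoImplicit false
set_option linter.unusedSectionVars false

namespace CfsgLib.Recog.SuzThree

variable {ι : Type*} [Fintype ι] [DecidableEq ι]

/-- The support. -/
def supp (v : ι → ℤ) : Finset ι := Finset.univ.filter fun i => v i ≠ 0

/-- The inner product. -/
def dot (v w : ι → ℤ) : ℤ := ∑ i, v i * w i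

theorem mem_supp {v : ι → ℤ} {i : ι} : i ∈ supp v ↔ v i ≠ 0 := by simp [supp]

theorem dot_comm (v w : ι → ℤ) : dot v w = dot w v :=
  Finset.sum_congr rfl fun _ _ => mul_comm _ _

theorem dot_eq_sum {v w : ι → ℤ} {s : Finset ι} (h : supp v ∩ supp w ⊆ s) :
    dot v w = ∑ i ∈ s, v i * w i := by
  refine (Finset.sum_subset (Finset.subset_univ s) fun i _ hi => ?_).symm
  by_contra h0
  exact hi (h (Finset.mem_inter.2 ⟨mem_supp.2 (left_ne_zero_of_mul h0),
    mem_supp.2 (right_ne_zero_of_mul h0)⟩))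

theorem sq_le_norm (v : ι → ℤ) (i : ι) : v i * v i ≤ dot v v :=
  Finset.single_le_sum (f := fun j => v j * v j) (fun j _ => mul_self_nonneg _) (Finset.mem_univ i)

/-- Entries are units. -/
def Unit' (v : ι → ℤ) : Prop := ∀ i, v i = 0 ∨ v i = 1 ∨ v i = -1

theorem unit_of_norm_two {v : ι → ℤ} (h : dot v v = 2) : Unit' v := fun i => by
  have := sq_le_norm v i
  have h1 : v i ≤ 1 := by nlinarith
  have h2 : -1 ≤ v i := by nlinarith
  omega

theorem unit_of_norm_four {v w : ι → ℤ} (h : dot v v = 4) (hvw : dot v w = 3) : Unit' v := by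
  intro i
  by_contra hc
  have := sq_le_norm v i
  have h1 : v i ≤ 2 := by nlinarith
  have h2 : -2 ≤ v i := by nlinarith
  have h4 : v i = 2 ∨ v i = -2 := by omega
  have hz : ∀ j, j ≠ i → v j = 0 := fun j hj => by
    have h5 : v i * v i + v j * v j ≤ 4 := by
      rw [← h, ← Finset.sum_pair (f := fun k => v k * v k) hj.symm]
      exact Finset.sum_le_sum_of_subset_of_nonneg (Finset.subset_univ _)
        fun k _ _ => mul_self_nonneg _
    rcases h4 with e | e <;> rw [e] at h5 <;> nlinarith [mul_self_nonneg (v j)]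
  rw [dot_eq_sum (s := {i}) (fun j hj => by
    rw [Finset.mem_singleton]
    by_contra hji
    exact mem_supp.1 (Finset.mem_inter.1 hj).1 (hz j hji)), Finset.sum_singleton] at hvw
  rcases h4 with e | e <;> rw [e] at hvw <;> omega

theorem Unit'.card_supp {v : ι → ℤ} (h : Unit' v) : ((supp v).card : ℤ) = dot v v := by
  rw [dot_eq_sum (s := supp v) Finset.inter_subset_left,
    Finset.sum_congr rfl (g := fun _ => (1 : ℤ)) fun i hi => ?_]
  · simp
  · rcases h i with e | e | e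
    · exact absurd e (mem_supp.1 hi)
    · simp [e]
    · simp [e]

theorem Unit'.abs_dot_le {v w : ι → ℤ} (hv : Unit' v) (hw : Unit' w) {s : Finset ι}
    (h : supp v ∩ supp w ⊆ s) : |dot v w| ≤ s.card := by
  rw [dot_eq_sum h]
  refine (Finset.abs_sum_le_sum_abs _ _).trans ?_
  calc ∑ i ∈ s, |v i * w i| ≤ ∑ i ∈ s, (1 : ℤ) := Finset.sum_le_sum fun i _ => by
        rcases hv i with e | e | e <;> rcases hw i with e' | e' | e' <;> simp [e, e']
    _ = s.card := by simp

/-- Two unit vectors with odd inner product meet in an odd number of places. -/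
theorem Unit'.odd_inter {v w : ι → ℤ} (hv : Unit' v) (hw : Unit' w) {d : ℤ} (hd : Odd d)
    (h : dot v w = d) : Odd (supp v ∩ supp w).card := by
  rw [dot_eq_sum (Finset.Subset.refl (supp v ∩ supp w))] at h
  have h2 : ((∑ i ∈ supp v ∩ supp w, v i * w i : ℤ) : ZMod 2) = ((supp v ∩ supp w).card : ZMod 2) := by
    rw [Int.cast_sum, Finset.sum_congr rfl (g := fun _ => (1 : ZMod 2)) fun i hi => ?_]
    · simp
    · obtain ⟨h1, h1'⟩ := Finset.mem_inter.1 hi
      rcases hv i with e | e | e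
      · exact absurd e (mem_supp.1 h1)
      all_goals
        rcases hw i with e' | e' | e'
        · exact absurd e' (mem_supp.1 h1')
        all_goals simp [e, e']
  rw [h] at h2
  obtain ⟨k, rfl⟩ := hd
  push_cast at h2
  rw [show ((2 : ZMod 2)) = 0 from rfl, zero_mul, zero_add] at h2
  exact ZMod.natCast_eq_one_iff_odd.1 h2.symm

/-- A family with index two: all members share one place with a common sign. -/
theorem exists_star (V : Finset (ι → ℤ)) (hV : 2 ≤ V.card) (h2 : ∀ v ∈ V, dot v v = 2)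
    (h1 : ∀ v ∈ V, ∀ w ∈ V, v ≠ w → dot v w = 1) (d : ι → ℤ)
    (hdeg : ∀ v ∈ V, ∑ i, v i * d i = -1) :
    ∃ (φ : ι) (δ : ℤ), (δ = 1 ∨ δ = -1) ∧
      ∀ v ∈ V, v φ = δ ∧ ∃ X, X ≠ φ ∧ supp v = {φ, X} := by
  obtain ⟨v₁, hv₁, v₂, hv₂, hne⟩ := Finset.one_lt_card.1 hV
  have hU : ∀ v ∈ V, Unit' v := fun v hv => unit_of_norm_two (h2 v hv)
  have hc : ∀ v ∈ V, (supp v).card = 2 := fun v hv => by
    have := (hU v hv).card_supp; rw [h2 v hv] at this; omega
  have hone : ∀ v ∈ V, ∀ w ∈ V, v ≠ w → ∃ i, supp v ∩ supp w = {i} ∧ v i * w i = 1 := by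
    intro v hv w hw hvw
    have ho := (hU v hv).odd_inter (hU w hw) odd_one (h1 v hv w hw hvw)
    have hle := Finset.card_le_card (Finset.inter_subset_left : supp v ∩ supp w ⊆ supp v)
    rw [hc v hv] at hle
    obtain ⟨i, hi⟩ := Finset.card_eq_one.1 (show (supp v ∩ supp w).card = 1 by
      rcases ho with ⟨k, hk⟩; omega)
    refine ⟨i, hi, ?_⟩
    have := h1 v hv w hw hvw
    rwa [dot_eq_sum hi.le, Finset.sum_singleton] at this
  obtain ⟨φ, hφ, hφ1⟩ := hone v₁ hv₁ v₂ hv₂ hne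
  have hδ : ∀ v ∈ V, φ ∈ supp v → ∃ X, X ≠ φ ∧ supp v = {φ, X} := by
    intro v hv hφv
    obtain ⟨X, hX⟩ := Finset.card_eq_one.1 (show ((supp v).erase φ).card = 1 by
      rw [Finset.card_erase_of_mem hφv, hc v hv])
    refine ⟨X, fun e => ?_, ?_⟩
    · have := hX ▸ Finset.mem_singleton_self X
      exact (Finset.mem_erase.1 this).1 e
    · rw [← Finset.insert_erase hφv, hX]
  have hm1 : φ ∈ supp v₁ := (Finset.mem_inter.1 (hφ ▸ Finset.mem_singleton_self φ)).1
  have hm2 : φ ∈ supp v₂ := (Finset.mem_inter.1 (hφ ▸ Finset.mem_singleton_self φ)).2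
  have hmem : ∀ v ∈ V, φ ∈ supp v := by
    intro v hv
    by_contra hφv
    have hv1 : v ≠ v₁ := fun e => hφv (e ▸ hm1)
    have hv2 : v ≠ v₂ := fun e => hφv (e ▸ hm2)
    obtain ⟨b, hb, hb1⟩ := hone v hv v₁ hv₁ hv1
    obtain ⟨c, hc2, hc1⟩ := hone v hv v₂ hv₂ hv2
    obtain ⟨hbv, hb'⟩ := Finset.mem_inter.1 (hb ▸ Finset.mem_singleton_self b)
    obtain ⟨hcv, hc'⟩ := Finset.mem_inter.1 (hc2 ▸ Finset.mem_singleton_self c)
    have hbc : b ≠ c := fun e => hφv (by
      have : b ∈ supp v₁ ∩ supp v₂ := Finset.mem_inter.2 ⟨hb', e ▸ hc'⟩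
      rw [hφ, Finset.mem_singleton] at this
      exact this ▸ hbv)
    have hbφ : b ≠ φ := fun e => hφv (e ▸ hbv)
    have hcφ : c ≠ φ := fun e => hφv (e ▸ hcv)
    have hsum : ∀ u ∈ V, ∀ i j : ι, i ≠ j → i ∈ supp u → j ∈ supp u → u i * d i + u j * d j = -1 := by
      intro u hu i j hij hi hj
      have he : ({i, j} : Finset ι) = supp u := Finset.eq_of_subset_of_card_le
        (Finset.insert_subset hi (Finset.singleton_subset_iff.2 hj))
        (by rw [hc u hu, Finset.card_pair hij])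
      have h3 := hdeg u hu
      rwa [← Finset.sum_subset (Finset.subset_univ (supp u)) (fun k _ hk => by
        rw [mem_supp, not_not] at hk; rw [hk, zero_mul]), ← he, Finset.sum_pair hij] at h3
    have e1 := hsum v₁ hv₁ φ b hbφ.symm hm1 hb'
    have e2 := hsum v₂ hv₂ φ c hcφ.symm hm2 hc'
    have e3 := hsum v hv b c hbc hbv hcv
    have eb : v₁ b = v b := by
      rcases Int.mul_eq_one_iff_eq_one_or_neg_one.1 hb1 with ⟨a1, a2⟩ | ⟨a1, a2⟩ <;> omega
    have ec : v₂ c = v c := by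
      rcases Int.mul_eq_one_iff_eq_one_or_neg_one.1 hc1 with ⟨a1, a2⟩ | ⟨a1, a2⟩ <;> omega
    have eφ : v₂ φ = v₁ φ := by
      rcases Int.mul_eq_one_iff_eq_one_or_neg_one.1 hφ1 with ⟨a1, a2⟩ | ⟨a1, a2⟩ <;> omega
    rw [eb] at e1
    rw [ec, eφ] at e2
    have e4 : 2 * (v₁ φ * d φ) = -1 := by linarith
    omega
  refine ⟨φ, v₁ φ, ?_, fun v hv => ⟨?_, hδ v hv (hmem v hv)⟩⟩
  · rcases hU v₁ hv₁ φ with e | e | e
    · exact absurd e (mem_supp.1 hm1)
    · exact Or.inl e
    · exact Or.inr e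
  · by_cases hv1 : v = v₁
    · rw [hv1]
    obtain ⟨i, hi, hi1⟩ := hone v hv v₁ hv₁ hv1
    have : φ ∈ supp v ∩ supp v₁ := Finset.mem_inter.2 ⟨hmem v hv, hm1⟩
    rw [hi, Finset.mem_singleton] at this
    subst this
    rcases Int.mul_eq_one_iff_eq_one_or_neg_one.1 hi1 with ⟨a1, a2⟩ | ⟨a1, a2⟩ <;> omega

theorem unit_of_family {V : Finset (ι → ℤ)} (hV : 2 ≤ V.card) (h4 : ∀ v ∈ V, dot v v = 4)
    (h3 : ∀ v ∈ V, ∀ w ∈ V, v ≠ w → dot v w = 3) {v : ι → ℤ} (hv : v ∈ V) : Unit' v := by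
  obtain ⟨w, hw, hwv⟩ := Finset.exists_mem_ne (Nat.lt_of_succ_le hV) v
  exact unit_of_norm_four (h4 v hv) (h3 v hv w hw hwv.symm)

theorem supp_family_subset (V : Finset (ι → ℤ)) {w : ι → ℤ} (hw : w ∈ V) (hV : 2 ≤ V.card)
    (h4 : ∀ v ∈ V, dot v v = 4) (h3 : ∀ v ∈ V, ∀ w ∈ V, v ≠ w → dot v w = 3) :
    ∃ T : Finset ι, T.card + 1 ≤ V.card ∧ V.biUnion supp ⊆ supp w ∪ T := by
  refine ⟨(V.erase w).biUnion fun v => supp v \ supp w, ?_, ?_⟩
  · have : ((V.erase w).biUnion fun v => supp v \ supp w).card ≤ (V.erase w).card * 1 := by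
      refine Finset.card_biUnion_le_card_mul _ _ 1 fun v hv => ?_
      obtain ⟨hne, hv⟩ := Finset.mem_erase.1 hv
      have hu := unit_of_family hV h4 h3 hv
      have hle := hu.abs_dot_le (unit_of_family hV h4 h3 hw) (Finset.Subset.refl _)
      rw [h3 v hv w hw hne] at hle
      have hc := hu.card_supp
      rw [h4 v hv] at hc
      have := Finset.card_sdiff_add_card_inter (supp v) (supp w)
      simp only [abs_of_nonneg (show (0 : ℤ) ≤ 3 by norm_num)] at hle
      omega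
    rw [Finset.card_erase_of_mem hw] at this
    have : 1 ≤ V.card := Finset.card_pos.2 ⟨w, hw⟩
    omega
  · intro i hi
    obtain ⟨v, hv, hiv⟩ := Finset.mem_biUnion.1 hi
    by_cases hiw : i ∈ supp w
    · exact Finset.mem_union_left _ hiw
    · refine Finset.mem_union_right _ (Finset.mem_biUnion.2 ⟨v, Finset.mem_erase.2 ⟨?_, hv⟩,
        Finset.mem_sdiff.2 ⟨hiv, hiw⟩⟩)
      rintro rfl; exact hiw hiv

/-- The union of the supports of the three families is small. -/
theorem card_union_supp_le (V₁ V₂ V₃ : Finset (ι → ℤ)) (φ : ι) (δ : ℤ) (hδ : δ = 1 ∨ δ = -1)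
    (hV₁ : 2 ≤ V₁.card) (hV₂ : 2 ≤ V₂.card) (hV₃ : 2 ≤ V₃.card)
    (hn₁ : ∀ v ∈ V₁, dot v v = 2) (hm₁ : ∀ v ∈ V₁, ∀ w ∈ V₁, v ≠ w → dot v w = 1)
    (hstar : ∀ v ∈ V₁, v φ = δ ∧ ∃ X, X ≠ φ ∧ supp v = {φ, X})
    (hn₂ : ∀ v ∈ V₂, dot v v = 4) (hm₂ : ∀ v ∈ V₂, ∀ w ∈ V₂, v ≠ w → dot v w = 3)
    (hn₃ : ∀ v ∈ V₃, dot v v = 4) (hm₃ : ∀ v ∈ V₃, ∀ w ∈ V₃, v ≠ w → dot v w = 3)
    (h12 : ∀ v ∈ V₁, ∀ w ∈ V₂, dot v w = -1) (h13 : ∀ v ∈ V₁, ∀ w ∈ V₃, dot v w = -1)
    (h23 : ∀ v ∈ V₂, ∀ w ∈ V₃, dot v w = -1) :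
    (V₁.biUnion supp ∪ (V₂.biUnion supp ∪ V₃.biUnion supp)).card ≤
      V₁.card + V₂.card + V₃.card + 3 := by
  set S := V₁.biUnion supp with hS
  have hU₁ : ∀ v ∈ V₁, Unit' v := fun v hv => unit_of_norm_two (hn₁ v hv)
  have hφS : φ ∈ S := by
    obtain ⟨v, hv⟩ := Finset.card_pos.1 (lt_of_lt_of_le two_pos hV₁)
    refine Finset.mem_biUnion.2 ⟨v, hv, mem_supp.2 ?_⟩
    rw [(hstar v hv).1]; omega
  have hScard : S.card = V₁.card + 1 := by
    have h1 : S = insert φ (V₁.biUnion fun v => (supp v).erase φ) := by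
      ext i
      simp only [Finset.mem_insert, hS, Finset.mem_biUnion, Finset.mem_erase]
      constructor
      · rintro ⟨v, hv, hi⟩
        rcases eq_or_ne i φ with e | e
        · exact Or.inl e
        · exact Or.inr ⟨v, hv, e, hi⟩
      · rintro (rfl | ⟨v, hv, -, hi⟩)
        · exact Finset.mem_biUnion.1 hφS
        · exact ⟨v, hv, hi⟩
    rw [h1, Finset.card_insert_of_notMem (by simp), Finset.card_biUnion]
    · rw [Finset.sum_congr rfl (g := fun _ => 1) fun v hv => ?_]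
      · simp
      · obtain ⟨-, X, hX, e⟩ := hstar v hv
        rw [e, Finset.card_erase_of_mem (by simp), Finset.card_pair hX.symm]
    · intro v hv w hw hvw
      rw [Function.onFun, Finset.disjoint_left]
      intro i hi hi'
      obtain ⟨hiφ, hiv⟩ := Finset.mem_erase.1 hi
      obtain ⟨-, hiw⟩ := Finset.mem_erase.1 hi'
      have hsub : ({φ, i} : Finset ι) ⊆ supp v ∩ supp w := by
        refine Finset.insert_subset (Finset.mem_inter.2 ⟨?_, ?_⟩)
          (Finset.singleton_subset_iff.2 (Finset.mem_inter.2 ⟨hiv, hiw⟩))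
        · rw [mem_supp, (hstar v hv).1]; omega
        · rw [mem_supp, (hstar w hw).1]; omega
      have h2 := Finset.card_le_card hsub
      rw [Finset.card_pair hiφ.symm] at h2
      have h3 := Finset.card_le_card (Finset.inter_subset_left : supp v ∩ supp w ⊆ supp v)
      have h4 := (hU₁ v hv).card_supp
      rw [hn₁ v hv] at h4
      obtain ⟨k, hk⟩ := (hU₁ v hv).odd_inter (hU₁ w hw) odd_one (hm₁ v hv w hw hvw)
      omega
  obtain ⟨w, hw⟩ := Finset.card_pos.1 (lt_of_lt_of_le two_pos hV₂)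
  obtain ⟨z, hz⟩ := Finset.card_pos.1 (lt_of_lt_of_le two_pos hV₃)
  have hUw := unit_of_family hV₂ hn₂ hm₂ hw
  have hUz := unit_of_family hV₃ hn₃ hm₃ hz
  obtain ⟨T₂, hT₂, hs₂⟩ := supp_family_subset V₂ hw hV₂ hn₂ hm₂
  obtain ⟨T₃, hT₃, hs₃⟩ := supp_family_subset V₃ hz hV₃ hn₃ hm₃
  -- the two alternatives for a vector of index four
  have halt : ∀ u : ι → ℤ, Unit' u → (∀ v ∈ V₁, dot v u = -1) → dot u u = 4 →
      (u φ = -δ ∧ supp u ∩ S = {φ} ∧ (supp u \ S).card = 3) ∨
        (u φ = 0 ∧ (supp u \ S).card ≤ 4 - V₁.card ∧ φ ∉ supp u) := by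
    intro u hu hvu hu4
    have hcu : (supp u).card = 4 := by have := hu.card_supp; rw [hu4] at this; omega
    have hsplit := Finset.card_sdiff_add_card_inter (supp u) S
    have hpt : ∀ v ∈ V₁, ∀ X, X ≠ φ → supp v = {φ, X} → δ * u φ + v X * u X = -1 ∧
        (v X = 1 ∨ v X = -1) := by
      intro v hv X hX e
      have := hvu v hv
      rw [dot_eq_sum (s := {φ, X}) (e ▸ Finset.inter_subset_left), Finset.sum_pair hX.symm,
        (hstar v hv).1] at this
      refine ⟨this, (hU₁ v hv X).resolve_left (mem_supp.1 (e ▸ by simp))⟩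
    rcases hu φ with e0 | e0 | e0
    · right
      refine ⟨e0, ?_, fun h => mem_supp.1 h e0⟩
      have h1 : S.erase φ ⊆ supp u ∩ S := by
        intro i hi
        obtain ⟨hiφ, hi⟩ := Finset.mem_erase.1 hi
        obtain ⟨v, hv, hiv⟩ := Finset.mem_biUnion.1 hi
        refine Finset.mem_inter.2 ⟨?_, Finset.mem_biUnion.2 ⟨v, hv, hiv⟩⟩
        obtain ⟨-, X, hX, e⟩ := hstar v hv
        rw [e, Finset.mem_insert, Finset.mem_singleton] at hiv
        obtain rfl := hiv.resolve_left hiφ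
        rw [mem_supp]
        intro h0
        have := (hpt v hv i hX e).1
        rw [e0, h0] at this
        omega
      have h2 := Finset.card_le_card h1
      rw [Finset.card_erase_of_mem hφS, hScard] at h2
      omega
    all_goals
      left
      have hX : ∀ v ∈ V₁, ∀ X, X ≠ φ → supp v = {φ, X} → u φ = -δ ∧ u X = 0 := by
        intro v hv X hX e
        obtain ⟨h1, h2⟩ := hpt v hv X hX e
        rcases hu X with eX | eX | eX <;> rcases h2 with h2 | h2 <;> rcases hδ with hd | hd <;>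
          simp [e0, eX, h2, hd] at h1 ⊢
      obtain ⟨v, hv⟩ := Finset.card_pos.1 (lt_of_lt_of_le two_pos hV₁)
      obtain ⟨-, X, hX', e⟩ := hstar v hv
      have hi1 : supp u ∩ S = {φ} := by
        refine Finset.Subset.antisymm (fun i hi => ?_) (Finset.singleton_subset_iff.2
          (Finset.mem_inter.2 ⟨mem_supp.2 (by rw [e0]; decide), hφS⟩))
        obtain ⟨hiu, hiS⟩ := Finset.mem_inter.1 hi
        obtain ⟨v', hv', hiv⟩ := Finset.mem_biUnion.1 hiS
        obtain ⟨-, X', hX'', e'⟩ := hstar v' hv'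
        rw [e', Finset.mem_insert, Finset.mem_singleton] at hiv
        rw [Finset.mem_singleton]
        rcases hiv with rfl | rfl
        · rfl
        · exact absurd (hX v' hv' i hX'' e').2 (mem_supp.1 hiu)
      refine ⟨(hX v hv X hX' e).1, hi1, ?_⟩
      rw [hi1, Finset.card_singleton] at hsplit
      omega
  have hout : ((supp w ∪ supp z) \ S).card ≤ 4 := by
    rw [Finset.union_sdiff_distrib]
    have hu := Finset.card_union_add_card_inter (supp w \ S) (supp z \ S)
    have hsub : ∀ i ∈ supp w ∩ supp z, i ∉ S → i ∈ (supp w \ S) ∩ (supp z \ S) := fun i hi hiS => by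
      simp only [Finset.mem_inter, Finset.mem_sdiff] at hi ⊢
      exact ⟨⟨hi.1, hiS⟩, hi.2, hiS⟩
    have hwz := h23 w hw z hz
    rcases halt w hUw (fun v hv => h12 v hv w hw) (hn₂ w hw) with ⟨a1, a2, a3⟩ | ⟨a1, a2, a4⟩ <;>
      rcases halt z hUz (fun v hv => h13 v hv z hz) (hn₃ z hz) with ⟨b1, b2, b3⟩ | ⟨b1, b2, b4⟩
    · by_contra hlt
      have hle1 : ((supp w \ S) ∩ (supp z \ S)).card ≤ 1 := by omega
      have hφT : φ ∉ (supp w \ S) ∩ (supp z \ S) := fun h =>
        (Finset.mem_sdiff.1 (Finset.mem_inter.1 h).1).2 hφS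
      have hcov : supp w ∩ supp z ⊆ insert φ ((supp w \ S) ∩ (supp z \ S)) := by
        intro i hi
        by_cases hiS : i ∈ S
        · have : i ∈ supp w ∩ S := Finset.mem_inter.2 ⟨(Finset.mem_inter.1 hi).1, hiS⟩
          rw [a2, Finset.mem_singleton] at this
          exact Finset.mem_insert.2 (Or.inl this)
        · exact Finset.mem_insert_of_mem (hsub i hi hiS)
      rw [dot_eq_sum hcov, Finset.sum_insert hφT, a1, b1] at hwz
      have h1 : |∑ i ∈ (supp w \ S) ∩ (supp z \ S), w i * z i| ≤ 1 := by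
        refine (Finset.abs_sum_le_sum_abs _ _).trans ?_
        calc _ ≤ ∑ i ∈ (supp w \ S) ∩ (supp z \ S), (1 : ℤ) := Finset.sum_le_sum fun i _ => by
              rcases hUw i with e | e | e <;> rcases hUz i with e' | e' | e' <;> simp [e, e']
          _ ≤ 1 := by simpa using hle1
      rw [abs_le] at h1
      rcases hδ with e | e <;> rw [e] at hwz <;> omega
    · have hcov : supp w ∩ supp z ⊆ (supp w \ S) ∩ (supp z \ S) := by
        intro i hi
        refine hsub i hi fun hiS => ?_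
        have : i ∈ supp w ∩ S := Finset.mem_inter.2 ⟨(Finset.mem_inter.1 hi).1, hiS⟩
        rw [a2, Finset.mem_singleton] at this
        exact b4 (this ▸ (Finset.mem_inter.1 hi).2)
      have := hUw.abs_dot_le hUz hcov
      rw [hwz] at this
      rw [abs_neg, abs_one] at this
      omega
    · have hcov : supp w ∩ supp z ⊆ (supp w \ S) ∩ (supp z \ S) := by
        intro i hi
        refine hsub i hi fun hiS => ?_
        have : i ∈ supp z ∩ S := Finset.mem_inter.2 ⟨(Finset.mem_inter.1 hi).2, hiS⟩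
        rw [b2, Finset.mem_singleton] at this
        exact a4 (this ▸ (Finset.mem_inter.1 hi).1)
      have := hUw.abs_dot_le hUz hcov
      rw [hwz] at this
      rw [abs_neg, abs_one] at this
      omega
    · omega
  have hsub : S ∪ (V₂.biUnion supp ∪ V₃.biUnion supp) ⊆ (S ∪ ((supp w ∪ supp z) \ S)) ∪ (T₂ ∪ T₃) := by
    intro i hi
    simp only [Finset.mem_union, Finset.mem_sdiff] at hi ⊢
    by_cases hiS : i ∈ S
    · exact Or.inl (Or.inl hiS)
    rcases hi with h | h | h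
    · exact absurd h hiS
    · rcases Finset.mem_union.1 (hs₂ h) with h | h
      · exact Or.inl (Or.inr ⟨Or.inl h, hiS⟩)
      · exact Or.inr (Or.inl h)
    · rcases Finset.mem_union.1 (hs₃ h) with h | h
      · exact Or.inl (Or.inr ⟨Or.inr h, hiS⟩)
      · exact Or.inr (Or.inr h)
  have h1 := Finset.card_le_card hsub
  have h2 := Finset.card_union_le (S ∪ ((supp w ∪ supp z) \ S)) (T₂ ∪ T₃)
  have h3 := Finset.card_union_le S ((supp w ∪ supp z) \ S)
  have h4 := Finset.card_union_le T₂ T₃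
  omega

end CfsgLib.Recog.SuzThree
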