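import Cfsg.Agent.Lib.Recog.SuzThree.Basic
import Cfsg.Agent.Lib.Recog.SuzThree.Vectors
import Cfsg.Agent.Lib.Perm.ZassG.CharInd
import Cfsg.Agent.Lib.CharApps.ClassCount

/-!
# The virtual characters induced from a strongly self-centralizing subgroup
-/

set_option autoImplicit false
set_option linter.style.haveILetI false
set_option linter.unusedSectionVars false

namespace CfsgLib.Recog.SuzThree

open Cfsg CfsgLib.Chars CfsgLib.CharApps Subgroup
open CfsgLib.Perm.ZassG (sum_hom_eq conj_hom card_dual sum_dual)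
open scoped ComplexConjugate Classical

universe u

variable {G : Type u} [Group G] [Fintype G] {A B : Subgroup G} {e f : ℕ}

/-- Conjugation by an element of the normalizer. -/
def conjHom (A : Subgroup G) (x : normalizer (A : Set G)) : A →* A where
  toFun c := ⟨(x : G)⁻¹ * c * x, by
    simpa using (Subgroup.mem_normalizer_iff.1 (inv_mem x.2) c).1 c.2⟩
  map_one' := Subtype.ext (by simp)
  map_mul' c d := Subtype.ext (by simp [mul_assoc])

/-- The twisted character. -/
def tw (χ : A →* ℂˣ) (x : normalizer (A : Set G)) : A →* ℂˣ := χ.comp (conjHom A x)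

/-- The orbit relation on the dual. -/
def Orb (χ ν : A →* ℂˣ) : Prop := ∃ x : normalizer (A : Set G), tw ν x = χ

theorem tw_mul (χ : A →* ℂˣ) (x y : normalizer (A : Set G)) : tw (tw χ x) y = tw χ (y * x) :=
  MonoidHom.ext fun c => congrArg χ (Subtype.ext (by simp [conjHom, mul_assoc]))

theorem tw_one (χ : A →* ℂˣ) : tw χ 1 = χ :=
  MonoidHom.ext fun c => congrArg χ (Subtype.ext (by simp [conjHom]))

theorem tw_eq_one {χ : A →* ℂˣ} {x : normalizer (A : Set G)} (h : tw χ x = 1) : χ = 1 := by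
  have := congrArg (fun ν => tw ν x⁻¹) h
  simp only [tw_mul, inv_mul_cancel, tw_one] at this
  rw [this]
  exact MonoidHom.ext fun c => rfl

theorem CC.commute' (h : CC A e) (x y : A) : x * y = y * x := Subtype.ext (h.commute x.2 y.2).eq

/-- A nonprincipal linear character is fixed only by `A`. -/
theorem CC.tw_eq_self_iff (h : CC A e) {χ : A →* ℂˣ} (hχ : χ ≠ 1) {x : normalizer (A : Set G)} :
    tw χ x = χ ↔ (x : G) ∈ A := by
  refine ⟨fun hx => ?_, fun hx => MonoidHom.ext fun c => congrArg χ (Subtype.ext ?_)⟩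
  · by_contra hxA
    refine hχ (MonoidHom.ext fun d => ?_)
    let F : A → A := fun c => c⁻¹ * conjHom A x c
    have hF : Function.Injective F := by
      intro a b hab
      have h2 : conjHom A x (a * b⁻¹) = a * b⁻¹ := by
        rw [map_mul, map_inv, mul_inv_eq_iff_eq_mul]
        have h3 : conjHom A x a = a * F a := by simp [F]
        have h4 : conjHom A x b = b * F b := by simp [F]
        rw [h3, h4, hab]; group
      by_contra hne
      refine hxA ?_
      have h5 := congrArg Subtype.val h2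
      simpa using inv_mem (h.mem_of_fix (g := (x : G)⁻¹) (a * b⁻¹).2
        (fun e1 => hne (mul_inv_eq_one.1 (Subtype.ext e1))) (by simpa [conjHom] using h5))
    obtain ⟨c, rfl⟩ := (Finite.injective_iff_surjective.1 hF) d
    show χ (c⁻¹ * conjHom A x c) = 1
    rw [map_mul, map_inv, inv_mul_eq_one]
    exact (DFunLike.congr_fun hx c).symm
  · show (x : G)⁻¹ * c * x = c
    rw [mul_assoc, (h.commute c.2 hx).eq, inv_mul_cancel_left]

theorem CC.card_fiber (h : CC A e) {χ ν : A →* ℂˣ} (hν : ν ≠ 1) :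
    Nat.card {x : normalizer (A : Set G) // tw ν x = χ} =
      if Orb χ ν then Nat.card A else 0 := by
  split_ifs with ho
  · obtain ⟨x₀, rfl⟩ := ho
    refine Nat.card_congr
      { toFun := fun x => ⟨((x₀⁻¹ * x.1 : normalizer (A : Set G)) : G), (h.tw_eq_self_iff hν).1 ?_⟩
        invFun := fun a => ⟨x₀ * ⟨a, Subgroup.le_normalizer a.2⟩, ?_⟩
        left_inv := fun x => Subtype.ext (Subtype.ext (mul_inv_cancel_left _ _))
        right_inv := fun a => Subtype.ext (inv_mul_cancel_left _ _) }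
    · rw [← tw_mul, x.2, tw_mul, inv_mul_cancel, tw_one]
    · rw [← tw_mul, (h.tw_eq_self_iff hν).2 a.2]
  · haveI : IsEmpty {x : normalizer (A : Set G) // tw ν x = χ} := ⟨fun x => ho ⟨x.1, x.2⟩⟩
    exact Nat.card_of_isEmpty

/-- The values on `A` of a function induced from `A` vanishing at the identity. -/
theorem CC.ind_apply (h : CC A e) {ψ : A → ℂ} (h1 : ψ 1 = 0) (c : A) :
    indFun A ψ (c : G) =
      (Nat.card A : ℂ)⁻¹ * ∑ x : normalizer (A : Set G), ψ (conjHom A x c) := by
  by_cases hc : c = 1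
  · subst hc; simp [indFun_one_apply, h1]
  rw [indFun_apply]
  congr 1
  rw [← Finset.sum_subset (Finset.subset_univ (Finset.univ.filter (· ∈ normalizer (A : Set G))))
    fun x _ hx => extendByZero_of_not_mem A ψ fun hm => hx (Finset.mem_filter.2 ⟨Finset.mem_univ _,
      by simpa using inv_mem (h.mem_normalizer (g := x⁻¹) c.2 (fun e1 => hc (Subtype.ext e1))
        (by simpa using hm))⟩), Finset.sum_subtype (p := fun x => x ∈ normalizer (A : Set G)) _ (fun x => by simp)]
  exact Finset.sum_congr rfl fun x _ => extendByZero_coe A ψ (conjHom A x c)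

theorem indFun_eq_zero {ψ : A → ℂ} (h1 : ψ 1 = 0) {g : G} (hg : ¬ Meets A g) :
    indFun A ψ g = 0 := by
  by_cases hg1 : g = 1
  · subst hg1; simp [indFun_one_apply, h1]
  rw [indFun_apply, Finset.sum_eq_zero fun y _ => extendByZero_of_not_mem A ψ fun hm =>
    hg ⟨y⁻¹ * g * y, hm, fun e1 => hg1 (by
      simpa [mul_assoc] using congrArg (fun z => y * z * y⁻¹) e1), isConj_iff.2 ⟨y, by group⟩⟩, mul_zero]

section coefficients

variable [Fintype (IrrCharacter G)]

/-- The coefficient of a nonprincipal character in `Ind (1 - λ)`. -/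
noncomputable def coeff (A : Subgroup G) (χ : A →* ℂˣ) (X : IrrCharacter G) : ℂ :=
  if X = principal G then 0 else classInner (indFun A fun c => 1 - (χ c : ℂ)) (X : G → ℂ)

theorem coeff_int (χ : A →* ℂˣ) (X : IrrCharacter G) : ∃ k : ℤ, coeff A χ X = k := by
  unfold coeff
  split_ifs
  · exact ⟨0, by simp⟩
  · exact (isGeneralized_iff_inner.1 (isGeneralized_indFun A
      ⟨fun _ => 1, fun c => (χ c : ℂ), isCharacter_one,
        isCharacter_of_irr (isIrrCharacter_linear χ), rfl⟩)).2 X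

/-- The integer coefficient. -/
noncomputable def vec (A : Subgroup G) (χ : A →* ℂˣ) (X : IrrCharacter G) : ℤ :=
  (coeff_int (A := A) χ X).choose

theorem vec_spec (χ : A →* ℂˣ) (X : IrrCharacter G) : (vec A χ X : ℂ) = coeff A χ X :=
  (coeff_int (A := A) χ X).choose_spec.symm

theorem vec_principal (χ : A →* ℂˣ) : vec A χ (principal G) = 0 := by
  have h := vec_spec χ (principal G)
  rw [coeff, if_pos rfl] at h
  exact_mod_cast h

theorem vec_spec' (χ : A →* ℂˣ) {X : IrrCharacter G} (hX : X ≠ principal G) :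
    (vec A χ X : ℂ) = (Nat.card A : ℂ)⁻¹ * ∑ c : A, (1 - (χ c : ℂ)) * conj ((X : G → ℂ) c) := by
  rw [vec_spec, coeff, if_neg hX, inner_indFun A _ (isClassFunction_irr X), inner_def]

theorem vec_one {X : IrrCharacter G} : vec A (1 : A →* ℂˣ) X = 0 := by
  by_cases hX : X = principal G
  · subst hX; exact vec_principal _
  have := vec_spec' (A := A) 1 hX
  simp at this
  exact_mod_cast this

/-- Values on `A`. -/
theorem CC.value_eq (h : CC A e) [Fintype (A →* ℂˣ)] {X : IrrCharacter G}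
    (hX : X ≠ principal G) {c : A} (hc : c ≠ 1) :
    (X : G → ℂ) c = -∑ χ : A →* ℂˣ, (χ c : ℂ) * (vec A χ X : ℂ) := by
  have hcC : (Nat.card A : ℂ) ≠ 0 := card_ne_zero A
  have e1 : ∀ χ : A →* ℂˣ, (χ c : ℂ) * (vec A χ X : ℂ) =
      (Nat.card A : ℂ)⁻¹ * ∑ d : A, ((χ c : ℂ) - (χ (c * d⁻¹) : ℂ)) * (X : G → ℂ) d := by
    intro χ
    have h1 : (vec A χ X : ℂ) = conj (vec A χ X : ℂ) := (map_intCast _ _).symm
    rw [h1, vec_spec' χ hX, map_mul, map_inv₀, map_natCast, map_sum, ← mul_assoc,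
      mul_comm (χ c : ℂ), mul_assoc, Finset.mul_sum]
    congr 1
    refine Finset.sum_congr rfl fun d _ => ?_
    rw [map_mul (conj), map_sub, map_one, Complex.conj_conj, conj_hom, MonoidHom.inv_apply,
      ← map_inv, map_mul χ, Units.val_mul]
    ring
  rw [Finset.sum_congr rfl fun χ _ => e1 χ, ← Finset.mul_sum, Finset.sum_comm]
  simp only [← Finset.sum_mul, Finset.sum_sub_distrib, sum_dual h.commute', if_neg hc, zero_sub]
  rw [Finset.sum_eq_single c
    (fun d _ hd => by rw [if_neg (fun e => hd (mul_inv_eq_one.1 e).symm)]; simp)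
    (fun hh => absurd (Finset.mem_univ _) hh), if_pos (mul_inv_cancel c)]
  field_simp

theorem inner_principal {χ : A →* ℂˣ} (hχ : χ ≠ 1) :
    classInner (indFun A fun c => 1 - (χ c : ℂ)) (principal G : G → ℂ) = 1 := by
  rw [inner_indFun A _ (isClassFunction_irr (principal G)), inner_def]
  simp only [principal_apply, map_one, mul_one, Finset.sum_sub_distrib, sum_hom_eq, if_neg hχ,
    sub_zero]
  rw [Finset.sum_const, Finset.card_univ, ← Nat.card_eq_fintype_card, nsmul_eq_mul, mul_one,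
    inv_mul_cancel₀ (card_ne_zero A)]

theorem inner_eq_vec {χ : A →* ℂˣ} (hχ : χ ≠ 1) (X : IrrCharacter G) :
    classInner (indFun A fun c => 1 - (χ c : ℂ)) (X : G → ℂ) =
      (vec A χ X : ℂ) + if X = principal G then 1 else 0 := by
  by_cases hX : X = principal G
  · subst hX; rw [inner_principal hχ, vec_principal]; simp
  · rw [vec_spec, coeff, if_neg hX, if_neg hX, add_zero]

theorem dot_eq {χ : A →* ℂˣ} {ν : B →* ℂˣ} (hχ : χ ≠ 1) (hν : ν ≠ 1) :
    ((dot (vec A χ) (vec B ν) : ℤ) : ℂ) = classInner (indFun A fun c => 1 - (χ c : ℂ))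
      (indFun B fun c => 1 - (ν c : ℂ)) - 1 := by
  rw [inner_eq_sum (isClassFunction_indFun A _) _]
  simp only [inner_eq_vec hχ, inner_eq_vec hν, dot]
  rw [eq_sub_iff_add_eq, Int.cast_sum]
  have : ∀ X : IrrCharacter G, ((vec A χ X : ℂ) + if X = principal G then 1 else 0) *
      conj ((vec B ν X : ℂ) + if X = principal G then 1 else 0) =
      ((vec A χ X * vec B ν X : ℤ) : ℂ) + if X = principal G then 1 else 0 := by
    intro X
    split_ifs with hX
    · subst hX; simp [vec_principal]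
    · simp
  rw [Finset.sum_congr rfl fun X _ => this X, Finset.sum_add_distrib, Finset.sum_ite_eq',
    if_pos (Finset.mem_univ _)]

theorem CC.dot_self (h : CC A e) {χ ν : A →* ℂˣ} (hχ : χ ≠ 1) (hν : ν ≠ 1) :
    dot (vec A χ) (vec A ν) = (e : ℤ) - 1 + if Orb χ ν then 1 else 0 := by
  have hcC : (Nat.card A : ℂ) ≠ 0 := card_ne_zero A
  have hh := dot_eq (A := A) (B := A) hχ hν
  rw [inner_indFun A _ (isClassFunction_indFun A _), inner_def] at hh
  simp only [h.ind_apply (ψ := fun c : A => 1 - (ν c : ℂ)) (by simp), map_mul, map_inv₀,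
    map_natCast, map_sum, map_sub, map_one] at hh
  have e1 : ∀ x : normalizer (A : Set G), ∑ c : A, (1 - (χ c : ℂ)) *
      (1 - conj ((ν (conjHom A x c)) : ℂ)) =
      (Nat.card A : ℂ) + if tw ν x = χ then (Nat.card A : ℂ) else 0 := by
    intro x
    have h1 : ∀ c : A, (1 - (χ c : ℂ)) * (1 - conj ((ν (conjHom A x c)) : ℂ)) =
        1 - (χ c : ℂ) - (((tw ν x)⁻¹ : A →* ℂˣ) c : ℂ) +
          ((χ * (tw ν x)⁻¹ : A →* ℂˣ) c : ℂ) := by
      intro c
      have : conj ((ν (conjHom A x c)) : ℂ) = (((tw ν x)⁻¹ : A →* ℂˣ) c : ℂ) :=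
        (conj_hom (tw ν x) c).trans rfl
      rw [this, MonoidHom.mul_apply, Units.val_mul]
      ring
    have hne : (tw ν x)⁻¹ ≠ 1 := fun e1 => hν (tw_eq_one (x := x) (MonoidHom.ext fun c => by
      simpa using DFunLike.congr_fun e1 c))
    rw [Finset.sum_congr rfl fun c _ => h1 c, Finset.sum_add_distrib, Finset.sum_sub_distrib,
      Finset.sum_sub_distrib, sum_hom_eq, sum_hom_eq, sum_hom_eq, if_neg hχ, if_neg hne,
      Finset.sum_const, Finset.card_univ, ← Nat.card_eq_fintype_card, nsmul_eq_mul, mul_one,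
      sub_zero, sub_zero]
    by_cases he : tw ν x = χ
    · rw [if_pos he, if_pos (by rw [he]; exact MonoidHom.ext fun c => by simp)]
    · rw [if_neg he, if_neg fun e1 => he (MonoidHom.ext fun c => ?_)]
      have h9 := DFunLike.congr_fun e1 c
      simp only [MonoidHom.mul_apply, MonoidHom.inv_apply, MonoidHom.one_apply, mul_inv_eq_one] at h9
      exact h9.symm
  have e2 : ∑ c : A, (1 - (χ c : ℂ)) * ((Nat.card A : ℂ)⁻¹ * ∑ x : normalizer (A : Set G),
      (1 - conj ((ν (conjHom A x c)) : ℂ))) = (Nat.card A : ℂ)⁻¹ *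
      ((Nat.card (normalizer (A : Set G)) : ℂ) * Nat.card A +
        ((Finset.univ.filter fun x => tw ν x = χ).card : ℂ) * Nat.card A) := by
    simp only [Finset.mul_sum]
    rw [Finset.sum_comm]
    simp only [← mul_assoc, mul_comm _ ((Nat.card A : ℂ)⁻¹)]
    simp only [mul_assoc, ← Finset.mul_sum]
    congr 1
    rw [Finset.sum_congr rfl fun x _ => e1 x, Finset.sum_add_distrib, ← Finset.sum_filter,
      Finset.sum_const, Finset.sum_const, Finset.card_univ, ← Nat.card_eq_fintype_card,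
      nsmul_eq_mul, nsmul_eq_mul]
  rw [e2, ← Fintype.card_subtype, ← Nat.card_eq_fintype_card, h.card_fiber hν, h.card_norm] at hh
  have h3 : ((dot (vec A χ) (vec A ν) : ℤ) : ℂ) =
      (((e : ℤ) - 1 + if Orb χ ν then 1 else 0 : ℤ) : ℂ) := by
    rw [hh]
    split_ifs <;> push_cast <;> field_simp <;> ring
  exact_mod_cast h3

theorem CC.dot_cross (hA : CC A e) (hB : CC B f)
    (hne : ∀ g : G, A.map (MulAut.conj g).toMonoidHom ≠ B) {χ : A →* ℂˣ} {ν : B →* ℂˣ}
    (hχ : χ ≠ 1) (hν : ν ≠ 1) : dot (vec A χ) (vec B ν) = -1 := by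
  have hh := dot_eq (A := A) (B := B) hχ hν
  rw [inner_indFun A _ (isClassFunction_indFun B _), inner_def, Finset.sum_eq_zero, mul_zero,
    zero_sub] at hh
  · exact_mod_cast hh
  intro c _
  by_cases hc : c = 1
  · subst hc; simp
  have hmA : Meets A (c : G) := meets_of_mem c.2 fun e1 => hc (Subtype.ext e1)
  rw [indFun_eq_zero (by simp) fun hmB => ?_, map_zero, mul_zero]
  obtain ⟨g, hg⟩ := hA.exists_conj_eq hB hmA hmB
  exact hne g hg

/-- The values of `Ind (1 - λ)` away from the conjugates of `A`. -/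
theorem sum_vec_out {χ : A →* ℂˣ} (hχ : χ ≠ 1) {g : G} (hg : ¬ Meets A g) :
    ∑ X : IrrCharacter G, (vec A χ X : ℂ) * (X : G → ℂ) g = -1 := by
  have h1 := congrFun (classFun_eq_sum (isClassFunction_indFun A fun c => 1 - (χ c : ℂ))) g
  simp only [Finset.sum_apply, Pi.smul_apply, smul_eq_mul, inner_eq_vec hχ, add_mul, ite_mul,
    zero_mul, Finset.sum_add_distrib, Finset.sum_ite_eq', Finset.mem_univ, if_true,
    principal_apply, one_mul] at h1
  rw [indFun_eq_zero (by simp) hg] at h1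
  linear_combination -h1

theorem sum_vec_deg {χ : A →* ℂˣ} (hχ : χ ≠ 1) :
    ∑ X : IrrCharacter G, vec A χ X * (charDegree (X : G → ℂ) : ℤ) = -1 := by
  have h := sum_vec_out hχ (A := A) (g := 1) not_meets_one
  simp only [deg_eq] at h
  exact_mod_cast h

/-- Two classes of which no product meets `A`. -/
theorem sum_vec_pairs {χ : A →* ℂˣ} (hχ : χ ≠ 1) (u t : G)
    (hno : ∀ a b : G, ¬ Meets A (a * u * a⁻¹ * (b * t * b⁻¹))) :
    1 + ∑ X : IrrCharacter G, (vec A χ X : ℂ) *
      ((X : G → ℂ) u * (X : G → ℂ) t / (X : G → ℂ) 1) = 0 := by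
  set θ := indFun A fun c => 1 - (χ c : ℂ)
  let P : G → ℕ := fun x =>
    Nat.card {ab : G × G // (ab.1 * u * ab.1⁻¹) * (ab.2 * t * ab.2⁻¹) = x}
  have hz : ∀ x : G, θ x * (P x : ℂ) = 0 := by
    intro x
    by_cases hx : Meets A x
    · haveI : IsEmpty {ab : G × G // (ab.1 * u * ab.1⁻¹) * (ab.2 * t * ab.2⁻¹) = x} :=
        ⟨fun ⟨ab, hab⟩ => hno ab.1 ab.2 (by rw [hab]; exact hx)⟩
      simp [P]
    · rw [show θ x = 0 from indFun_eq_zero (by simp) hx, zero_mul]
  have hP : ∀ x : G, (P x : ℂ) = (Nat.card G : ℂ) * ∑ W : IrrCharacter G,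
      (W : G → ℂ) u * (W : G → ℂ) t * (W : G → ℂ) x⁻¹ / (W : G → ℂ) 1 :=
    fun x => card_conj_mul_conj u t x
  have hR : ∀ W : IrrCharacter G, ∑ x : G, θ x * (W : G → ℂ) x⁻¹ =
      (Nat.card G : ℂ) * classInner θ (W : G → ℂ) := fun W => by
    rw [inner_def, mul_inv_cancel_left₀ (card_ne_zero G)]
    exact Finset.sum_congr rfl fun x _ => by rw [irr_inv]
  have h2 : ∑ x : G, θ x * (P x : ℂ) = (Nat.card G : ℂ) * ((Nat.card G : ℂ) *
      (1 + ∑ W, (vec A χ W : ℂ) * ((W : G → ℂ) u * (W : G → ℂ) t / (W : G → ℂ) 1))) := by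
    have e2 : 1 + ∑ W, (vec A χ W : ℂ) * ((W : G → ℂ) u * (W : G → ℂ) t / (W : G → ℂ) 1) =
        ∑ W : IrrCharacter G, classInner θ (W : G → ℂ) *
          ((W : G → ℂ) u * (W : G → ℂ) t / (W : G → ℂ) 1) := by
      simp only [θ, inner_eq_vec hχ, add_mul, ite_mul, zero_mul, one_mul, Finset.sum_add_distrib,
        Finset.sum_ite_eq', Finset.mem_univ, if_true, principal_apply, div_one, mul_one]
      ring
    rw [e2]
    simp only [hP, Finset.mul_sum]
    rw [Finset.sum_comm]
    refine Finset.sum_congr rfl fun W _ => ?_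
    rw [← mul_assoc (Nat.card G : ℂ) (classInner θ _), ← hR W, Finset.sum_mul, Finset.mul_sum]
    exact Finset.sum_congr rfl fun x _ => by ring
  rw [Finset.sum_eq_zero fun x _ => hz x, eq_comm, mul_eq_zero, mul_eq_zero] at h2
  exact (h2.resolve_left (card_ne_zero G)).resolve_left (card_ne_zero G)

/-- The vectors of the family. -/
noncomputable def fam (A : Subgroup G) [Fintype (A →* ℂˣ)] : Finset (IrrCharacter G → ℤ) :=
  (Finset.univ.filter fun χ : A →* ℂˣ => χ ≠ 1).image (vec A)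

theorem mem_fam [Fintype (A →* ℂˣ)] {v : IrrCharacter G → ℤ} :
    v ∈ fam A ↔ ∃ χ : A →* ℂˣ, χ ≠ 1 ∧ vec A χ = v := by simp [fam]

theorem CC.orb_iff (h : CC A e) {χ ν : A →* ℂˣ} (hχ : χ ≠ 1) (hν : ν ≠ 1) :
    vec A χ = vec A ν ↔ Orb χ ν := by
  have h2 := h.dot_self hχ hχ
  rw [if_pos ⟨1, tw_one χ⟩] at h2
  have h3 := h.dot_self hν hν
  rw [if_pos ⟨1, tw_one ν⟩] at h3
  have h4 := h.dot_self hχ hν
  constructor
  · intro he
    by_contra ho
    rw [if_neg ho, ← he, h2] at h4
    omega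
  · intro ho
    rw [if_pos ho] at h4
    have h5 : ∑ X, (vec A χ X - vec A ν X) ^ 2 = 0 := by
      have : ∑ X, (vec A χ X - vec A ν X) ^ 2 =
          dot (vec A χ) (vec A χ) - 2 * dot (vec A χ) (vec A ν) + dot (vec A ν) (vec A ν) := by
        simp only [dot, Finset.mul_sum, ← Finset.sum_sub_distrib, ← Finset.sum_add_distrib]
        exact Finset.sum_congr rfl fun X _ => by ring
      rw [this, h2, h3, h4]; ring
    funext X
    exact sub_eq_zero.1 (pow_eq_zero_iff two_ne_zero |>.1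
      ((Finset.sum_eq_zero_iff_of_nonneg fun i _ => sq_nonneg _).1 h5 X (Finset.mem_univ X)))

theorem CC.card_fam (h : CC A e) [Fintype (A →* ℂˣ)] :
    e * (fam A).card + 1 = Nat.card A := by
  have hfib : ∀ v ∈ fam A, ((Finset.univ.filter fun χ : A →* ℂˣ => χ ≠ 1).filter
      fun χ => vec A χ = v).card = e := by
    intro v hv
    obtain ⟨ν, hν, rfl⟩ := mem_fam.1 hv
    have he : ((Finset.univ.filter fun χ : A →* ℂˣ => χ ≠ 1).filter fun χ => vec A χ = vec A ν) =
        Finset.univ.image (tw ν) := by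
      ext χ
      simp only [Finset.mem_filter, Finset.mem_univ, true_and, Finset.mem_image]
      constructor
      · rintro ⟨hχ, hh⟩; exact (h.orb_iff hχ hν).1 hh
      · rintro ⟨x, rfl⟩
        have hne : tw ν x ≠ 1 := fun e1 => hν (tw_eq_one e1)
        exact ⟨hne, (h.orb_iff hne hν).2 ⟨x, rfl⟩⟩
    rw [he]
    have h1 : (Finset.univ : Finset (normalizer (A : Set G))).card =
        (Finset.univ.image (tw ν)).card * Nat.card A := by
      rw [Finset.card_eq_sum_card_image (tw ν), Finset.sum_congr rfl (g := fun _ => Nat.card A)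
        fun χ hχ => ?_, Finset.sum_const, smul_eq_mul]
      obtain ⟨x, -, rfl⟩ := Finset.mem_image.1 hχ
      rw [← Fintype.card_subtype, ← Nat.card_eq_fintype_card, h.card_fiber hν, if_pos ⟨x, rfl⟩]
    rw [Finset.card_univ, ← Nat.card_eq_fintype_card, h.card_norm] at h1
    exact (Nat.eq_of_mul_eq_mul_right Nat.card_pos h1).symm
  have h2 := Finset.card_eq_sum_card_image (vec A) (Finset.univ.filter fun χ : A →* ℂˣ => χ ≠ 1)
  rw [show (Finset.univ.filter fun χ : A →* ℂˣ => χ ≠ 1).image (vec A) = fam A from rfl,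
    Finset.sum_congr rfl hfib, Finset.sum_const, smul_eq_mul, Finset.filter_ne',
    Finset.card_erase_of_mem (Finset.mem_univ _), Finset.card_univ, ← Nat.card_eq_fintype_card,
    card_dual h.commute'] at h2
  have := h.pos
  rw [mul_comm]
  omega

/-- A character outside all supports vanishes on `A`. -/
theorem CC.eq_zero_of_not_supp (h : CC A e) [Fintype (A →* ℂˣ)] {X : IrrCharacter G}
    (hX : X ≠ principal G) (hs : ∀ v ∈ fam A, v X = 0) {c : G} (hc : c ∈ A) (h1 : c ≠ 1) :
    (X : G → ℂ) c = 0 := by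
  have := h.value_eq hX (c := ⟨c, hc⟩) fun e1 => h1 (congrArg Subtype.val e1)
  rw [Finset.sum_eq_zero fun χ _ => ?_, neg_zero] at this
  · exact this
  by_cases hχ : χ = 1
  · subst hχ; rw [vec_one]; simp
  · rw [hs _ (mem_fam.2 ⟨χ, hχ, rfl⟩)]; simp

end coefficients

end CfsgLib.Recog.SuzThree
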