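import Cfsg.Agent.Lib.Recog.SuzThree.RBound
import Cfsg.Agent.Lib.Recog.CIT.Defs

/-!
# The centralizer of every involution is a 2-group
-/

set_option autoImplicit false
set_option linter.style.haveILetI false
set_option linter.unusedSectionVars false
set_option linter.unusedVariables false

namespace CfsgLib.Recog.SuzThree

open CfsgLib.Chars CfsgLib.CharApps Subgroup
open scoped Classical

universe u

/-- A group of exponent four with at most one involution has at most eight elements. -/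
theorem card_le_eight {P : Type*} [Group P] (s : P) (hs : s * s = 1)
    (huniq : ∀ q : P, q * q = 1 → q = 1 ∨ q = s) (h4 : ∀ q : P, q ^ 4 = 1) : Nat.card P ≤ 8 := by
  have hsq : ∀ q : P, q * q = 1 ∨ q * q = s := fun q => huniq _ (by
    rw [← h4 q, show (4 : ℕ) = 2 + 2 from rfl, pow_add, sq])
  have hE : ∀ {p q : P}, (p = 1 ∨ p = s) → (q = 1 ∨ q = s) → (p * q = 1 ∨ p * q = s) := by
    rintro p q (rfl | rfl) (rfl | rfl) <;> simp [hs]
  have hcs : ∀ q : P, q * s = s * q := fun q => by
    rcases huniq (q * s * q⁻¹) (by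
      rw [show q * s * q⁻¹ * (q * s * q⁻¹) = q * (s * s) * q⁻¹ by group, hs]; group) with e | e
    · rw [conj_eq_one_iff.1 e, mul_one, one_mul]
    · exact mul_inv_eq_iff_eq_mul.1 e
  have hcomm : ∀ a b : P, b * a = a * b ∨ b * a = s * (a * b) := fun a b => by
    rcases hE (hE (hsq b) (hsq (b⁻¹ * a))) (hsq a⁻¹) with e | e
    · left
      calc b * a = (b * b * (b⁻¹ * a * (b⁻¹ * a)) * (a⁻¹ * a⁻¹)) * (a * b) := by group
        _ = a * b := by rw [e, one_mul]
    · right
      calc b * a = (b * b * (b⁻¹ * a * (b⁻¹ * a)) * (a⁻¹ * a⁻¹)) * (a * b) := by group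
        _ = s * (a * b) := by rw [e]
  by_cases hall : ∀ q : P, q * q = 1
  · refine le_trans (Nat.card_le_card_of_surjective (α := Fin 2) ![1, s] fun q => ?_) (by simp)
    rcases huniq q (hall q) with e | e
    · exact ⟨0, by simp [e]⟩
    · exact ⟨1, by simp [e]⟩
  push Not at hall
  obtain ⟨u, hu⟩ := hall
  have huu : u * u = s := (hsq u).resolve_left hu
  have hfour : ∀ w : P, w * u = u * w → w = 1 ∨ w = s ∨ w = u ∨ w = u * s := by
    intro w hw
    rcases hsq w with hw2 | hw2
    · rcases huniq w hw2 with e | e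
      · exact Or.inl e
      · exact Or.inr (Or.inl e)
    · have h1 : u * w * (u * w) = 1 := by
        rw [show u * w * (u * w) = u * (w * u) * w by group, hw,
          show u * (u * w) * w = (u * u) * (w * w) by group, huu, hw2, hs]
      have hui : u⁻¹ = u * s := inv_eq_of_mul_eq_one_right (by rw [← mul_assoc, huu, hs])
      rcases huniq _ h1 with e | e
      · refine Or.inr (Or.inr (Or.inr ?_))
        rw [← hui]
        exact eq_inv_of_mul_eq_one_right e
      · refine Or.inr (Or.inr (Or.inl ?_))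
        rw [show w = u⁻¹ * (u * w) by group, e, hui, mul_assoc, hs, mul_one]
  by_cases hallc : ∀ w : P, w * u = u * w
  · refine le_trans (Nat.card_le_card_of_surjective (α := Fin 4) ![1, s, u, u * s] fun q => ?_)
      (by simp)
    rcases hfour q (hallc q) with e | e | e | e
    · exact ⟨0, by simp [e]⟩
    · exact ⟨1, by simp [e]⟩
    · exact ⟨2, by simp [e]⟩
    · exact ⟨3, by simp [e]⟩
  push Not at hallc
  obtain ⟨v, hv⟩ := hallc
  have hv' : v * u = s * (u * v) := (hcomm u v).resolve_left hv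
  refine le_trans (Nat.card_le_card_of_surjective (α := Fin 8)
    ![1, s, u, u * s, v⁻¹ * 1, v⁻¹ * s, v⁻¹ * u, v⁻¹ * (u * s)] fun w => ?_) (by simp)
  rcases hcomm u w with hw | hw
  · rcases hfour w hw with e | e | e | e
    · exact ⟨0, by simp [e]⟩
    · exact ⟨1, by simp [e]⟩
    · exact ⟨2, by simp [e]⟩
    · exact ⟨3, by simp [e]⟩
  · have h1 : v * w * u = u * (v * w) := by
      calc v * w * u = v * (w * u) := mul_assoc _ _ _
        _ = (v * s) * (u * w) := by rw [hw]; group
        _ = s * (v * u) * w := by rw [hcs v]; group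
        _ = (s * s) * (u * (v * w)) := by rw [hv']; group
        _ = u * (v * w) := by rw [hs, one_mul]
    have hw' : w = v⁻¹ * (v * w) := (inv_mul_cancel_left v w).symm
    rcases hfour (v * w) h1 with e | e | e | e <;> rw [e] at hw'
    · exact ⟨4, by rw [hw']; simp⟩
    · exact ⟨5, by rw [hw']; simp⟩
    · exact ⟨6, by rw [hw']; simp⟩
    · exact ⟨7, by rw [hw']; simp⟩

variable {G : Type u} [Group G] [Finite G] {A₁ A₂ A₃ : Subgroup G} {r : ℕ} {y t x : G}
  {R : Subgroup G}

/-- A lower bound for the number of elements meeting `A`. -/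
theorem CC.meets_ge {A : Subgroup G} {e a b : ℕ} (hA : CC A e) (hab : a * Nat.card A ≤ b * mcl A) :
    a * Nat.card G ≤ b * Nat.card {g : G // Meets A g} := by
  refine Nat.le_of_mul_le_mul_left ?_ (Nat.card_pos (α := A))
  calc Nat.card A * (a * Nat.card G) = a * Nat.card A * Nat.card G := by ring
    _ ≤ b * mcl A * Nat.card G := Nat.mul_le_mul_right _ hab
    _ = b * (mcl A * Nat.card G) := by ring
    _ = Nat.card A * (b * Nat.card {g : G // Meets A g}) := by
      rw [mcl, ← hA.card_meets]; ring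

namespace Bad

variable (B : Bad A₁ A₂ A₃ r y t x)
include B

/-- With `r = 3` the three classes numbers are larger. -/
theorem mcl_bounds (hr3 : r = 3) :
    3 ≤ mcl A₂ ∧ 3 ≤ mcl A₃ ∧ mcl A₂ ≠ mcl A₃ := by
  have hnd := B.not_dvd
  rw [hr3] at hnd
  obtain ⟨a2, b2⟩ := B.T.mcl₂
  obtain ⟨a3, b3⟩ := B.T.mcl₃
  have h2 : ¬ 3 ∣ Nat.card A₂ := fun h => hnd ((h.mul_left _).mul_right _)
  have h3 : ¬ 3 ∣ Nat.card A₃ := fun h => hnd (h.mul_left _)
  refine ⟨by omega, by omega, fun e => ?_⟩
  have h := B.T.h₂.coprime B.T.h₃ B.T.ne₂₃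
  rw [show Nat.card A₃ = Nat.card A₂ by omega, Nat.coprime_self] at h
  omega

/-- There is a prime outside two, `r` and the three orders. -/
theorem exists_extra_prime (hR : ∀ R : Subgroup G, Loc A₁ A₂ A₃ r y t x R → Nat.card R = r ∨ Nat.card R = 9) :
    ∃ p, p.Prime ∧ p ∣ Nat.card G ∧ p ≠ 2 ∧ p ≠ r ∧
      ¬ p ∣ Nat.card A₁ * Nat.card A₂ * Nat.card A₃ := by
  by_contra hno
  push Not at hno
  haveI := Fact.mk B.hr
  haveI := Fact.mk Nat.prime_two
  obtain ⟨P, hP⟩ := (IsPGroup.of_card (p := r) (n := 1) (G := zpowers y)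
    (by rw [Nat.card_zpowers, B.hy, pow_one])).exists_le_sylow
  have L : Loc A₁ A₂ A₃ r y t x (P : Subgroup G) := ⟨B, ⟨P, rfl⟩, hP (mem_zpowers y)⟩
  set C := Nat.card (centralizer ({t} : Set G)) with hC
  have hrC : r ∣ C := by
    rw [← B.hy]
    exact Subgroup.orderOf_dvd_natCard _ (mem_centralizer_singleton_iff.2 B.hc.symm.eq)
  have h2C : 2 ^ (Nat.card G).factorization 2 ∣ C := by
    obtain ⟨Q⟩ : Nonempty (Sylow 2 G) := Sylow.nonempty
    have hQ1 : 1 < Nat.card (Q : Subgroup G) := by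
      rw [Q.card_eq_multiplicity]
      have := (Nat.prime_two.dvd_iff_one_le_factorization Nat.card_pos.ne').1
        (B.ht ▸ orderOf_dvd_natCard t)
      calc 1 < 2 ^ 1 := by norm_num
        _ ≤ _ := Nat.pow_le_pow_right two_pos this
    haveI : Nontrivial (Q : Subgroup G) := Finite.one_lt_card_iff_nontrivial.1 hQ1
    haveI := Q.2.center_nontrivial
    obtain ⟨n, hn⟩ := IsPGroup.iff_card.1 (Q.2.to_subgroup (center (Q : Subgroup G)))
    have hn0 : n ≠ 0 := fun e => by
      have := Finite.one_lt_card (α := center (Q : Subgroup G))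
      rw [hn, e] at this; simp at this
    obtain ⟨c, hc⟩ := exists_prime_orderOf_dvd_card' (G := center (Q : Subgroup G)) 2
      (hn ▸ dvd_pow_self 2 hn0)
    have hc2 : orderOf ((c : (Q : Subgroup G)) : G) = 2 := by
      rw [Subgroup.orderOf_coe, Subgroup.orderOf_coe, hc]
    have hle : (Q : Subgroup G) ≤ centralizer ({((c : (Q : Subgroup G)) : G)} : Set G) := by
      intro q hq
      rw [mem_centralizer_singleton_iff]
      exact congrArg Subtype.val (Subgroup.mem_center_iff.1 c.2 ⟨q, hq⟩)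
    have hd := Subgroup.card_dvd_of_le hle
    rw [Q.card_eq_multiplicity] at hd
    have hct := B.invol_conj hc2
    have e1 := card_isConj_mul_card_centralizer ((c : (Q : Subgroup G)) : G)
    rw [← card_isConj_mul_card_centralizer t,
      Nat.card_congr (Equiv.subtypeEquivRight (q := fun u => IsConj t u) fun u =>
        ⟨fun h => hct.symm.trans h, fun h => hct.trans h⟩)] at e1
    haveI : Nonempty {u : G // IsConj t u} := ⟨⟨t, IsConj.refl t⟩⟩
    rwa [Nat.eq_of_mul_eq_mul_left Nat.card_pos e1] at hd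
  obtain ⟨w, hw, hwR⟩ : ∃ w, Nat.card (P : Subgroup G) = r * w ∧ (w = 1 ∨ (w = 3 ∧ r = 3)) := by
    rcases hR _ L with e | e
    · exact ⟨1, by rw [e, mul_one], Or.inl rfl⟩
    · have h3 : r = 3 := by
        have h1 : r ∣ 3 ^ 2 := by
          rw [show (3 : ℕ) ^ 2 = Nat.card (P : Subgroup G) by rw [e]; norm_num, L.card_eq]
          exact dvd_pow_self r (by have := L.two_le_exp; omega)
        exact (Nat.prime_dvd_prime_iff_eq B.hr Nat.prime_three).1 (B.hr.dvd_of_dvd_pow h1)
      exact ⟨3, by rw [e, h3], Or.inr ⟨rfl, h3⟩⟩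
  set N := Nat.card A₁ * Nat.card A₂ * Nat.card A₃ with hN
  have hdvd : Nat.card G ∣ N * C * w := by
    refine (Nat.dvd_iff_prime_pow_dvd_dvd _ _).2 fun p k hp hk => ?_
    rcases k with _ | k
    · simp
    refine (pow_dvd_pow p ((hp.pow_dvd_iff_le_factorization Nat.card_pos.ne').1 hk)).trans ?_
    by_cases hp2 : p = 2
    · rw [hp2]; exact (h2C.mul_left N).mul_right w
    by_cases hpr : p = r
    · rw [hpr, ← L.card_eq, hw]
      exact mul_dvd_mul_right (hrC.mul_left N) w
    have hpN := hno p hp ((dvd_pow_self p (Nat.succ_ne_zero k)).trans hk) hp2 hpr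
    refine (Dvd.dvd.mul_right (Dvd.dvd.mul_right ?_ C) w)
    rcases hp.dvd_mul.1 hpN with h | h
    · rcases hp.dvd_mul.1 h with h | h
      · exact ((B.T.h₁.ordProj_dvd hp h).mul_right _).mul_right _
      · exact ((B.T.h₂.ordProj_dvd hp h).mul_left _).mul_right _
    · exact (B.T.h₃.ordProj_dvd hp h).mul_left _
  have hlarge : N ^ 2 < Nat.card G := B.large
  have hib : C ^ 2 * (mcl A₁ + mcl A₂ + mcl A₃) ≤ Nat.card G := B.T.involution_bound B.ht
  have hw0 : 0 < w := by rcases hwR with e | ⟨e, -⟩ <;> omega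
  have hC0 : 0 < C := Nat.card_pos
  have hN0 : 0 < N := Nat.mul_pos (Nat.mul_pos Nat.card_pos Nat.card_pos) Nat.card_pos
  have hle := Nat.le_of_dvd (Nat.mul_pos (Nat.mul_pos hN0 hC0) hw0) hdvd
  have hS : mcl A₁ + mcl A₂ + mcl A₃ < w ^ 2 := by
    have h1 : Nat.card G * Nat.card G < Nat.card G * (C ^ 2 * w ^ 2) := by
      calc Nat.card G * Nat.card G ≤ (N * C * w) * (N * C * w) := Nat.mul_le_mul hle hle
        _ = N ^ 2 * (C ^ 2 * w ^ 2) := by ring
        _ < Nat.card G * (C ^ 2 * w ^ 2) := Nat.mul_lt_mul_of_pos_right hlarge (by positivity)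
    have h2 := hib.trans_lt (Nat.lt_of_mul_lt_mul_left h1)
    exact Nat.lt_of_mul_lt_mul_left h2
  obtain ⟨-, b1⟩ := B.T.mcl₁
  obtain ⟨-, b2⟩ := B.T.mcl₂
  obtain ⟨-, b3⟩ := B.T.mcl₃
  rcases hwR with rfl | ⟨rfl, h3⟩
  · norm_num at hS; omega
  · obtain ⟨c2, c3, c23⟩ := B.mcl_bounds h3
    norm_num at hS
    omega

variable {p : ℕ} (hp : p.Prime) (hpG : p ∣ Nat.card G) (hp2 : p ≠ 2) (hpr : p ≠ r)
  (hpN : ¬ p ∣ Nat.card A₁ * Nat.card A₂ * Nat.card A₃)
include hp hpG hp2 hpr hpN

theorem extra_of_prime {w : G} (hw : p ∣ orderOf w) : Extra A₁ A₂ A₃ y t x w := by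
  have hne : ∀ {n : ℕ}, ¬ p ∣ n → orderOf w ≠ n := fun h e => h (e ▸ hw)
  have hn2 : ¬ p ∣ 2 := fun h => hp2 ((Nat.prime_dvd_prime_iff_eq hp Nat.prime_two).1 h)
  have hnr : ¬ p ∣ r := fun h => hpr ((Nat.prime_dvd_prime_iff_eq hp B.hr).1 h)
  refine B.extra_of_order (B.out_of_prime hw hpN) (hne hp.not_dvd_one) (hne hn2) (hne ?_)
    (hne hnr) (hne ?_)
  · exact fun h => hn2 (hp.dvd_of_dvd_pow (show p ∣ 2 ^ 2 from h))
  · exact fun h => (hp.dvd_mul.1 h).elim hn2 hnr

theorem extra_order {w : G} (hw : Extra A₁ A₂ A₃ y t x w) : orderOf w = p := by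
  haveI := Fact.mk hp
  obtain ⟨z, hz⟩ := exists_prime_orderOf_dvd_card' p hpG
  rw [B.extra_orderOf hw (B.extra_of_prime hp hpG hp2 hpr hpN (w := z) (by rw [hz])), hz]

theorem order_eq {w : G} (hw : p ∣ orderOf w) : orderOf w = p :=
  B.extra_order hp hpG hp2 hpr hpN (B.extra_of_prime hp hpG hp2 hpr hpN hw)

/-- No element of order four centralizes an element of order `r`. -/
theorem no_four {v : G} (hv : Commute v y) : orderOf v ≠ 4 := fun h4 => by
  obtain ⟨ho, hex⟩ := B.extra_four_r h4 B.hy hv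
  have h := B.extra_order hp hpG hp2 hpr hpN hex
  rw [ho] at h
  have : (2 : ℕ) ∣ p := ⟨2 * r, by omega⟩
  exact hp2 ((Nat.prime_dvd_prime_iff_eq Nat.prime_two hp).1 this).symm

/-- No element of order eight. -/
theorem pow_four_of_two {v : G} {k : ℕ} (hv : v ^ 2 ^ k = 1) : v ^ 4 = 1 := by
  obtain ⟨j, -, hj⟩ := (Nat.dvd_prime_pow Nat.prime_two).1 (orderOf_dvd_of_pow_eq_one hv)
  by_contra hne
  have hj3 : 3 ≤ j := by
    by_contra hlt
    refine hne (orderOf_dvd_iff_pow_eq_one.1 ?_)
    rw [hj]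
    exact pow_dvd_pow 2 (show j ≤ 2 by omega)
  obtain ⟨i, rfl⟩ : ∃ i, j = i + 3 := ⟨j - 3, by omega⟩
  obtain ⟨m, hm⟩ := B.odd_r
  have h8 : orderOf v = 8 * 2 ^ i := by rw [hj, pow_add]; ring
  have hi := Nat.two_pow_pos i
  have hex : Extra A₁ A₂ A₃ y t x v := by
    refine B.extra_of_order (B.out_two (by rw [h8]; exact ⟨4 * 2 ^ i, by ring⟩)) ?_ ?_ ?_ ?_ ?_ <;>
      rw [h8] <;> omega
  have h := B.extra_order hp hpG hp2 hpr hpN hex
  rw [h8] at h
  have : (2 : ℕ) ∣ p := ⟨4 * 2 ^ i, by omega⟩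
  exact hp2 ((Nat.prime_dvd_prime_iff_eq Nat.prime_two hp).1 this).symm

end Bad

namespace Loc

variable (L : Loc A₁ A₂ A₃ r y t x R)
include L

/-- The classes of `y` and `t * y` have at least `|G| / |R|` elements. -/
theorem class_bound (h4 : ∀ v : G, Commute v y → orderOf v ≠ 4) :
    Nat.card G ≤ Nat.card R *
      (Nat.card {g : G // IsConj y g} + Nat.card {g : G // IsConj (t * y) g}) := by
  haveI := Fact.mk Nat.prime_two
  have B := L.B
  have hW : ∀ w : centralizer ({y} : Set G), Commute (w : G) y := fun w =>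
    mem_centralizer_singleton_iff.1 w.2
  set tW : centralizer ({y} : Set G) := ⟨t, mem_centralizer_singleton_iff.2 B.hc.eq⟩ with htW
  set m := Nat.card {w : centralizer ({y} : Set G) // IsConj tW w} with hm
  obtain ⟨P⟩ : Nonempty (Sylow 2 (centralizer ({y} : Set G))) := Sylow.nonempty
  have hP : Nat.card (P : Subgroup (centralizer ({y} : Set G))) ≤ m + 1 := by
    have hconj : ∀ q : (P : Subgroup (centralizer ({y} : Set G))), q ≠ 1 →
        IsConj tW (q : centralizer ({y} : Set G)) := by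
      intro q hq
      obtain ⟨j, hj⟩ := P.2 q
      have hq' : ((q : centralizer ({y} : Set G)) : G) ^ 2 ^ j = 1 := by
        simpa using congrArg (fun z : (P : Subgroup (centralizer ({y} : Set G))) =>
          ((z : centralizer ({y} : Set G)) : G)) hj
      rcases two_cases (B.pow_four hq' B.hy (hW q)) with e | e | e
      · exact absurd (Subtype.ext (Subtype.ext e)) hq
      · obtain ⟨g, hg, hge⟩ := B.conj_in_centralizer B.ht e B.hy B.hc (hW q)
          (B.invol_r_conj e (hW q)).symm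
        exact isConj_iff.2 ⟨⟨g, mem_centralizer_singleton_iff.2 hg.eq⟩, Subtype.ext hge⟩
      · exact absurd e (h4 _ (hW q))
    refine le_trans (Nat.card_le_card_of_injective
      (fun q : (P : Subgroup (centralizer ({y} : Set G))) =>
        if h : q = 1 then (none : Option {w : centralizer ({y} : Set G) // IsConj tW w})
        else some ⟨q, hconj q h⟩) ?_) (le_of_eq Finite.card_option)
    intro a b hab
    by_cases ha : a = 1 <;> by_cases hb : b = 1
    · rw [ha, hb]
    · simp [ha, hb] at hab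
    · simp [ha, hb] at hab
    · simp only [ha, hb, dite_false, Option.some.injEq, Subtype.mk.injEq] at hab
      exact Subtype.ext hab
  have hWcard : Nat.card (centralizer ({y} : Set G)) ≤
      Nat.card (P : Subgroup (centralizer ({y} : Set G))) * Nat.card R := by
    rw [P.card_eq_multiplicity, L.card_eq]
    conv_lhs => rw [eq_two_pow_mul B.hr Nat.card_pos.ne' B.hr2 fun q hq hd =>
      L.primes_centralizer (Or.inr ⟨L.yR, L.y_ne_one⟩) hq hd]
    exact Nat.mul_le_mul_left _ (Nat.pow_le_pow_right B.hr.pos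
      ((B.hr.pow_dvd_iff_le_factorization Nat.card_pos.ne').1
        ((Nat.ordProj_dvd _ r).trans (Subgroup.card_subgroup_dvd_card _))))
  have hy' := card_isConj_mul_card_centralizer y
  have hty := card_isConj_mul_card_centralizer (t * y)
  have hmW := card_isConj_mul_card_centralizer tW
  rw [← hm] at hmW
  have hD : Nat.card (centralizer ({t * y} : Set G)) ≤
      Nat.card (centralizer ({tW} : Set (centralizer ({y} : Set G)))) := by
    obtain ⟨a1, a2⟩ := split_pow B.ht B.hy B.odd_r B.hc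
    have hg : ∀ g : centralizer ({t * y} : Set G), Commute (g : G) y ∧ Commute (g : G) t := by
      intro g
      have hc : Commute (g : G) (t * y) := mem_centralizer_singleton_iff.1 g.2
      refine ⟨?_, ?_⟩
      · have := hc.pow_right (r + 1); rwa [a1] at this
      · have := hc.pow_right r; rwa [a2] at this
    refine Nat.card_le_card_of_injective (fun g => ⟨⟨(g : G),
      mem_centralizer_singleton_iff.2 (hg g).1.eq⟩,
      mem_centralizer_singleton_iff.2 (Subtype.ext (hg g).2.eq)⟩) fun a b hab => ?_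
    exact Subtype.ext (congrArg (fun z : centralizer ({tW} : Set (centralizer ({y} : Set G))) =>
      ((z : centralizer ({y} : Set G)) : G)) hab)
  set cy := Nat.card {g : G // IsConj y g}
  set cty := Nat.card {g : G // IsConj (t * y) g}
  have hm2 : cy * m ≤ cty := by
    refine Nat.le_of_mul_le_mul_right ?_ (Nat.card_pos (α := centralizer ({t * y} : Set G)))
    calc cy * m * Nat.card (centralizer ({t * y} : Set G))
        ≤ cy * m * Nat.card (centralizer ({tW} : Set (centralizer ({y} : Set G)))) :=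
          Nat.mul_le_mul_left _ hD
      _ = cty * Nat.card (centralizer ({t * y} : Set G)) := by rw [mul_assoc, hmW, hy', hty]
  calc Nat.card G = cy * Nat.card (centralizer ({y} : Set G)) := hy'.symm
    _ ≤ cy * (Nat.card (P : Subgroup (centralizer ({y} : Set G))) * Nat.card R) :=
        Nat.mul_le_mul_left _ hWcard
    _ ≤ cy * ((m + 1) * Nat.card R) := Nat.mul_le_mul_left _ (Nat.mul_le_mul_right _ hP)
    _ = Nat.card R * (cy + cy * m) := by ring
    _ ≤ Nat.card R * (cy + cty) := Nat.mul_le_mul_left _ (Nat.add_le_add_left hm2 _)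

/-- The centralizer of an element of the extra prime order is small when `|R| = 9`. -/
theorem extra_centralizer_le {p : ℕ} (hp : p.Prime) (hpG : p ∣ Nat.card G) (hp2 : p ≠ 2)
    (hpr : p ≠ r) (hpN : ¬ p ∣ Nat.card A₁ * Nat.card A₂ * Nat.card A₃) (hr3 : r = 3)
    (hR : Nat.card R = 9) {z : G} (hz : orderOf z = p) :
    Nat.card (centralizer ({z} : Set G)) ≤ 25 := by
  have B := L.B
  have order_eq := fun {w : G} (hw : p ∣ orderOf w) => B.order_eq hp hpG hp2 hpr hpN hw
  haveI := Fact.mk hp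
  haveI := Fact.mk Nat.prime_two
  haveI := Fact.mk Nat.prime_three
  obtain ⟨S, hS⟩ := (IsPGroup.of_card (p := p) (n := 1) (G := zpowers z)
    (by rw [Nat.card_zpowers, hz, pow_one])).exists_le_sylow
  haveI := B.T.ab p hp hp2 hpN S
  set Z := (S : Subgroup G) with hZdef
  have hzZ : z ∈ Z := hS (mem_zpowers z)
  have hz1 : z ≠ 1 := fun e => hp.ne_one (by rw [← hz, e, orderOf_one])
  have hord : ∀ a ∈ Z, a ≠ 1 → orderOf a = p := by
    intro a ha ha1
    obtain ⟨j, hj⟩ := IsPGroup.iff_orderOf.1 S.2 ⟨a, ha⟩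
    rw [← Subgroup.orderOf_coe] at hj
    refine order_eq ?_
    rcases j with _ | j
    · exact absurd (orderOf_eq_one_iff.1 (by simpa using hj)) ha1
    · show p ∣ orderOf a
      rw [show orderOf a = p ^ (j + 1) from hj]
      exact dvd_pow_self p (Nat.succ_ne_zero j)
  have hcomm : ∀ a ∈ Z, ∀ b ∈ Z, Commute a b := fun a ha b hb =>
    congrArg Subtype.val (mul_comm' (⟨a, ha⟩ : Z) ⟨b, hb⟩)
  have hcent : ∀ a ∈ Z, a ≠ 1 → centralizer ({a} : Set G) = Z := by
    intro a ha ha1
    have hle : Z ≤ centralizer ({a} : Set G) := fun b hb =>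
      mem_centralizer_singleton_iff.2 (hcomm b hb a ha).eq
    refine S.3 (IsPGroup.iff_card.2 ⟨_, Nat.eq_prime_pow_of_unique_prime_dvd Nat.card_pos.ne'
      fun {q} hq hd => ?_⟩) hle
    by_contra hqp
    haveI := Fact.mk hq
    obtain ⟨w, hw⟩ := exists_prime_orderOf_dvd_card' q hd
    have hwq : orderOf (w : G) = q := by rw [Subgroup.orderOf_coe, hw]
    have hwa : Commute (w : G) a := mem_centralizer_singleton_iff.1 w.2
    have ho : orderOf ((w : G) * a) = q * p := by
      rw [hwa.orderOf_mul_eq_mul_orderOf_of_coprime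
        (by rw [hwq, hord a ha ha1]; exact (Nat.coprime_primes hq hp).2 hqp), hwq, hord a ha ha1]
    have h := order_eq (w := (w : G) * a) (by rw [ho]; exact dvd_mul_left _ _)
    rw [ho] at h
    exact hq.ne_one (Nat.eq_of_mul_eq_mul_right hp.pos (by rw [one_mul]; exact h))
  rw [hcent z hzZ hz1]
  set n := Nat.card Z with hn
  have hnorm : Nat.card (normalizer (Z : Set G)) = (n - 1) * n := by
    rw [← card_orbit_mul (normalizer (Z : Set G)) z]
    congr 1
    · have e : Nat.card {b : G // ∃ h ∈ normalizer (Z : Set G), h * z * h⁻¹ = b} =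
          Nat.card {a : Z // a ≠ 1} := by
        refine Nat.card_congr ((Equiv.subtypeEquivRight
          (q := fun b : G => b ∈ Z ∧ b ≠ 1) fun b => ⟨?_, ?_⟩).trans ?_)
        · rintro ⟨h, hh, rfl⟩
          exact ⟨(Subgroup.mem_normalizer_iff.1 hh z).1 hzZ, fun e => hz1 (conj_eq_one_iff.1 e)⟩
        · rintro ⟨hb, hb1⟩
          obtain ⟨g, hg⟩ := isConj_iff.1 (B.extra_conj
            (B.extra_of_prime hp hpG hp2 hpr hpN (w := z) (by rw [hz]))
            (B.extra_of_prime hp hpG hp2 hpr hpN (w := b) (by rw [hord b hb hb1])))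
          obtain ⟨k, hk, hke⟩ := S.conj_eq_normalizer_conj_of_mem z g⁻¹ hzZ
            (by rw [inv_inv, hg]; exact hb)
          refine ⟨k⁻¹, inv_mem hk, ?_⟩
          rw [inv_inv, hg] at hke
          rw [inv_inv, hke]
        · exact
            { toFun := fun b => ⟨⟨b.1, b.2.1⟩, fun e => b.2.2 (congrArg Subtype.val e)⟩
              invFun := fun a => ⟨a.1, a.1.2, fun e => a.2 (Subtype.ext e)⟩
              left_inv := fun b => rfl
              right_inv := fun a => rfl }
      haveI := Fintype.ofFinite Z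
      haveI := Fintype.ofFinite {a : Z // a ≠ 1}
      rw [e, hn, Nat.card_eq_fintype_card, Nat.card_eq_fintype_card, Fintype.card_subtype_compl,
        Fintype.card_subtype_eq]
    · rw [hn, hcent z hzZ hz1, inf_eq_right.2 Subgroup.le_normalizer]
  have hZ : CC Z (n - 1) := ⟨hcent, hnorm, by
    haveI : Nontrivial Z := ⟨⟨⟨z, hzZ⟩, 1, fun e => hz1 (congrArg Subtype.val e)⟩⟩
    exact Finite.one_lt_card⟩
  have hpodd := hp.odd_of_ne_two hp2
  have hev : Even (n - 1) := by
    rw [hn, S.card_eq_multiplicity]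
    exact Nat.Odd.sub_odd hpodd.pow odd_one
  obtain ⟨s, hs2, hsN, hsZ, hinv⟩ := hZ.exists_inverting hev
  have hss := sq_of_orderOf hs2
  have hfix : ∀ a ∈ Z, Commute a s → a = 1 := by
    intro a ha hc
    by_contra ha1
    exact hsZ (hZ.mem_of_commute ha ha1 hc.symm)
  set H := normalizer (Z : Set G) ⊓ centralizer ({s} : Set G) with hH
  have hHZ : ∀ h ∈ H, h ∈ Z → h = 1 := fun h hh hz' =>
    hfix h hz' (mem_centralizer_singleton_iff.1 (mem_inf.1 hh).2)
  have hHcard : Nat.card H = n - 1 := by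
    have hb : Function.Bijective (fun q : Z × H =>
        (⟨(q.1 : G) * q.2, mul_mem (Subgroup.le_normalizer q.1.2) (mem_inf.1 q.2.2).1⟩ :
          normalizer (Z : Set G))) := by
      constructor
      · rintro ⟨a, h⟩ ⟨a', h'⟩ e
        have e' : (a : G) * h = a' * h' := congrArg Subtype.val e
        have e1 : (a' : G)⁻¹ * a = h' * (h : G)⁻¹ := by
          rw [eq_mul_inv_iff_mul_eq, mul_assoc, e', inv_mul_cancel_left]
        have e2 := hHZ _ (mul_mem h'.2 (inv_mem h.2)) (e1 ▸ mul_mem (inv_mem a'.2) a.2)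
        rw [e2] at e1
        have ha : a = a' := Subtype.ext (inv_mul_eq_one.1 e1).symm
        have hh : h' = h := Subtype.ext (mul_inv_eq_one.1 e2)
        rw [ha, hh]
      · rintro ⟨w, hw⟩
        set s' := w * s * w⁻¹ with hs'
        have hs'N : s' ∈ normalizer (Z : Set G) := mul_mem (mul_mem hw hsN) (inv_mem hw)
        have hs'Z : s' ∉ Z := fun h => hsZ ((Subgroup.mem_normalizer_iff.1 hw s).2 h)
        have hs'2 : s' * s' = 1 := by
          rw [hs', show w * s * w⁻¹ * (w * s * w⁻¹) = w * (s * s) * w⁻¹ by group, hss]; group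
        have hd : s' * s ∈ Z := by
          refine hZ.mem_of_fix hzZ hz1 ?_
          rw [show s' * s * z * (s' * s)⁻¹ = s' * (s * z * s⁻¹) * s'⁻¹ by group, hinv z hzZ,
            hZ.invert hs'N hs'Z hs'2 (inv_mem hzZ), inv_inv]
        obtain ⟨k, hk⟩ := hpodd
        set b := (s' * s) ^ k with hb'
        have hbZ : b ∈ Z := pow_mem hd k
        have hpd : b * (s' * s) * b = 1 := by
          rw [hb', ← pow_succ, ← pow_add, show k + 1 + k = p by omega]
          by_cases h1 : s' * s = 1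
          · rw [h1, one_pow]
          · rw [← hord _ hd h1, pow_orderOf_eq_one]
        have hcs : b * w * s * (b * w)⁻¹ = s := by
          calc b * w * s * (b * w)⁻¹ = b * (s' * s) * (s⁻¹ * b⁻¹ * s) * s⁻¹ := by
                rw [hs']; group
            _ = b * (s' * s) * b * s⁻¹ := by
                rw [inv_eq_of_mul_eq_one_right hss]
                have h := hinv b⁻¹ (inv_mem hbZ)
                rw [inv_eq_of_mul_eq_one_right hss, inv_inv] at h
                rw [h]
            _ = s := by rw [hpd, one_mul, inv_eq_of_mul_eq_one_right hss]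
        refine ⟨(⟨b⁻¹, inv_mem hbZ⟩, ⟨b * w, mem_inf.2 ⟨mul_mem (Subgroup.le_normalizer hbZ) hw,
          mem_centralizer_singleton_iff.2 (mul_inv_eq_iff_eq_mul.1 hcs)⟩⟩), Subtype.ext ?_⟩
        exact inv_mul_cancel_left b w
    have e := Nat.card_eq_of_bijective _ hb
    rw [Nat.card_prod, hnorm, mul_comm (n - 1) n] at e
    exact Nat.eq_of_mul_eq_mul_left Nat.card_pos e
  have hHs : ∀ h : H, Commute (h : G) s := fun h =>
    mem_centralizer_singleton_iff.1 (mem_inf.1 h.2).2
  have hprimes : ∀ q, q.Prime → q ∣ Nat.card H → q = 2 ∨ q = 3 := fun q hq hd =>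
    hr3 ▸ L.primes_centralizer (Or.inl hs2) hq (hd.trans (Subgroup.card_dvd_of_le inf_le_right))
  have hcardH := eq_two_pow_mul Nat.prime_three Nat.card_pos.ne' (by norm_num) hprimes
  have hsH : s ∈ H := mem_inf.2 ⟨hsN, mem_centralizer_singleton_iff.2 rfl⟩
  obtain ⟨Q, hQ⟩ := (IsPGroup.of_card (p := 2) (n := 1) (G := zpowers (⟨s, hsH⟩ : H))
    (by rw [Nat.card_zpowers, ← Subgroup.orderOf_coe, hs2, pow_one])).exists_le_sylow
  have hQ8 : Nat.card (Q : Subgroup H) ≤ 8 := by
    refine card_le_eight ⟨⟨s, hsH⟩, hQ (mem_zpowers _)⟩ (Subtype.ext (Subtype.ext hss)) ?_ ?_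
    · intro q hq
      by_cases hq1 : q = 1
      · exact Or.inl hq1
      refine Or.inr (Subtype.ext (Subtype.ext ?_))
      show ((q : H) : G) = s
      have hqq : ((q : H) : G) * ((q : H) : G) = 1 :=
        congrArg (fun v : (Q : Subgroup H) => ((v : H) : G)) hq
      have hqZ : ((q : H) : G) ∉ Z := fun h => hq1 (Subtype.ext (Subtype.ext
        (hHZ _ (q : H).2 h)))
      have hd : ((q : H) : G) * s ∈ Z := by
        refine hZ.mem_of_fix hzZ hz1 ?_
        rw [show ((q : H) : G) * s * z * (((q : H) : G) * s)⁻¹ =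
          ((q : H) : G) * (s * z * s⁻¹) * ((q : H) : G)⁻¹ by group, hinv z hzZ,
          hZ.invert (mem_inf.1 (q : H).2).1 hqZ hqq (inv_mem hzZ), inv_inv]
      have h1 := hfix _ hd ((hHs (q : H)).mul_left (Commute.refl s))
      exact (eq_inv_of_mul_eq_one_left h1).trans (inv_eq_of_mul_eq_one_right hss)
    · intro q
      obtain ⟨j, hj⟩ := Q.2 q
      have hq' : ((q : H) : G) ^ 2 ^ j = 1 := by
        simpa using congrArg (fun v : (Q : Subgroup H) => ((v : H) : G)) hj
      refine Subtype.ext (Subtype.ext ?_)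
      simpa using B.pow_four_of_two hp hpG hp2 hpr hpN hq'
  rw [Q.card_eq_multiplicity] at hQ8
  have hv2 : (Nat.card G).factorization 3 = 2 := by
    have h := L.card_eq
    rw [hR, hr3] at h
    exact Nat.pow_right_injective (by norm_num : 2 ≤ 3) (h.symm.trans (by norm_num : (9 : ℕ) = 3 ^ 2))
  have hb2 : (Nat.card H).factorization 3 ≤ 2 := by
    rw [← hv2]
    exact (Nat.prime_three.pow_dvd_iff_le_factorization Nat.card_pos.ne').1
      ((Nat.ordProj_dvd _ 3).trans (Subgroup.card_subgroup_dvd_card _))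
  rcases Nat.lt_or_ge ((Nat.card H).factorization 3) 2 with hb1 | hb1
  · have h3 : 3 ^ (Nat.card H).factorization 3 ≤ 3 :=
      le_trans (Nat.pow_le_pow_right (by norm_num) (show _ ≤ 1 by omega)) (by norm_num)
    have := Nat.mul_le_mul hQ8 h3
    rw [← hcardH] at this
    omega
  exfalso
  rw [show (Nat.card H).factorization 3 = 2 by omega] at hcardH
  obtain ⟨a, ha⟩ : ∃ a, (Nat.card H).factorization 2 = a := ⟨_, rfl⟩
  rw [ha] at hcardH hQ8
  have ha3 : a ≤ 3 := (Nat.pow_le_pow_iff_right (le_refl 2)).1 (hQ8.trans (by norm_num))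
  have hn1 : 1 < n := hZ.pos
  have hnc : n = 10 ∨ n = 19 ∨ n = 37 ∨ n = 73 := by interval_cases a <;> omega
  have hnodd : Odd n := by rw [hn, S.card_eq_multiplicity]; exact hpodd.pow
  have hnprime : n.Prime := by
    rcases hnc with e | e | e | e <;> rw [e] at hnodd ⊢ <;>
      first | (norm_num; done) | (exact absurd hnodd (by decide))
  have hnp : n = p := by
    have h := Subgroup.orderOf_dvd_natCard Z hzZ
    rw [hz] at h
    exact ((Nat.prime_dvd_prime_iff_eq hp hnprime).1 h).symm
  have hzp : zpowers z = Z := Subgroup.eq_of_le_of_card_ge (zpowers_le.2 hzZ)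
    (le_of_eq (by rw [Nat.card_zpowers, hz]; exact hnp))
  obtain ⟨Q3⟩ : Nonempty (Sylow 3 H) := Sylow.nonempty
  have h9 : Nat.card (Q3 : Subgroup H) = 9 := by
    rw [Q3.card_eq_multiplicity, show (Nat.card H).factorization 3 = 2 by omega]; norm_num
  have hroot : ∀ q : (Q3 : Subgroup H), ∃ i : ℕ,
      ((q : H) : G) * z * ((q : H) : G)⁻¹ = z ^ i := by
    intro q
    have hm : ((q : H) : G) * z * ((q : H) : G)⁻¹ ∈ zpowers z :=
      hzp.symm ▸ (Subgroup.mem_normalizer_iff.1 (mem_inf.1 (q : H).2).1 z).1 hzZ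
    obtain ⟨i, hi⟩ := (Submonoid.mem_powers_iff _ _).1 (mem_powers_iff_mem_zpowers.2 hm)
    exact ⟨i, hi.symm⟩
  choose i hi using hroot
  have hpow : ∀ (q : (Q3 : Subgroup H)) (k : ℕ),
      ((q : H) : G) ^ k * z * (((q : H) : G) ^ k)⁻¹ = z ^ (i q) ^ k := by
    intro q k
    induction k with
    | zero => simp
    | succ k ih =>
      calc ((q : H) : G) ^ (k + 1) * z * (((q : H) : G) ^ (k + 1))⁻¹
          = ((q : H) : G) ^ k * (((q : H) : G) * z * ((q : H) : G)⁻¹) * (((q : H) : G) ^ k)⁻¹ := by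
            rw [pow_succ]; group
        _ = z ^ (i q) ^ (k + 1) := by rw [hi q, ← conj_pow, ih, ← pow_mul, pow_succ]
  have hcube : ∀ q : (Q3 : Subgroup H), ((q : H) : G) ^ 3 = 1 := by
    intro q
    obtain ⟨j, hj⟩ := IsPGroup.iff_orderOf.1 Q3.2 q
    have ho : orderOf ((q : H) : G) = 3 ^ j := by
      rw [Subgroup.orderOf_coe, Subgroup.orderOf_coe, hj]
    rw [← orderOf_dvd_iff_pow_eq_one, ho]
    rcases Nat.lt_or_ge j 2 with hlt | hge
    · exact (pow_dvd_pow 3 (show j ≤ 1 by omega)).trans (by norm_num)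
    exfalso
    have h9' : 9 ≤ 3 ^ j := le_trans (by norm_num) (Nat.pow_le_pow_right (by norm_num) hge)
    have hex : Extra A₁ A₂ A₃ y t x ((q : H) : G) := by
      refine B.extra_of_order (B.out_of_dvd (by rw [ho, hr3]; exact dvd_pow_self 3 (by omega)))
        ?_ ?_ ?_ ?_ ?_ <;> rw [ho] <;> omega
    have h := B.extra_order hp hpG hp2 hpr hpN hex
    rw [ho] at h
    exact hpr (by rw [hr3]; exact ((Nat.prime_dvd_prime_iff_eq Nat.prime_three hp).1
      (h ▸ dvd_pow_self 3 (by omega))).symm)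
  have hi3 : ∀ q : (Q3 : Subgroup H), ((i q : ZMod p)) ^ 3 = 1 := by
    intro q
    have h := hpow q 3
    rw [hcube q, one_mul, inv_one, mul_one] at h
    have h1 : z ^ ((i q) ^ 3) = z ^ 1 := by rw [pow_one]; exact h.symm
    rw [pow_eq_pow_iff_modEq, hz, ← ZMod.natCast_eq_natCast_iff] at h1
    push_cast at h1
    exact h1
  have hinj : Function.Injective fun q : (Q3 : Subgroup H) =>
      (⟨(i q : ZMod p), Multiset.mem_toFinset.2 ((Polynomial.mem_nthRoots (by norm_num)).2 (hi3 q))⟩ :
        ((Polynomial.nthRoots 3 (1 : ZMod p)).toFinset : Finset (ZMod p))) := by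
    intro q q' e
    have e1 : (i q : ZMod p) = i q' := congrArg Subtype.val e
    have e2 : z ^ i q = z ^ i q' := by
      rw [pow_eq_pow_iff_modEq, hz, ← ZMod.natCast_eq_natCast_iff]; exact e1
    rw [← hi q, ← hi q'] at e2
    have hmem : ((q' : H) : G)⁻¹ * ((q : H) : G) ∈ Z := by
      refine hZ.mem_of_fix hzZ hz1 ?_
      rw [show ((q' : H) : G)⁻¹ * ((q : H) : G) * z * (((q' : H) : G)⁻¹ * ((q : H) : G))⁻¹ =
        ((q' : H) : G)⁻¹ * (((q : H) : G) * z * ((q : H) : G)⁻¹) * ((q' : H) : G) by group, e2]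
      group
    exact Subtype.ext (Subtype.ext (inv_mul_eq_one.1
      (hHZ _ (mul_mem (inv_mem (q' : H).2) (q : H).2) hmem)).symm)
  have hle := Nat.card_le_card_of_injective _ hinj
  rw [h9, Nat.card_eq_fintype_card, Fintype.card_coe] at hle
  have := hle.trans ((Multiset.toFinset_card_le _).trans (Polynomial.card_nthRoots 3 (1 : ZMod p)))
  omega

end Loc

/-- The centralizer of every involution is a 2-group. -/
theorem Three.cit (T : Three A₁ A₂ A₃) : CfsgLib.Recog.CIT.CIT G := by
  intro t ht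
  refine IsPGroup.iff_card.2 ⟨_, Nat.eq_prime_pow_of_unique_prime_dvd Nat.card_pos.ne'
    fun {r} hr hd => ?_⟩
  by_contra hr2
  haveI := Fact.mk hr
  obtain ⟨y', hy'⟩ := exists_prime_orderOf_dvd_card' r hd
  have hy : orderOf (y' : G) = r := by rw [Subgroup.orderOf_coe, hy']
  have hc : Commute t (y' : G) := Commute.symm (mem_centralizer_singleton_iff.1 y'.2)
  generalize (y' : G) = y at hy hc
  clear hd
  obtain ⟨x, hx⟩ := T.exists_order_four
  have B : Bad A₁ A₂ A₃ r y t x := ⟨T, hr, hr2, ht, hy, hc, hx⟩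
  obtain ⟨p, hp, hpG, hp2, hpr, hpN⟩ := B.exists_extra_prime fun R L => L.card_cases
  haveI := Fact.mk hp
  obtain ⟨P, hP⟩ := (IsPGroup.of_card (p := r) (n := 1) (G := zpowers y)
    (by rw [Nat.card_zpowers, hy, pow_one])).exists_le_sylow
  have L : Loc A₁ A₂ A₃ r y t x (P : Subgroup G) := ⟨B, ⟨P, rfl⟩, hP (mem_zpowers y)⟩
  have hcb := L.class_bound fun v hv => B.no_four hp hpG hp2 hpr hpN hv
  obtain ⟨z, hz⟩ := exists_prime_orderOf_dvd_card' p hpG
  have hty := B.orderOf_ty
  have h3 := B.three_le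
  have hex := B.extra_of_prime hp hpG hp2 hpr hpN (w := z) (by rw [hz])
  have hyz : ¬ IsConj y z := fun h => hex.2 y (by simp) h.symm
  have htz : ¬ IsConj (t * y) z := fun h => hex.2 (t * y) (by simp) h.symm
  have hyt : ¬ IsConj y (t * y) := fun h => by
    have h1 := IsConj.orderOf_eq' h
    rw [hy, hty] at h1; omega
  have n1 : y ∉ ({t * y, z} : Finset G) := fun h => by
    rcases Finset.mem_insert.1 h with e | e
    · exact hyt (e ▸ IsConj.refl y)
    · exact hyz (Finset.mem_singleton.1 e ▸ IsConj.refl y)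
  have n2 : t * y ∉ ({z} : Finset G) := fun h =>
    htz (Finset.mem_singleton.1 h ▸ IsConj.refl (t * y))
  have hsum := T.class_sum_le {y, t * y, z}
    (fun s hs => by
      simp only [Finset.mem_insert, Finset.mem_singleton] at hs
      rcases hs with e | e | e <;> rw [e]
      · exact B.out_of_dvd (by rw [hy])
      · exact B.five_out (t * y) (by simp)
      · exact hex.1)
    (fun s hs s' hs' h => by
      simp only [Finset.mem_insert, Finset.mem_singleton] at hs hs'
      rcases hs with e | e | e <;> rcases hs' with e' | e' | e' <;> rw [e, e'] at h ⊢ <;>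
        first
          | exact absurd h hyt
          | exact absurd h hyz
          | exact absurd h htz
          | exact absurd h.symm hyt
          | exact absurd h.symm hyz
          | exact absurd h.symm htz)
  rw [Finset.sum_insert n1, Finset.sum_insert n2, Finset.sum_singleton] at hsum
  have hg : 0 < Nat.card G := Nat.card_pos
  rcases L.card_cases with hR | hR
  · rw [hR] at hcb
    have hmb := T.meets_bound
    rcases B.r_eq with e | e <;> rw [e] at hcb <;> omega
  · rw [hR] at hcb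
    have hr3 : r = 3 := by
      have h1 : r ∣ 3 ^ 2 := by
        rw [show (3 : ℕ) ^ 2 = Nat.card (P : Subgroup G) by rw [hR]; norm_num, L.card_eq]
        exact dvd_pow_self r (by have := L.two_le_exp; omega)
      exact (Nat.prime_dvd_prime_iff_eq hr Nat.prime_three).1 (hr.dvd_of_dvd_pow h1)
    have hcz : Nat.card G ≤ Nat.card {g : G // IsConj z g} * 25 := by
      rw [← card_isConj_mul_card_centralizer z]
      exact Nat.mul_le_mul_left _ (L.extra_centralizer_le hp hpG hp2 hpr hpN hr3 hR hz)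
    obtain ⟨c2, c3, -⟩ := B.mcl_bounds hr3
    obtain ⟨a1, -⟩ := T.mcl₁
    obtain ⟨a2, -⟩ := T.mcl₂
    obtain ⟨a3, -⟩ := T.mcl₃
    have m1 := T.h₁.meets_ge (a := 2) (b := 5) (by have := T.mcl₁.2; omega)
    have m2 := T.h₂.meets_ge (a := 3) (b := 13) (by omega)
    have m3 := T.h₃.meets_ge (a := 3) (b := 13) (by omega)
    omega

end CfsgLib.Recog.SuzThree
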