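import Cfsg.Agent.Lib.Recog.SuzThree.Chars
import Cfsg.Agent.Lib.CharApps.Basic

/-!
# Three strongly self-centralizing subgroups: classes outside, involutions

There are at most six classes outside the conjugates of the three subgroups, one class of
involutions, and many pairs of involutions with product in one of the subgroups.
-/

set_option autoImplicit false
set_option linter.style.haveILetI false
set_option linter.unusedSectionVars false

namespace CfsgLib.Recog.SuzThree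

open Cfsg CfsgLib.Chars CfsgLib.CharApps Subgroup
open scoped ComplexConjugate Classical

universe u

variable {G : Type u} [Group G] [Finite G]

/-- A nonprincipal irreducible character of a simple group has trivial kernel. -/
theorem value_ne_degree {H : Type*} [Group H] [Fintype H] [IsSimpleGroup H] {χ : IrrCharacter H}
    (hχ : χ ≠ principal H) {u : H} (hu : u ≠ 1) : (χ : H → ℂ) u ≠ (χ : H → ℂ) 1 := by
  intro h
  rcases (charKer_normal χ).eq_bot_or_eq_top with hb | ht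
  · exact hu (Subgroup.mem_bot.1 (hb ▸ (mem_charKer.2 h : u ∈ charKer χ)))
  · refine irr_degree_ne_zero χ.2 ?_
    have h1 := inner_irr χ (principal H)
    rw [if_neg hχ, inner_def, mul_eq_zero] at h1
    have h2 := h1.resolve_left (inv_ne_zero (card_ne_zero H))
    rw [Finset.sum_congr rfl (g := fun _ => (χ : H → ℂ) 1) (fun g _ => by
      rw [principal_apply, map_one, mul_one, mem_charKer.1 (ht ▸ Subgroup.mem_top g)]),
      Finset.sum_const, nsmul_eq_mul, Finset.card_univ] at h2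
    exact (mul_eq_zero.1 h2).resolve_left (Nat.cast_ne_zero.2 Fintype.card_ne_zero)

section One

variable {A : Subgroup G} {e : ℕ}

theorem CC.orderOf_dvd_of_meets (h : CC A e) {x : G} (hx : Meets A x) :
    orderOf x ∣ Nat.card A := by
  obtain ⟨a, ha, -, hc⟩ := hx
  obtain ⟨g, rfl⟩ := isConj_iff.1 hc
  rw [← MulAut.conj_apply, MulEquiv.orderOf_eq]
  exact Subgroup.orderOf_dvd_natCard A ha

theorem CC.odd_card (h : CC A e) (he : Even e) : Odd (Nat.card A) := by
  rw [← h.card_classes]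
  exact (he.mul_right _).add_one

/-- An involution inverting `A`. -/
theorem CC.exists_inverting (h : CC A e) (he : Even e) :
    ∃ s : G, orderOf s = 2 ∧ s ∈ normalizer (A : Set G) ∧ s ∉ A ∧
      ∀ a ∈ A, s * a * s⁻¹ = a⁻¹ := by
  obtain ⟨s, hs⟩ := exists_prime_orderOf_dvd_card' (G := normalizer (A : Set G)) 2
    (by rw [h.card_norm]; exact dvd_mul_of_dvd_left he.two_dvd _)
  have hs2 : orderOf (s : G) = 2 := by rw [Subgroup.orderOf_coe, hs]
  have hsA : (s : G) ∉ A := fun hm => by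
    have h1 := Subgroup.orderOf_dvd_natCard A hm
    rw [hs2] at h1
    exact (Nat.not_even_iff_odd.2 (h.odd_card he)) (even_iff_two_dvd.2 h1)
  refine ⟨s, hs2, s.2, hsA, fun a ha => h.invert s.2 hsA ?_ ha⟩
  rw [← sq, ← hs2, pow_orderOf_eq_one]

/-- Each element meeting `A` is inverted by at least `|A|` involutions. -/
theorem CC.le_card_pairs (h : CC A e) (he : Even e) {x : G} (hx : Meets A x) :
    Nat.card A ≤ Nat.card {u : G // orderOf u = 2 ∧ orderOf (u * x) = 2} := by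
  obtain ⟨a, ha, ha1, hax⟩ := hx
  obtain ⟨g, rfl⟩ := isConj_iff.1 hax
  obtain ⟨s, hs2, -, hsA, hinv⟩ := h.exists_inverting he
  have hss : s * s = 1 := by rw [← sq, ← hs2, pow_orderOf_eq_one]
  have hmk : ∀ b ∈ A, orderOf (s * b) = 2 := by
    intro b hb
    refine orderOf_eq_prime ?_ ?_
    · calc (s * b) ^ 2 = (s * b * s⁻¹) * (s * s) * b := by rw [sq]; group
        _ = 1 := by rw [hinv b hb, hss]; group
    · intro e1
      exact hsA (by rw [eq_inv_of_mul_eq_one_left e1]; exact inv_mem hb)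
  refine Nat.card_le_card_of_injective (fun b : A => ⟨g * (s * b) * g⁻¹, ?_, ?_⟩) ?_
  · rw [← MulAut.conj_apply, MulEquiv.orderOf_eq]; exact hmk _ b.2
  · rw [show g * (s * b) * g⁻¹ * (g * a * g⁻¹) = g * (s * ((b : G) * a)) * g⁻¹ by group,
      ← MulAut.conj_apply, MulEquiv.orderOf_eq]
    exact hmk _ (mul_mem b.2 ha)
  · intro b c hbc
    simpa using hbc

theorem CC.card_meets (h : CC A e) :
    Nat.card A * Nat.card {x : G // Meets A x} =
      Nat.card {c : ConjClasses G // ∃ x, ConjClasses.mk x = c ∧ Meets A x} * Nat.card G := by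
  haveI := Fintype.ofFinite G
  let T := {c : ConjClasses G // ∃ x, ConjClasses.mk x = c ∧ Meets A x}
  haveI := Fintype.ofFinite T
  let F : {x : G // Meets A x} → T := fun x => ⟨ConjClasses.mk x.1, x.1, rfl, x.2⟩
  have hfib : ∀ c, Nat.card A * Nat.card {x : {x : G // Meets A x} // F x = c} = Nat.card G := by
    rintro ⟨c, y, rfl, a, ha, ha1, hay⟩
    rw [← card_isConj_mul_card_centralizer a, h.cent a ha ha1, mul_comm]
    congr 1
    refine Nat.card_congr
      { toFun := fun x => ⟨x.1.1, hay.trans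
          (ConjClasses.mk_eq_mk_iff_isConj.1 (congrArg Subtype.val x.2)).symm⟩
        invFun := fun z => ⟨⟨z.1, a, ha, ha1, z.2⟩,
          Subtype.ext (ConjClasses.mk_eq_mk_iff_isConj.2 (z.2.symm.trans hay))⟩
        left_inv := fun x => rfl
        right_inv := fun z => rfl }
  rw [← Nat.card_congr (Equiv.sigmaFiberEquiv F), Nat.card_sigma, Finset.mul_sum,
    Finset.sum_congr rfl fun y _ => hfib y, Finset.sum_const, smul_eq_mul, Finset.card_univ,
    ← Nat.card_eq_fintype_card]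

theorem CC.dvd_degree (h : CC A e) [Fintype G] {X : IrrCharacter G}
    (h0 : ∀ c ∈ A, c ≠ 1 → (X : G → ℂ) c = 0) :
    Nat.card A ∣ charDegree (X : G → ℂ) := by
  obtain ⟨k, hk⟩ := inner_char_nat (isCharacter_restrict A (isCharacter_of_irr X.2))
    (isCharacter_one (G := A))
  refine ⟨k, ?_⟩
  rw [inner_def, Finset.sum_eq_single (1 : A) (fun c _ hc => by
      rw [h0 _ c.2 fun e1 => hc (Subtype.ext e1), zero_mul])
    (fun hh => absurd (Finset.mem_univ _) hh), map_one, mul_one, inv_mul_eq_iff_eq_mul₀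
      (card_ne_zero A), OneMemClass.coe_one, deg_eq] at hk
  exact_mod_cast hk

end One

/-- The hypotheses. -/
structure Three (A₁ A₂ A₃ : Subgroup G) : Prop where
  simple : IsSimpleGroup G
  h₁ : CC A₁ 2
  h₂ : CC A₂ 4
  h₃ : CC A₃ 4
  ne₁₂ : ∀ g : G, A₁.map (MulAut.conj g).toMonoidHom ≠ A₂
  ne₁₃ : ∀ g : G, A₁.map (MulAut.conj g).toMonoidHom ≠ A₃
  ne₂₃ : ∀ g : G, A₂.map (MulAut.conj g).toMonoidHom ≠ A₃
  five₁ : 5 ≤ Nat.card A₁
  five₂ : 5 < Nat.card A₂
  five₃ : 5 < Nat.card A₃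
  ord : Nat.card G ≤ 3 * Nat.card A₁ ^ 2 * Nat.card A₂ ^ 2 * Nat.card A₃ ^ 2
  ab : ∀ r : ℕ, r.Prime → r ≠ 2 → ¬ r ∣ Nat.card A₁ * Nat.card A₂ * Nat.card A₃ →
    ∀ P : Sylow r G, IsMulCommutative ↥(P : Subgroup G)

/-- Outside the conjugates of the three subgroups. -/
def Out (A₁ A₂ A₃ : Subgroup G) (x : G) : Prop :=
  ¬ Meets A₁ x ∧ ¬ Meets A₂ x ∧ ¬ Meets A₃ x

/-- The number of classes meeting a subgroup. -/
noncomputable def mcl (A : Subgroup G) : ℕ :=
  Nat.card {c : ConjClasses G // ∃ x, ConjClasses.mk x = c ∧ Meets A x}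

variable {A₁ A₂ A₃ : Subgroup G}

namespace Three

theorem mcl₁ (T : Three A₁ A₂ A₃) : 2 * mcl A₁ + 1 = Nat.card A₁ ∧ 2 ≤ mcl A₁ := by
  have h1 : 2 * mcl A₁ + 1 = Nat.card A₁ := T.h₁.card_classes
  exact ⟨h1, by have := T.five₁; omega⟩

theorem mcl₂ (T : Three A₁ A₂ A₃) : 4 * mcl A₂ + 1 = Nat.card A₂ ∧ 2 ≤ mcl A₂ := by
  have h1 : 4 * mcl A₂ + 1 = Nat.card A₂ := T.h₂.card_classes
  exact ⟨h1, by have := T.five₂; omega⟩

theorem mcl₃ (T : Three A₁ A₂ A₃) : 4 * mcl A₃ + 1 = Nat.card A₃ ∧ 2 ≤ mcl A₃ := by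
  have h1 : 4 * mcl A₃ + 1 = Nat.card A₃ := T.h₃.card_classes
  exact ⟨h1, by have := T.five₃; omega⟩

theorem out_of_even (T : Three A₁ A₂ A₃) {x : G} (hx : Even (orderOf x)) : Out A₁ A₂ A₃ x := by
  have key : ∀ {A : Subgroup G} {e : ℕ}, CC A e → Even e → ¬ Meets A x := fun h he hm =>
    Nat.not_even_iff_odd.2 ((h.odd_card he).of_dvd_nat (h.orderOf_dvd_of_meets hm)) hx
  exact ⟨key T.h₁ ⟨1, rfl⟩, key T.h₂ ⟨2, rfl⟩, key T.h₃ ⟨2, rfl⟩⟩

theorem out_one : Out A₁ A₂ A₃ (1 : G) := ⟨not_meets_one, not_meets_one, not_meets_one⟩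

theorem N_dvd (T : Three A₁ A₂ A₃) :
    Nat.card A₁ * Nat.card A₂ * Nat.card A₃ ∣ Nat.card G := by
  have c12 := T.h₁.coprime T.h₂ T.ne₁₂
  have c13 := T.h₁.coprime T.h₃ T.ne₁₃
  have c23 := T.h₂.coprime T.h₃ T.ne₂₃
  exact (Nat.Coprime.mul_left c13 c23).mul_dvd_of_dvd_of_dvd
    (c12.mul_dvd_of_dvd_of_dvd (Subgroup.card_subgroup_dvd_card A₁) (Subgroup.card_subgroup_dvd_card A₂))
    (Subgroup.card_subgroup_dvd_card A₃)

theorem disjoint_meets {A B : Subgroup G} {e f : ℕ} (hA : CC A e) (hB : CC B f)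
    (hne : ∀ g : G, A.map (MulAut.conj g).toMonoidHom ≠ B) {x y : G} (hx : Meets A x)
    (hy : Meets B y) : ¬ IsConj x y := fun hc => by
  obtain ⟨g, hg⟩ := hA.exists_conj_eq hB (hx.of_isConj hc) hy
  exact hne g hg

/-- At most six classes outside, and with five of them the group is large. -/
theorem out_classes (T : Three A₁ A₂ A₃) (S : Finset G) (hS : ∀ s ∈ S, Out A₁ A₂ A₃ s)
    (hne : ∀ s ∈ S, ∀ s' ∈ S, IsConj s s' → s = s') :
    S.card ≤ 6 ∧ (5 ≤ S.card →
      (Nat.card A₁ * Nat.card A₂ * Nat.card A₃) ^ 2 < Nat.card G) := by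
  haveI := Fintype.ofFinite G
  letI := Chars.irrFintype G
  haveI := Fintype.ofFinite (ConjClasses G)
  haveI : Fintype (A₁ →* ℂˣ) := Fintype.ofFinite _
  haveI : Fintype (A₂ →* ℂˣ) := Fintype.ofFinite _
  haveI : Fintype (A₃ →* ℂˣ) := Fintype.ofFinite _
  -- the classes
  let C : Subgroup G → Finset (ConjClasses G) := fun A =>
    Finset.univ.filter fun c => ∃ x, ConjClasses.mk x = c ∧ Meets A x
  have hC : ∀ A, (C A).card = mcl A := fun A => by
    rw [mcl, Nat.card_eq_fintype_card, Fintype.card_subtype]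
  have hd : ∀ {A B : Subgroup G} {e f : ℕ}, CC A e → CC B f →
      (∀ g : G, A.map (MulAut.conj g).toMonoidHom ≠ B) → Disjoint (C A) (C B) := by
    intro A B e f hA hB hAB
    rw [Finset.disjoint_left]
    intro c hc hc'
    obtain ⟨x, rfl, hx⟩ := (Finset.mem_filter.1 hc).2
    obtain ⟨y, hy, hy'⟩ := (Finset.mem_filter.1 hc').2
    exact disjoint_meets hA hB hAB hx hy' (ConjClasses.mk_eq_mk_iff_isConj.1 hy).symm
  have hSi : (S.image ConjClasses.mk).card = S.card := Finset.card_image_of_injOn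
    fun s hs s' hs' e1 => hne s hs s' hs' (ConjClasses.mk_eq_mk_iff_isConj.1 e1)
  have hd' : Disjoint (C A₁ ∪ C A₂ ∪ C A₃) (S.image ConjClasses.mk) := by
    rw [Finset.disjoint_right]
    intro c hc hc'
    obtain ⟨s, hs, rfl⟩ := Finset.mem_image.1 hc
    simp only [Finset.mem_union, C, Finset.mem_filter, Finset.mem_univ, true_and] at hc'
    rcases hc' with (⟨x, hx, hm⟩ | ⟨x, hx, hm⟩) | ⟨x, hx, hm⟩
    · exact (hS s hs).1 (hm.of_isConj (ConjClasses.mk_eq_mk_iff_isConj.1 hx))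
    · exact (hS s hs).2.1 (hm.of_isConj (ConjClasses.mk_eq_mk_iff_isConj.1 hx))
    · exact (hS s hs).2.2 (hm.of_isConj (ConjClasses.mk_eq_mk_iff_isConj.1 hx))
  have hcl : mcl A₁ + mcl A₂ + mcl A₃ + S.card ≤ Fintype.card (IrrCharacter G) := by
    rw [← Nat.card_eq_fintype_card, card_irr_eq_card_classes, Nat.card_eq_fintype_card,
      ← hC, ← hC, ← hC, ← hSi, ← Finset.card_union_of_disjoint (hd T.h₁ T.h₂ T.ne₁₂),
      ← Finset.card_union_of_disjoint (Finset.disjoint_union_left.2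
        ⟨hd T.h₁ T.h₃ T.ne₁₃, hd T.h₂ T.h₃ T.ne₂₃⟩), ← Finset.card_union_of_disjoint hd']
    exact Finset.card_le_univ _
  -- the families
  have hm₁ : (fam A₁).card = mcl A₁ := by
    have := T.h₁.card_fam; have := T.mcl₁; omega
  have hm₂ : (fam A₂).card = mcl A₂ := by
    have := T.h₂.card_fam; have := T.mcl₂; omega
  have hm₃ : (fam A₃).card = mcl A₃ := by
    have := T.h₃.card_fam; have := T.mcl₃; omega
  have hnorm : ∀ {A : Subgroup G} {e : ℕ} [Fintype (A →* ℂˣ)], CC A e →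
      (∀ v ∈ fam A, dot v v = (e : ℤ)) ∧
      (∀ v ∈ fam A, ∀ w ∈ fam A, v ≠ w → dot v w = (e : ℤ) - 1) := by
    intro A e _ hA
    constructor
    · intro v hv
      obtain ⟨χ, hχ, rfl⟩ := mem_fam.1 hv
      rw [hA.dot_self hχ hχ, if_pos ⟨1, tw_one χ⟩]; ring
    · intro v hv w hw hvw
      obtain ⟨χ, hχ, rfl⟩ := mem_fam.1 hv
      obtain ⟨ν, hν, rfl⟩ := mem_fam.1 hw
      rw [hA.dot_self hχ hν, if_neg fun ho => hvw ((hA.orb_iff hχ hν).2 ho), add_zero]
  have hcross : ∀ {A B : Subgroup G} {e f : ℕ} [Fintype (A →* ℂˣ)] [Fintype (B →* ℂˣ)],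
      CC A e → CC B f → (∀ g : G, A.map (MulAut.conj g).toMonoidHom ≠ B) →
      ∀ v ∈ fam A, ∀ w ∈ fam B, dot v w = -1 := by
    intro A B e f _ _ hA hB hAB v hv w hw
    obtain ⟨χ, hχ, rfl⟩ := mem_fam.1 hv
    obtain ⟨ν, hν, rfl⟩ := mem_fam.1 hw
    exact hA.dot_cross hB hAB hχ hν
  obtain ⟨n1a, n1b⟩ := hnorm T.h₁
  obtain ⟨n2a, n2b⟩ := hnorm T.h₂
  obtain ⟨n3a, n3b⟩ := hnorm T.h₃
  obtain ⟨φ, δ, hδ, hstar⟩ := exists_star (fam A₁) (by rw [hm₁]; exact T.mcl₁.2) n1a n1b
    (fun X => (charDegree (X : G → ℂ) : ℤ)) (fun v hv => by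
      obtain ⟨χ, hχ, rfl⟩ := mem_fam.1 hv
      exact sum_vec_deg hχ)
  have hU := card_union_supp_le (fam A₁) (fam A₂) (fam A₃) φ δ hδ
    (by rw [hm₁]; exact T.mcl₁.2) (by rw [hm₂]; exact T.mcl₂.2) (by rw [hm₃]; exact T.mcl₃.2)
    n1a n1b hstar n2a n2b n3a n3b (hcross T.h₁ T.h₂ T.ne₁₂) (hcross T.h₁ T.h₃ T.ne₁₃)
    (hcross T.h₂ T.h₃ T.ne₂₃)
  rw [hm₁, hm₂, hm₃] at hU
  set U := (fam A₁).biUnion supp ∪ ((fam A₂).biUnion supp ∪ (fam A₃).biUnion supp)
  set R : Finset (IrrCharacter G) := Finset.univ \ insert (principal G) U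
  have hR : S.card ≤ 4 + R.card := by
    have h1 := Finset.le_card_sdiff (insert (principal G) U) (Finset.univ : Finset (IrrCharacter G))
    rw [Finset.card_univ] at h1
    have h2 := Finset.card_insert_le (principal G) U
    change Fintype.card (IrrCharacter G) - (insert (principal G) U).card ≤ R.card at h1
    omega
  set N := Nat.card A₁ * Nat.card A₂ * Nat.card A₃ with hN
  have hdeg : ∀ X ∈ R, N ≤ charDegree (X : G → ℂ) := by
    intro X hX
    simp only [R, U, Finset.mem_sdiff, Finset.mem_univ, true_and, Finset.mem_insert,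
      Finset.mem_union, Finset.mem_biUnion, not_or, not_exists, not_and, mem_supp, not_not] at hX
    obtain ⟨hX1, h1, h2, h3⟩ := hX
    have d1 := T.h₁.dvd_degree fun c hc hc1 => T.h₁.eq_zero_of_not_supp hX1 h1 hc hc1
    have d2 := T.h₂.dvd_degree fun c hc hc1 => T.h₂.eq_zero_of_not_supp hX1 h2 hc hc1
    have d3 := T.h₃.dvd_degree fun c hc hc1 => T.h₃.eq_zero_of_not_supp hX1 h3 hc hc1
    have hdvd : N ∣ charDegree (X : G → ℂ) :=
      (Nat.Coprime.mul_left (T.h₁.coprime T.h₃ T.ne₁₃) (T.h₂.coprime T.h₃ T.ne₂₃)).mul_dvd_of_dvd_of_dvd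
        ((T.h₁.coprime T.h₂ T.ne₁₂).mul_dvd_of_dvd_of_dvd d1 d2) d3
    refine Nat.le_of_dvd (Nat.pos_of_ne_zero fun h0 => irr_degree_ne_zero X.2 ?_) hdvd
    rw [deg_eq, h0, Nat.cast_zero]
  have hsum : 1 + R.card * N ^ 2 ≤ Nat.card G := by
    have h1 : (Nat.card G : ℕ) = ∑ X : IrrCharacter G, charDegree (X : G → ℂ) ^ 2 := by
      have h2 := sum_degree_sq (G := G)
      simp only [deg_eq] at h2
      exact_mod_cast h2.symm
    have hp : principal G ∉ R := fun hh => (Finset.mem_sdiff.1 hh).2 (Finset.mem_insert_self _ _)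
    rw [h1]
    refine le_trans ?_ (Finset.sum_le_sum_of_subset (Finset.subset_univ (insert (principal G) R)))
    rw [Finset.sum_insert hp]
    refine add_le_add ?_ ?_
    · have : charDegree ((principal G : IrrCharacter G) : G → ℂ) = 1 := by
        have h3 := deg_eq (principal G)
        rw [principal_apply] at h3
        exact_mod_cast h3.symm
      rw [this]; norm_num
    · refine le_trans (le_of_eq ?_) (Finset.card_nsmul_le_sum R _ (N ^ 2) fun X hX =>
        Nat.pow_le_pow_left (hdeg X hX) 2)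
      rw [smul_eq_mul]
  have hord : Nat.card G ≤ 3 * N ^ 2 := le_of_le_of_eq T.ord (by rw [hN]; ring)
  refine ⟨?_, fun h5 => ?_⟩
  · by_contra h7
    have : 3 * N ^ 2 ≤ R.card * N ^ 2 := Nat.mul_le_mul_right _ (by omega)
    omega
  · have : 1 * N ^ 2 ≤ R.card * N ^ 2 := Nat.mul_le_mul_right _ (by omega)
    omega

/-- There is one class of involutions. -/
theorem isConj_of_involutions (T : Three A₁ A₂ A₃) {u t : G} (hu : orderOf u = 2)
    (ht : orderOf t = 2) : IsConj u t := by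
  haveI := Fintype.ofFinite G
  letI := Chars.irrFintype G
  haveI : Fintype (A₁ →* ℂˣ) := Fintype.ofFinite _
  haveI := T.simple
  suffices key : ∃ a b : G, Meets A₁ (a * u * a⁻¹ * (b * t * b⁻¹)) by
    obtain ⟨a, b, c, hc, hc1, hcc⟩ := key
    obtain ⟨k, hk⟩ := isConj_iff.1 hcc.symm
    have hu' : IsConj u (k * a * u * (k * a)⁻¹) := isConj_iff.2 ⟨k * a, rfl⟩
    have ht' : IsConj t (k * b * t * (k * b)⁻¹) := isConj_iff.2 ⟨k * b, rfl⟩
    set u' := k * a * u * (k * a)⁻¹ with hu'e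
    set t' := k * b * t * (k * b)⁻¹ with ht'e
    have hprod : u' * t' = c := by rw [← hk, hu'e, ht'e]; group
    have hu2 : u' * u' = 1 := by
      rw [← sq, hu'e, conj_pow, ← hu, pow_orderOf_eq_one]; group
    have ht2 : t' * t' = 1 := by
      rw [← sq, ht'e, conj_pow, ← ht, pow_orderOf_eq_one]; group
    have hmv : u' * c * u'⁻¹ = c⁻¹ := by
      rw [← hprod, ← mul_assoc u' u', hu2, one_mul, mul_inv_rev u' t',
        inv_eq_of_mul_eq_one_right ht2]
    have hN : u' ∈ normalizer (A₁ : Set G) :=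
      T.h₁.mem_normalizer hc hc1 (by rw [hmv]; exact inv_mem hc)
    have hodd := T.h₁.odd_card (e := 2) ⟨1, rfl⟩
    have huA : u' ∉ A₁ := by
      intro hm
      have hord : orderOf u' = 2 := by rw [hu'e, ← MulAut.conj_apply, MulEquiv.orderOf_eq, hu]
      have := Subgroup.orderOf_dvd_natCard A₁ hm
      rw [hord] at this
      exact Nat.not_even_iff_odd.2 hodd (even_iff_two_dvd.2 this)
    have hco : (Nat.card A₁).Coprime 2 := by
      rw [Nat.coprime_two_right]; exact hodd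
    obtain ⟨d, hd⟩ := (powCoprime hco).surjective ⟨c, hc⟩
    have hdc : (d : G) ^ 2 = c := congrArg Subtype.val hd
    have hinv := T.h₁.invert hN huA hu2 d.2
    have e1 : (d : G)⁻¹ * u' * d = t' := by
      have h3 : t' = u' * c := by rw [← hprod, ← mul_assoc, hu2, one_mul]
      rw [h3, ← hdc]
      calc (d : G)⁻¹ * u' * d = (u' * d * u'⁻¹) * u' * d := by rw [hinv]
        _ = u' * (d : G) ^ 2 := by rw [pow_two]; group
    exact hu'.trans ((isConj_iff.2 ⟨(d : G)⁻¹, by rw [inv_inv, e1]⟩).trans ht'.symm)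
  by_contra hno
  push Not at hno
  have hfam : 2 ≤ (fam A₁).card := by
    have h1 := T.h₁.card_fam; have := T.mcl₁; omega
  obtain ⟨φ, δ, hδ, hstar⟩ := exists_star (fam A₁) hfam (fun v hv => by
      obtain ⟨χ, hχ, rfl⟩ := mem_fam.1 hv
      rw [T.h₁.dot_self hχ hχ, if_pos ⟨1, tw_one χ⟩]; norm_num)
    (fun v hv w hw hvw => by
      obtain ⟨χ, hχ, rfl⟩ := mem_fam.1 hv
      obtain ⟨ν, hν, rfl⟩ := mem_fam.1 hw
      rw [T.h₁.dot_self hχ hν, if_neg fun ho => hvw ((T.h₁.orb_iff hχ hν).2 ho)]; norm_num)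
    (fun X => (charDegree (X : G → ℂ) : ℤ)) (fun v hv => by
      obtain ⟨χ, hχ, rfl⟩ := mem_fam.1 hv
      exact sum_vec_deg hχ)
  obtain ⟨v, hv⟩ := Finset.card_pos.1 (lt_of_lt_of_le two_pos hfam)
  obtain ⟨χ, hχ, rfl⟩ := mem_fam.1 hv
  obtain ⟨hφv, X, hX, hsupp⟩ := hstar _ hv
  have hsum : ∀ F : IrrCharacter G → ℂ, ∑ W, (vec A₁ χ W : ℂ) * F W =
      (δ : ℂ) * F φ + (vec A₁ χ X : ℂ) * F X := by
    intro F
    rw [← Finset.sum_subset (Finset.subset_univ (supp (vec A₁ χ))) fun W _ hW => by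
      rw [mem_supp, not_not] at hW; rw [hW, Int.cast_zero, zero_mul], hsupp,
      Finset.sum_pair hX.symm, hφv]
  have hεX : vec A₁ χ X = 1 ∨ vec A₁ χ X = -1 :=
    (unit_of_norm_two (by rw [T.h₁.dot_self hχ hχ, if_pos ⟨1, tw_one χ⟩]; norm_num) X).resolve_left
      (mem_supp.1 (hsupp ▸ by simp))
  have hne : ∀ W, vec A₁ χ W ≠ 0 → W ≠ principal G := fun W hW e1 => hW (e1 ▸ vec_principal χ)
  have hout : ∀ {g : G}, Even (orderOf g) →
      (δ : ℂ) * (φ : G → ℂ) g + (vec A₁ χ X : ℂ) * (X : G → ℂ) g = -1 := fun {g} hg => by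
    rw [← hsum fun W => (W : G → ℂ) g]; exact sum_vec_out hχ (T.out_of_even hg).1
  have e1 : (δ : ℂ) * (φ : G → ℂ) 1 + (vec A₁ χ X : ℂ) * (X : G → ℂ) 1 = -1 := by
    rw [← hsum fun W => (W : G → ℂ) 1]; exact sum_vec_out hχ not_meets_one
  have eu := hout (g := u) (by rw [hu]; exact even_two)
  have et := hout (g := t) (by rw [ht]; exact even_two)
  have hp := sum_vec_pairs hχ u t hno
  rw [hsum fun W => (W : G → ℂ) u * (W : G → ℂ) t / (W : G → ℂ) 1] at hp
  have hf := irr_degree_ne_zero φ.2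
  have hx := irr_degree_ne_zero X.2
  field_simp at hp
  set ε := (vec A₁ χ X : ℂ) with hε
  set d := (δ : ℂ) with hd
  have hε2 : ε * ε = 1 := by
    rcases hεX with e2 | e2 <;> rw [hε, e2] <;> norm_num
  have hd2 : d * d = 1 := by rcases hδ with e2 | e2 <;> rw [hd, e2] <;> norm_num
  set a := (φ : G → ℂ) u
  set b := (φ : G → ℂ) t
  set f := (φ : G → ℂ) 1
  set x₁ := (X : G → ℂ) 1
  set xu := (X : G → ℂ) u
  set xt := (X : G → ℂ) t
  have key : d * ((f - a) * (f - b)) = 0 := by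
    have h1 : ε * x₁ = -1 - d * f := by linear_combination e1
    have h2 : ε * xu = -1 - d * a := by linear_combination eu
    have h3 : ε * xt = -1 - d * b := by linear_combination et
    have h4 : f * (ε * x₁) + d * a * b * (ε * x₁) + f * ((ε * xu) * (ε * xt)) = 0 := by
      linear_combination ε * hp
    rw [h1, h2, h3] at h4
    linear_combination (-1 : ℂ) * h4
  rcases mul_eq_zero.1 key with h0 | h0
  · rcases hδ with e2 | e2 <;> simp [hd, e2] at h0
  rcases mul_eq_zero.1 h0 with h0 | h0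
  · exact value_ne_degree (χ := φ) (hne φ (by rw [hφv]; omega)) (u := u)
      (by rintro rfl; simp at hu) (sub_eq_zero.1 h0).symm
  · exact value_ne_degree (χ := φ) (hne φ (by rw [hφv]; omega)) (u := t)
      (by rintro rfl; simp at ht) (sub_eq_zero.1 h0).symm

/-- The centralizer of an involution is small: pairs of involutions with product meeting the
three subgroups. -/
theorem involution_bound (T : Three A₁ A₂ A₃) {t : G} (ht : orderOf t = 2) :
    Nat.card (centralizer ({t} : Set G)) ^ 2 * (mcl A₁ + mcl A₂ + mcl A₃) ≤ Nat.card G := by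
  haveI := Fintype.ofFinite G
  let I := {u : G // orderOf u = 2}
  set n := Nat.card I with hn
  have hI : n * Nat.card (centralizer ({t} : Set G)) = Nat.card G := by
    rw [← card_isConj_mul_card_centralizer t]
    congr 1
    refine Nat.card_congr (Equiv.subtypeEquivRight fun u => ⟨fun hu => T.isConj_of_involutions ht hu,
      fun hc => ?_⟩)
    obtain ⟨g, rfl⟩ := isConj_iff.1 hc
    rw [← MulAut.conj_apply, MulEquiv.orderOf_eq, ht]
  let k : G → ℕ := fun x => Nat.card {u : G // orderOf u = 2 ∧ orderOf (u * x) = 2}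
  have hpairs : ∑ x : G, k x = n * n := by
    rw [hn, ← Nat.card_prod, ← Nat.card_sigma]
    refine Nat.card_congr
      { toFun := fun p => (⟨p.2.1, p.2.2.1⟩, ⟨p.2.1 * p.1, p.2.2.2⟩)
        invFun := fun q => ⟨q.1.1⁻¹ * q.2.1, q.1.1, q.1.2, by rw [mul_inv_cancel_left]; exact q.2.2⟩
        left_inv := ?_
        right_inv := fun q => by simp }
    rintro ⟨x, u, hu⟩
    refine Sigma.subtype_ext ?_ rfl
    simp
  have hA : ∀ {A : Subgroup G} {e : ℕ}, CC A e → Even e →
      mcl A * Nat.card G ≤ ∑ x ∈ Finset.univ.filter (Meets A), k x := by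
    intro A e hA he
    rw [mcl, ← hA.card_meets, Nat.card_eq_fintype_card (α := {x : G // Meets A x}),
      Fintype.card_subtype, mul_comm, ← smul_eq_mul]
    exact Finset.card_nsmul_le_sum _ _ _ fun x hx => hA.le_card_pairs he (Finset.mem_filter.1 hx).2
  have hd : ∀ {A B : Subgroup G} {e f : ℕ}, CC A e → CC B f →
      (∀ g : G, A.map (MulAut.conj g).toMonoidHom ≠ B) →
      Disjoint (Finset.univ.filter (Meets A) : Finset G) (Finset.univ.filter (Meets B)) := by
    intro A B e f hA hB hAB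
    rw [Finset.disjoint_filter]
    exact fun x _ hx hx' => disjoint_meets hA hB hAB hx hx' (IsConj.refl x)
  have h1 : (mcl A₁ + mcl A₂ + mcl A₃) * Nat.card G ≤ n * n := by
    rw [← hpairs]
    refine le_trans ?_ (Finset.sum_le_sum_of_subset (Finset.subset_univ
      ((Finset.univ.filter (Meets A₁) ∪ Finset.univ.filter (Meets A₂)) ∪
        Finset.univ.filter (Meets A₃))))
    rw [Finset.sum_union (Finset.disjoint_union_left.2
      ⟨hd T.h₁ T.h₃ T.ne₁₃, hd T.h₂ T.h₃ T.ne₂₃⟩), Finset.sum_union (hd T.h₁ T.h₂ T.ne₁₂),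
      add_mul, add_mul]
    exact add_le_add (add_le_add (hA T.h₁ ⟨1, rfl⟩) (hA T.h₂ ⟨2, rfl⟩)) (hA T.h₃ ⟨2, rfl⟩)
  have hg : 0 < Nat.card G := Nat.card_pos
  refine Nat.le_of_mul_le_mul_right ?_ hg
  calc Nat.card (centralizer ({t} : Set G)) ^ 2 * (mcl A₁ + mcl A₂ + mcl A₃) * Nat.card G
      = Nat.card (centralizer ({t} : Set G)) ^ 2 * ((mcl A₁ + mcl A₂ + mcl A₃) * Nat.card G) := by ring
    _ ≤ Nat.card (centralizer ({t} : Set G)) ^ 2 * (n * n) := Nat.mul_le_mul_left _ h1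
    _ = Nat.card G * Nat.card G := by rw [← hI]; ring

/-- Disjoint classes have at most `|G|` elements in all. -/
theorem class_sum_le (T : Three A₁ A₂ A₃) (S : Finset G) (hS : ∀ s ∈ S, Out A₁ A₂ A₃ s)
    (hne : ∀ s ∈ S, ∀ s' ∈ S, IsConj s s' → s = s') :
    ∑ s ∈ S, Nat.card {x : G // IsConj s x} + Nat.card {x : G // Meets A₁ x} +
      Nat.card {x : G // Meets A₂ x} + Nat.card {x : G // Meets A₃ x} ≤ Nat.card G := by
  haveI := Fintype.ofFinite G
  simp only [Nat.card_eq_fintype_card, Fintype.card_subtype]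
  have hd : ∀ {A B : Subgroup G} {e f : ℕ}, CC A e → CC B f →
      (∀ g : G, A.map (MulAut.conj g).toMonoidHom ≠ B) →
      Disjoint (Finset.univ.filter (Meets A) : Finset G) (Finset.univ.filter (Meets B)) := by
    intro A B e f hA hB hAB
    rw [Finset.disjoint_filter]
    exact fun x _ hx hx' => disjoint_meets hA hB hAB hx hx' (IsConj.refl x)
  have hS' : ((S : Set G)).PairwiseDisjoint fun s => Finset.univ.filter (IsConj s) := by
    intro s hs s' hs' hss
    rw [Function.onFun, Finset.disjoint_filter]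
    exact fun x _ h1 h2 => hss (hne s hs s' hs' (h1.trans h2.symm))
  rw [← Finset.card_biUnion hS', ← Finset.card_union_of_disjoint, ← Finset.card_union_of_disjoint,
    ← Finset.card_union_of_disjoint]
  · exact Finset.card_le_univ _
  all_goals
    rw [Finset.disjoint_left]
    intro x hx hx'
    simp only [Finset.mem_union, Finset.mem_biUnion, Finset.mem_filter, Finset.mem_univ,
      true_and] at hx hx'
  · rcases hx with (⟨s, hs, hsx⟩ | hx) | hx
    · exact (hS s hs).2.2 (hx'.of_isConj hsx.symm)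
    · exact disjoint_meets T.h₁ T.h₃ T.ne₁₃ hx hx' (IsConj.refl x)
    · exact disjoint_meets T.h₂ T.h₃ T.ne₂₃ hx hx' (IsConj.refl x)
  · rcases hx with ⟨s, hs, hsx⟩ | hx
    · exact (hS s hs).2.1 (hx'.of_isConj hsx.symm)
    · exact disjoint_meets T.h₁ T.h₂ T.ne₁₂ hx hx' (IsConj.refl x)
  · obtain ⟨s, hs, hsx⟩ := hx
    exact (hS s hs).1 (hx'.of_isConj hsx.symm)

end Three

end CfsgLib.Recog.SuzThree
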