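import Cfsg.Agent.Lib.Recog.SuzThree.Orders
import Cfsg.Agent.Lib.Recog.CIT.Main
import Cfsg.Agent.Lib.Recog.SzIso.Suzuki
import Cfsg.Agent.Lib.Recog.SL2Char2
import Cfsg.Agent.Lib.Recog.ProjSpectrum
import Cfsg.Agent.Lib.Recog.TwoR.Consumers.Models

/-!
# Three strongly self-centralizing subgroups: only the Suzuki groups remain

A group in which all involution centralizers are 2-groups and which has the three subgroups is a
Suzuki group.
-/

set_option autoImplicit false
set_option linter.style.haveILetI false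
set_option linter.unusedSectionVars false

namespace CfsgLib.Recog.SuzThree

open Subgroup

universe u

variable {G : Type u} [Group G] [Finite G]

/-- In `SL₂` of characteristic two there is no element of order four. -/
theorem orderOf_ne_four_SL_two {F : Type*} [Field F] [CharP F 2]
    (g : Matrix.SpecialLinearGroup (Fin 2) F) : orderOf g ≠ 4 := by
  intro h4
  set M := (g : Matrix (Fin 2) (Fin 2) F) with hM
  have hsq : M ^ 2 = M.trace • M + 1 := sq_eq_trace_mul_add g
  have hg4 : M ^ 4 = 1 := by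
    rw [hM, ← Matrix.SpecialLinearGroup.coe_pow, ← h4, pow_orderOf_eq_one,
      Matrix.SpecialLinearGroup.coe_one]
  have h4' : M ^ 4 = (M.trace ^ 2) • M ^ 2 + 1 := by
    calc M ^ 4 = (M.trace • M + 1) * (M.trace • M + 1) := by rw [← hsq, ← pow_add]
      _ = (M.trace ^ 2) • M ^ 2 + 1 + (M.trace • M + M.trace • M) := by
        simp only [add_mul, mul_add, smul_mul_assoc, mul_smul_comm, smul_add, smul_smul, one_mul, mul_one,
          pow_two]
        abel
      _ = (M.trace ^ 2) • M ^ 2 + 1 := by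
        rw [← add_smul, CharTwo.add_self_eq_zero, zero_smul, add_zero]
  rw [hg4] at h4'
  have hzero : (M.trace ^ 2) • M ^ 2 = 0 := by
    have h5 := congrArg (fun X => X - 1) h4'.symm
    simpa using h5
  have hdet : (M ^ 2).det = 1 := by rw [Matrix.det_pow, hM, g.2, one_pow]
  have ht : M.trace = 0 := by
    rcases smul_eq_zero.1 hzero with h | h
    · exact eq_zero_of_pow_eq_zero h
    · rw [h, Matrix.det_zero] at hdet; exact absurd hdet zero_ne_one
  rw [ht, zero_smul, zero_add] at hsq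
  have h2 : g ^ 2 = 1 := by
    apply Subtype.ext
    rw [Matrix.SpecialLinearGroup.coe_pow, Matrix.SpecialLinearGroup.coe_one]
    exact hsq
  have := orderOf_dvd_of_pow_eq_one h2
  rw [h4] at this
  exact absurd (Nat.le_of_dvd two_pos this) (by norm_num)

/-- An element whose order is not prime to `|A|` meets `A`. -/
theorem CC.meets_of_not_coprime {A : Subgroup G} {e : ℕ} (h : CC A e) {g : G}
    (hc : ¬ Nat.Coprime (Nat.card A) (orderOf g)) : Meets A g := by
  obtain ⟨r, hr, hrA, hrg⟩ := Nat.Prime.not_coprime_iff_dvd.1 hc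
  obtain ⟨k, hk⟩ := hrg
  have hk0 : k ≠ 0 := by
    rintro rfl
    rw [mul_zero] at hk
    exact (orderOf_pos g).ne' hk
  have hord : orderOf (g ^ k) = r := by
    rw [orderOf_pow' g hk0, hk, Nat.gcd_mul_left_left, Nat.mul_div_cancel _ (Nat.pos_of_ne_zero hk0)]
  obtain ⟨a, ha, ha1, hac⟩ := h.meets_of_prime hr hrA hord
  obtain ⟨x, hx⟩ := isConj_iff.1 hac.symm
  refine ⟨x * g * x⁻¹, h.mem_of_commute ha ha1 ?_, ?_, (isConj_iff.2 ⟨x, rfl⟩ : IsConj g _).symm⟩
  · rw [← hx]
    exact (Commute.self_pow g k).map (MulAut.conj x).toMonoidHom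
  · intro e1
    have h1 : g = 1 := by simpa using e1
    rw [h1, one_pow, orderOf_one] at hord
    exact hr.ne_one hord.symm

variable {A₁ A₂ A₃ : Subgroup G}

/-- The product of the three orders is odd and large. -/
theorem Three.N_large (T : Three A₁ A₂ A₃) :
    Odd (Nat.card A₁ * Nat.card A₂ * Nat.card A₃) ∧
      585 ≤ Nat.card A₁ * Nat.card A₂ * Nat.card A₃ := by
  have h1 := T.mcl₁
  have h2 := T.mcl₂
  have h3 := T.mcl₃
  refine ⟨((T.h₁.odd_card ⟨1, rfl⟩).mul (T.h₂.odd_card ⟨2, rfl⟩)).mul (T.h₃.odd_card ⟨2, rfl⟩), ?_⟩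
  have hne : Nat.card A₂ ≠ Nat.card A₃ := by
    intro e
    have hc := T.h₂.coprime T.h₃ T.ne₂₃
    rw [e, Nat.coprime_self] at hc
    have := T.five₃
    omega
  have h5 := T.five₁
  have h23 : 117 ≤ Nat.card A₂ * Nat.card A₃ := by
    rcases lt_or_gt_of_ne hne with h | h
    · calc 117 = 9 * 13 := rfl
        _ ≤ _ := Nat.mul_le_mul (by omega) (by omega)
    · calc 117 = 13 * 9 := rfl
        _ ≤ _ := Nat.mul_le_mul (by omega) (by omega)
  calc 585 = 5 * 117 := rfl
    _ ≤ Nat.card A₁ * (Nat.card A₂ * Nat.card A₃) := Nat.mul_le_mul h5 h23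
    _ = _ := (mul_assoc _ _ _).symm

/-- The orders cannot all divide `p * orderOf g` for a prime `p`. -/
theorem Three.not_dvd_prime_mul (T : Three A₁ A₂ A₃) {p : ℕ} (hp : p.Prime) (g : G) :
    ¬ Nat.card A₁ * Nat.card A₂ * Nat.card A₃ ∣ p * orderOf g := by
  intro hd
  have d1 : Nat.card A₁ ∣ p * orderOf g := (dvd_mul_of_dvd_left (dvd_mul_right _ _) _).trans hd
  have d2 : Nat.card A₂ ∣ p * orderOf g := (dvd_mul_of_dvd_left (dvd_mul_left _ _) _).trans hd
  have d3 : Nat.card A₃ ∣ p * orderOf g := (dvd_mul_left _ _).trans hd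
  have key : ∀ {A : Subgroup G} {e : ℕ}, CC A e → Nat.card A ∣ p * orderOf g →
      Nat.card A = p ∨ Meets A g := by
    intro A e h hdA
    by_cases hc : Nat.Coprime (Nat.card A) (orderOf g)
    · exact Or.inl (((Nat.dvd_prime hp).1 (hc.dvd_of_dvd_mul_right hdA)).resolve_left h.pos.ne')
    · exact Or.inr (h.meets_of_not_coprime hc)
  have both : ∀ {A B : Subgroup G} {e f : ℕ}, CC A e → CC B f →
      (∀ x : G, A.map (MulAut.conj x).toMonoidHom ≠ B) →
      ¬ (Nat.card A = p ∧ Nat.card B = p) ∧ ¬ (Meets A g ∧ Meets B g) := by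
    intro A B e f hA hB hne
    refine ⟨fun ⟨ea, eb⟩ => ?_, fun ⟨ma, mb⟩ => Three.disjoint_meets hA hB hne ma mb (IsConj.refl g)⟩
    have hc := hA.coprime hB hne
    rw [ea, eb, Nat.coprime_self] at hc
    exact hp.ne_one hc
  have b12 := both T.h₁ T.h₂ T.ne₁₂
  have b13 := both T.h₁ T.h₃ T.ne₁₃
  have b23 := both T.h₂ T.h₃ T.ne₂₃
  rcases key T.h₁ d1 with a | a <;> rcases key T.h₂ d2 with b | b
  · exact b12.1 ⟨a, b⟩
  · rcases key T.h₃ d3 with c | c
    · exact b13.1 ⟨a, c⟩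
    · exact b23.2 ⟨b, c⟩
  · rcases key T.h₃ d3 with c | c
    · exact b23.1 ⟨b, c⟩
    · exact b13.2 ⟨a, c⟩
  · exact b12.2 ⟨a, b⟩

theorem Three.nonabelian (T : Three A₁ A₂ A₃) : ∃ a b : G, a * b ≠ b * a := by
  by_contra hno
  push Not at hno
  obtain ⟨s, hs, -, hsA, -⟩ := T.h₁.exists_inverting ⟨1, rfl⟩
  obtain ⟨⟨a, ha⟩, ha1⟩ : ∃ a : A₁, a ≠ 1 := by
    haveI := Finite.one_lt_card_iff_nontrivial.1 T.h₁.pos
    exact exists_ne 1
  exact hsA (T.h₁.mem_of_commute ha (fun e => ha1 (Subtype.ext e)) (hno s a))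

/-- The exclusion step. -/
theorem Three.isoSuzuki_of_cit (T : Three A₁ A₂ A₃) (hcit : CfsgLib.Recog.CIT.CIT G) :
    Cfsg.Lie.IsoSuzuki G := by
  haveI := T.simple
  obtain ⟨hodd, hbig⟩ := T.N_large
  have hN := T.N_dvd
  have small : ∀ n : ℕ, Nat.card G = n → n < 585 → False := fun n hn hlt => by
    have h1 := Nat.le_of_dvd Nat.card_pos hN
    rw [hn] at h1
    omega
  rcases CIT.known_of_cit T.nonabelian hcit with ⟨⟨S, D, q, hd⟩, hL | hS⟩ |
    ⟨⟨F, iF, jF, hF, ⟨e⟩⟩, -⟩ | ⟨F, iF, jF, hF, ⟨e⟩⟩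
  · exfalso
    obtain ⟨F, iF, jF, ⟨n, hn, hF⟩, ⟨e⟩⟩ := hL
    haveI : CharP F 2 := TwoR.Cons.charP_of_card' Nat.prime_two (by omega) hF
    obtain ⟨x, hx⟩ := T.exists_order_four
    exact orderOf_ne_four_SL_two (pslEquivSL.symm (e x))
      (by rw [MulEquiv.orderOf_eq, MulEquiv.orderOf_eq, hx])
  · exact SzIso.isoSuzuki_of_isSuzuki hd hS
  · exfalso
    rcases hF with hF | ⟨hp, k, hk⟩
    · exact small 360 (by rw [Nat.card_congr e.toEquiv, TwoR.Cons.card_psl_nine hF]) (by norm_num)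
    set p := Fintype.card F with hpdef
    haveI := Fact.mk hp
    haveI : CharP F p := TwoR.Cons.charP_of_card' hp one_ne_zero (by rw [pow_one])
    have hcard : 2 ∣ p - 1 →
        2 * Nat.card G = p * ((p - 1) * (p + 1)) := by
      intro h2
      have hG := CfsgLib.Classical.card_PSL_two_mul (F := F)
      rw [← Nat.card_congr e.toEquiv, Nat.card_eq_fintype_card, ← hpdef, Nat.gcd_eq_left h2] at hG
      rw [hG, mul_comm (p - 1), ← Nat.sq_sub_sq, one_pow]
    rcases hp.eq_two_or_odd' with h2 | hpo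
    · refine small 6 ?_ (by norm_num)
      rw [Nat.card_congr e.toEquiv, CfsgLib.Classical.card_PSL_two, Nat.card_eq_fintype_card,
        ← hpdef, h2]
      rfl
    have hd2 : dTwo F = 2 := by
      unfold dTwo
      rw [if_neg (by rw [← hpdef]; exact Nat.not_even_iff_odd.2 hpo)]
    have hp1 : 2 ∣ p - 1 := (Nat.Odd.sub_odd hpo odd_one).two_dvd
    have hp2 : 2 ∣ p + 1 := (hpo.add_one).two_dvd
    have hG := hcard hp1
    obtain ⟨g, a, b, hab, hg, hb⟩ : ∃ (g : G) (a b : ℕ), (p - 1) * (p + 1) = a * (2 * b) ∧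
        orderOf g = b ∧ ∃ j, a = 2 ^ j := by
      rcases hk with hk | hk
      · obtain ⟨g, hg⟩ := exists_orderOf_eq_card_add_one_PSL (F := F) p
        refine ⟨e.symm g, p - 1, (p + 1) / 2, ?_, ?_, k, by omega⟩
        · rw [Nat.mul_div_cancel' hp2]
        · rw [MulEquiv.orderOf_eq, hg, hd2]
      · obtain ⟨g, hg⟩ := exists_orderOf_eq_card_sub_one_PSL (F := F)
        refine ⟨e.symm g, p + 1, (p - 1) / 2, ?_, ?_, k, by omega⟩
        · rw [Nat.mul_div_cancel' hp1, mul_comm]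
        · rw [MulEquiv.orderOf_eq, hg, hd2]
    obtain ⟨j, rfl⟩ := hb
    refine T.not_dvd_prime_mul hp g ?_
    rw [hg]
    have hdv : Nat.card A₁ * Nat.card A₂ * Nat.card A₃ ∣ 2 ^ (j + 1) * (p * b) := by
      refine hN.trans ?_
      rw [show 2 ^ (j + 1) * (p * b) = p * (2 ^ j * (2 * b)) by ring, ← hab, ← hG]
      exact dvd_mul_left _ _
    exact ((Nat.coprime_two_right.2 hodd).pow_right (j + 1)).dvd_of_dvd_mul_left hdv
  · exfalso
    have hcard : Nat.card G = 20160 := by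
      rw [Nat.card_congr e.toEquiv, TwoR.Cons.card_psl_three_four hF]
    rw [hcard, show 20160 = 2 ^ 6 * 315 by norm_num] at hN
    have h315 := Nat.le_of_dvd (by norm_num)
      (((Nat.coprime_two_right.2 hodd).pow_right 6).dvd_of_dvd_mul_left hN)
    omega

end CfsgLib.Recog.SuzThree
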