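import Cfsg.Agent.Lib.Recog.SuzThree.RFix

/-!
# The Sylow `r`-subgroup has order `r` or nine
-/

set_option autoImplicit false
set_option linter.style.haveILetI false
set_option linter.unusedSectionVars false
set_option linter.unusedVariables false

namespace CfsgLib.Recog.SuzThree

open CfsgLib.Chars CfsgLib.CharApps Subgroup
open scoped Classical

universe u

variable {G : Type u} [Group G] [Finite G] {A₁ A₂ A₃ : Subgroup G} {r : ℕ} {y t x : G}
  {R : Subgroup G}

/-- The classes meeting the three subgroups take most of the group. -/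
theorem Three.meets_bound (T : Three A₁ A₂ A₃) :
    38 * Nat.card G ≤ 45 * (Nat.card {g : G // Meets A₁ g} + Nat.card {g : G // Meets A₂ g} +
      Nat.card {g : G // Meets A₃ g}) := by
  have key : ∀ {A : Subgroup G} {e a b : ℕ}, CC A e → a * Nat.card A ≤ b * mcl A →
      a * Nat.card G ≤ b * Nat.card {g : G // Meets A g} := by
    intro A e a b hA hab
    refine Nat.le_of_mul_le_mul_left ?_ (Nat.card_pos (α := A))
    calc Nat.card A * (a * Nat.card G) = a * Nat.card A * Nat.card G := by ring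
      _ ≤ b * mcl A * Nat.card G := Nat.mul_le_mul_right _ hab
      _ = b * (mcl A * Nat.card G) := by ring
      _ = Nat.card A * (b * Nat.card {g : G // Meets A g}) := by
        rw [mcl, ← hA.card_meets]; ring
  have h1 := key T.h₁ (a := 2) (b := 5) (by have := T.mcl₁; omega)
  have h2 := key T.h₂ (a := 2) (b := 9) (by have := T.mcl₂; omega)
  have h3 := key T.h₃ (a := 2) (b := 9) (by have := T.mcl₃; omega)
  omega

namespace Loc

variable (L : Loc A₁ A₂ A₃ r y t x R)
include L

theorem two_le_exp : 1 ≤ (Nat.card G).factorization r :=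
  (L.B.hr.dvd_iff_one_le_factorization Nat.card_pos.ne').1 (L.B.hy ▸ orderOf_dvd_natCard y)

/-- If an involution centralizes `R`, then `|R| - 1` is a power of two. -/
theorem cases_of_centralized {s : G} (hs : orderOf s = 2) (hR : ∀ a ∈ R, Commute s a) :
    Nat.card R = r ∨ Nat.card R = 9 := by
  haveI := Fact.mk Nat.prime_two
  set W := centralizer ({y} : Set G) with hW
  have hRW : R ≤ W := L.le_centralizer L.yR
  set sW : W := ⟨s, mem_centralizer_singleton_iff.2 (hR y L.yR).eq⟩ with hsW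
  have hsW2 : orderOf sW = 2 := by rw [← Subgroup.orderOf_coe]; exact hs
  obtain ⟨P, hP⟩ := (IsPGroup.of_card (p := 2) (n := 1) (G := zpowers sW)
    (by rw [Nat.card_zpowers, hsW2, pow_one])).exists_le_sylow
  haveI : Nontrivial (P : Subgroup W) := ⟨⟨⟨sW, hP (mem_zpowers _)⟩, 1, fun e => by
    have : sW = 1 := congrArg Subtype.val e
    rw [this, orderOf_one] at hsW2; omega⟩⟩
  haveI := P.2.center_nontrivial
  obtain ⟨z, hz⟩ := exists_ne (1 : center (P : Subgroup W))
  obtain ⟨z0, hz0c, hz0⟩ : ∃ z0 : (P : Subgroup W), z0 ∈ center (P : Subgroup W) ∧ orderOf z0 = 2 := by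
    obtain ⟨j, hj⟩ := IsPGroup.iff_orderOf.1 P.2 (z : (P : Subgroup W))
    rcases j with _ | j
    · rw [pow_zero, orderOf_eq_one_iff] at hj
      exact absurd (Subtype.ext hj) hz
    · exact ⟨(z : (P : Subgroup W)) ^ 2 ^ j, pow_mem z.2 _, by
        rw [orderOf_pow' _ (pow_ne_zero _ two_ne_zero), hj,
          Nat.gcd_eq_right (pow_dvd_pow 2 (Nat.le_succ j)), Nat.pow_div (Nat.le_succ j) two_pos]
        simp⟩
  have hz0' : orderOf ((z0 : W) : G) = 2 := by rw [Subgroup.orderOf_coe, Subgroup.orderOf_coe, hz0]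
  have hall : ∀ w : W, orderOf (w : G) = 2 → IsConj sW w := fun w hw => by
    obtain ⟨g, hg, hgs⟩ := L.invol_conj L.yR L.y_ne_one hs hw (hR y L.yR)
      (mem_centralizer_singleton_iff.1 w.2)
    exact isConj_iff.2 ⟨⟨g, mem_centralizer_singleton_iff.2 hg⟩, Subtype.ext hgs⟩
  have h1 := card_isConj_mul_card_centralizer sW
  have h2 := card_isConj_mul_card_centralizer (z0 : W)
  have hsz : Nat.card {w : W // IsConj (z0 : W) w} = Nat.card {w : W // IsConj sW w} :=
    Nat.card_congr (Equiv.subtypeEquivRight fun w =>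
      ⟨fun h => (hall _ hz0').trans h, fun h => (hall _ hz0').symm.trans h⟩)
  rw [hsz] at h2
  have hPz : (P : Subgroup W) ≤ centralizer ({(z0 : W)} : Set W) := fun q hq =>
    mem_centralizer_singleton_iff.2 (congrArg Subtype.val (Subgroup.mem_center_iff.1 hz0c ⟨q, hq⟩))
  have hRs : R.subgroupOf W ≤ centralizer ({sW} : Set W) := fun q hq =>
    mem_centralizer_singleton_iff.2 (Subtype.ext ((hR _ hq).eq.symm))
  have hone : Nat.card {w : W // IsConj sW w} = 1 := by
    by_contra hne
    obtain ⟨p, hp, hpd⟩ := Nat.exists_prime_and_dvd hne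
    rcases L.primes_centralizer (Or.inr ⟨L.yR, L.y_ne_one⟩) hp
      (hpd.trans (Dvd.intro _ h1)) with e | e <;> rw [e] at hpd
    · have h3 : 2 ^ ((Nat.card W).factorization 2 + 1) ∣ Nat.card W := by
        have h4 := mul_dvd_mul hpd ((P.card_eq_multiplicity ▸ Subgroup.card_dvd_of_le hPz :
          2 ^ (Nat.card W).factorization 2 ∣ _))
        rw [h2] at h4
        rwa [pow_succ, mul_comm]
      have := (Nat.prime_two.pow_dvd_iff_le_factorization Nat.card_pos.ne').1 h3
      omega
    · have h3 : r ^ ((Nat.card G).factorization r + 1) ∣ Nat.card G := by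
        have h4 := mul_dvd_mul hpd (Subgroup.card_dvd_of_le hRs)
        rw [h1, Nat.card_congr (subgroupOfEquivOfLe hRW).toEquiv, L.card_eq] at h4
        rw [pow_succ, mul_comm]
        exact h4.trans (Subgroup.card_subgroup_dvd_card W)
      have := (L.B.hr.pow_dvd_iff_le_factorization Nat.card_pos.ne').1 h3
      omega
  have huniq : ∀ w : W, orderOf (w : G) = 2 → (w : G) = s := fun w hw => by
    haveI := Finite.card_le_one_iff_subsingleton.1 hone.le
    exact congrArg (fun q : {w : W // IsConj sW w} => ((q.1 : W) : G))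
      (Subsingleton.elim (⟨w, hall w hw⟩ : {w : W // IsConj sW w}) ⟨sW, IsConj.refl sW⟩)
  set N := normalizer (R : Set G)
  have hN : N ≤ centralizer ({s} : Set G) := by
    intro n hn
    rw [mem_centralizer_singleton_iff]
    have hy' : n⁻¹ * y * n ∈ R := by
      simpa using (Subgroup.mem_normalizer_iff.1 (inv_mem hn) y).1 L.yR
    have hc : Commute (n * s * n⁻¹) y := by
      have := (hR _ hy').map (MulAut.conj n).toMonoidHom
      simpa [mul_assoc] using this
    exact mul_inv_eq_iff_eq_mul.1 (huniq ⟨n * s * n⁻¹, mem_centralizer_singleton_iff.2 hc.eq⟩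
      (by show orderOf (n * s * n⁻¹) = 2; rw [← MulAut.conj_apply, MulEquiv.orderOf_eq, hs]))
  have horb : Nat.card {b : G // ∃ h ∈ N, h * y * h⁻¹ = b} + 1 = Nat.card R := by
    rw [← L.card_split]
    congr 1
    have hz : Nat.card {a : G // a ∈ R ∧ a ≠ 1 ∧ ¬ IsConj a y} = 0 := by
      haveI : IsEmpty {a : G // a ∈ R ∧ a ≠ 1 ∧ ¬ IsConj a y} :=
        ⟨fun a => a.2.2.2 (L.conj_y_of_commute a.2.1 a.2.2.1 hs (hR _ a.2.1))⟩
      exact Nat.card_of_isEmpty
    rw [hz, add_zero]
    refine Nat.card_congr (Equiv.subtypeEquivRight fun a => ⟨?_, ?_⟩)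
    · rintro ⟨h, hh, rfl⟩
      exact ⟨(Subgroup.mem_normalizer_iff.1 hh y).1 L.yR, fun e => L.y_ne_one (conj_eq_one_iff.1 e),
        (isConj_iff.2 ⟨h, rfl⟩ : IsConj y _).symm⟩
    · rintro ⟨ha, -, hc⟩
      exact L.conj_normalizer L.yR ha hc.symm
  haveI : Nonempty {b : G // ∃ h ∈ N, h * y * h⁻¹ = b} := ⟨⟨y, 1, one_mem _, by group⟩⟩
  have hdvd : Nat.card {b : G // ∃ h ∈ N, h * y * h⁻¹ = b} ∣ Nat.card (centralizer ({s} : Set G)) :=
    (Dvd.intro _ (card_orbit_mul N y)).trans (Subgroup.card_dvd_of_le hN)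
  have h2' := Nat.eq_prime_pow_of_unique_prime_dvd Nat.card_pos.ne' (p := 2)
    (n := Nat.card {b : G // ∃ h ∈ N, h * y * h⁻¹ = b}) fun {p} hp hd => by
      rcases L.primes_centralizer (Or.inl hs) hp (hd.trans hdvd) with e' | e'
      · exact e'
      · exfalso
        rw [e'] at hd hp
        have hRd : r ∣ Nat.card R := L.card_eq ▸ dvd_pow_self r (by have := L.two_le_exp; omega)
        exact hp.not_dvd_one ((Nat.dvd_add_right hd).1 (horb ▸ hRd))
  rw [L.card_eq] at horb ⊢
  exact pow_eq_of_pred_two_pow L.B.r_eq L.two_le_exp (by rw [← horb, h2'])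

end Loc

/-- Two commuting involutions cannot both normalize a nontrivial abelian subgroup on which they
and their product have no fixed points. -/
theorem no_four_inverting {M : Subgroup G} {s s' : G} (hM : M ≠ ⊥)
    (hcomm : ∀ a ∈ M, ∀ b ∈ M, Commute a b) (hs : ∀ a ∈ M, s * a * s⁻¹ ∈ M)
    (hs' : ∀ a ∈ M, s' * a * s'⁻¹ ∈ M) (h2 : s * s = 1) (h2' : s' * s' = 1)
    (hfs : ∀ a ∈ M, Commute s a → a = 1) (hfs' : ∀ a ∈ M, Commute s' a → a = 1)
    (hfp : ∀ a ∈ M, Commute (s * s') a → a = 1) : False := by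
  have key : ∀ {u : G}, (∀ a ∈ M, u * a * u⁻¹ ∈ M) → u * u = 1 →
      (∀ a ∈ M, Commute u a → a = 1) → ∀ a ∈ M, u * a * u⁻¹ = a⁻¹ := by
    intro u hu hu2 hf a ha
    refine eq_inv_of_mul_eq_one_right (hf _ (mul_mem ha (hu a ha)) (mul_inv_eq_iff_eq_mul.1 ?_))
    calc u * (a * (u * a * u⁻¹)) * u⁻¹ = (u * a * u⁻¹) * ((u * u) * a * (u * u)⁻¹) := by group
      _ = a * (u * a * u⁻¹) := by rw [hu2]; simpa using (hcomm _ (hu a ha) _ ha).eq
  refine hM ((Subgroup.eq_bot_iff_forall _).2 fun a ha => hfp a ha (mul_inv_eq_iff_eq_mul.1 ?_))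
  calc s * s' * a * (s * s')⁻¹ = s * (s' * a * s'⁻¹) * s⁻¹ := by group
    _ = a := by rw [key hs' h2' hfs' a ha, key hs h2 hfs _ (inv_mem ha), inv_inv]

namespace Comp

variable {K : Subgroup G} (C : Comp A₁ A₂ A₃ r y t x R K)
include C

theorem not_three_twenty_five {s z : G} (hs : s ∈ K) (hs2 : orderOf s = 2) (hsy : Commute s y)
    (hr : r = 5) (hR : Nat.card R = 25) (hz : z ∈ R) (hz1 : z ≠ 1) (hzy : ¬ IsConj z y) : False := by
  have hU : Nat.card (fixR R s) = 5 := by
    rcases C.fix_cases hs hs2 C.L.yR C.L.y_ne_one hsy with e | e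
    · rw [e, hr]
    · have := Subgroup.card_dvd_of_le (show fixR R s ≤ R from inf_le_left)
      rw [e, hR] at this; norm_num at this
  obtain ⟨hst, -⟩ := C.stab_eq hs hs2 C.L.yR C.L.y_ne_one hsy
  have hW : ∀ {g : G}, Commute g y → ∃ ρ ∈ R, (g = ρ ∨ g = ρ * s) := by
    intro g hg
    obtain ⟨ρ, hρ, k, hk, rfl⟩ := C.prod g
      (C.normal_in_centralizer hs hs2 C.L.yR C.L.y_ne_one hsy (mem_centralizer_singleton_iff.2 hg))
    have hka : Commute k y := by
      have h1 := (C.L.comm ρ hρ y C.L.yR).inv_left.mul_left hg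
      rwa [inv_mul_cancel_left] at h1
    rcases hst k hk hka with rfl | rfl
    · exact ⟨ρ, hρ, Or.inl (mul_one ρ)⟩
    · exact ⟨ρ, hρ, Or.inr rfl⟩
  have hCy : Nat.card (centralizer ({y} : Set G)) ≤ 50 := by
    refine le_trans (Nat.card_le_card_of_surjective
      (fun p : R × Bool => (⟨(p.1 : G) * if p.2 then s else 1, mem_centralizer_singleton_iff.2 (by
        refine ((C.L.comm _ p.1.2 y C.L.yR).mul_left ?_).eq
        split_ifs
        · exact hsy
        · exact Commute.one_left y)⟩ : centralizer ({y} : Set G))) fun g => ?_) ?_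
    · obtain ⟨ρ, hρ, e⟩ := hW (mem_centralizer_singleton_iff.1 g.2)
      rcases e with e | e
      · exact ⟨(⟨ρ, hρ⟩, false), Subtype.ext (by simp [e])⟩
      · exact ⟨(⟨ρ, hρ⟩, true), Subtype.ext (by simp [e])⟩
    · rw [Nat.card_prod, hR]; simp
  have hCt : Nat.card (centralizer ({s * y} : Set G)) ≤ 10 := by
    obtain ⟨a1, a2⟩ := split_pow hs2 C.L.B.hy C.L.B.odd_r hsy
    refine le_trans (Nat.card_le_card_of_surjective
      (fun p : fixR R s × Bool => (⟨(p.1 : G) * if p.2 then s else 1,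
        mem_centralizer_singleton_iff.2 (by
          obtain ⟨hp, hps⟩ := mem_fixR.1 p.1.2
          refine (Commute.mul_left (Commute.mul_right hps.symm (C.L.comm _ hp y C.L.yR)) ?_).eq
          split_ifs
          · exact Commute.mul_right (Commute.refl s) hsy
          · exact Commute.one_left _)⟩ : centralizer ({s * y} : Set G))) fun g => ?_) ?_
    · have hg : Commute (g : G) (s * y) := mem_centralizer_singleton_iff.1 g.2
      have hgy : Commute (g : G) y := by have := hg.pow_right (r + 1); rwa [a1] at this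
      have hgs : Commute (g : G) s := by have := hg.pow_right r; rwa [a2] at this
      obtain ⟨ρ, hρ, e⟩ := hW hgy
      rcases e with e | e
      · exact ⟨(⟨ρ, mem_fixR.2 ⟨hρ, (e ▸ hgs).symm⟩⟩, false), Subtype.ext (by simp [e])⟩
      · refine ⟨(⟨ρ, mem_fixR.2 ⟨hρ, ?_⟩⟩, true), Subtype.ext (by simp [e])⟩
        have h5 := (e ▸ hgs : Commute (ρ * s) s).mul_left (Commute.refl s).inv_left
        rw [mul_inv_cancel_right] at h5
        exact h5.symm
    · rw [Nat.card_prod, hU]; simp
  have hCz : Nat.card (centralizer ({z} : Set G)) ≤ 25 := by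
    haveI := Fact.mk C.L.B.hr
    have hcard := eq_two_pow_mul (n := Nat.card (centralizer ({z} : Set G))) C.L.B.hr
      Nat.card_pos.ne' C.L.B.hr2 fun p hp hd => C.L.primes_centralizer (Or.inr ⟨hz, hz1⟩) hp hd
    have h2 : (Nat.card (centralizer ({z} : Set G))).factorization 2 = 0 := by
      by_contra h0
      haveI := Fact.mk Nat.prime_two
      obtain ⟨s', hs'⟩ := exists_prime_orderOf_dvd_card' 2
        ((Nat.prime_two.dvd_iff_one_le_factorization Nat.card_pos.ne').2 (Nat.one_le_iff_ne_zero.2 h0))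
      exact hzy (C.L.conj_y_of_commute hz hz1 (by rw [Subgroup.orderOf_coe, hs'])
        (mem_centralizer_singleton_iff.1 s'.2))
    rw [h2, pow_zero, one_mul] at hcard
    rw [C.L.le_of_isPGroup (IsPGroup.of_card hcard) (C.L.le_centralizer hz), hR]
  have hzo := C.L.orderOf_eq hz hz1
  have hsyo := orderOf_mul_invol hs2 C.L.B.hy C.L.B.odd_r hsy
  have hne1 : y ≠ z := fun e => hzy (e ▸ IsConj.refl y)
  have hne2 : y ≠ s * y := fun e => by
    have := congrArg orderOf e
    rw [C.L.B.hy, hsyo, hr] at this; omega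
  have hne3 : z ≠ s * y := fun e => by
    have := congrArg orderOf e
    rw [hzo, hsyo, hr] at this; omega
  have hsum := C.L.B.T.class_sum_le {y, z, s * y} (fun a ha => by
      simp only [Finset.mem_insert, Finset.mem_singleton] at ha
      rcases ha with rfl | rfl | rfl
      · exact C.L.B.out_of_dvd (by rw [C.L.B.hy])
      · exact C.L.B.out_of_dvd (by rw [hzo])
      · exact C.L.B.out_two (by rw [hsyo]; exact dvd_mul_right _ _))
    (fun a ha b hb hab => by
      have h := IsConj.orderOf_eq' hab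
      simp only [Finset.mem_insert, Finset.mem_singleton] at ha hb
      rcases ha with rfl | rfl | rfl <;> rcases hb with rfl | rfl | rfl <;>
        first
          | rfl
          | exact absurd hab.symm hzy
          | exact absurd hab hzy
          | (simp only [C.L.B.hy, hzo, hsyo, hr] at h; omega))
  rw [Finset.sum_insert (by simp [hne1, hne2]), Finset.sum_pair hne3] at hsum
  have key : ∀ {g : G} {b : ℕ}, Nat.card (centralizer ({g} : Set G)) ≤ b →
      Nat.card G ≤ b * Nat.card {a : G // IsConj g a} := fun {g b} h => by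
    rw [← card_isConj_mul_card_centralizer g, mul_comm b]
    exact Nat.mul_le_mul_left _ h
  have e1 := key hCy
  have e2 := key hCt
  have e3 := key hCz
  have e4 := C.L.B.T.meets_bound
  have e5 : 0 < Nat.card G := Nat.card_pos
  omega

/-- The fixed point sets of all involutions with fixed points have the same order. -/
theorem card_fix_same {s s' a a' : G} (hs : s ∈ K) (hs2 : orderOf s = 2) (ha : a ∈ R) (ha1 : a ≠ 1)
    (hsa : Commute s a) (hs' : s' ∈ K) (hs2' : orderOf s' = 2) (ha' : a' ∈ R) (ha1' : a' ≠ 1)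
    (hsa' : Commute s' a') : Nat.card (fixR R s') = Nat.card (fixR R s) :=
  (C.card_fix_eq hs' hs2' ha' ha1' hsa').trans (C.card_fix_eq hs hs2 ha ha1 hsa).symm

/-- The two-part of `|K|` is bounded by the fixed points of an involution. -/
theorem two_part_le {s : G} (hs : s ∈ K) (hs2 : orderOf s = 2) (hsy : Commute s y)
    (hfix : ∀ u ∈ K, orderOf u = 2 → ∃ a ∈ R, a ≠ 1 ∧ Commute u a) :
    2 ^ (Nat.card K).factorization 2 ≤ 2 * (Nat.card (fixR R s) - 1) := by
  haveI := Fact.mk Nat.prime_two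
  set sK : K := ⟨s, hs⟩
  have hsK : orderOf sK = 2 := by rw [← Subgroup.orderOf_coe]; exact hs2
  obtain ⟨P, hP⟩ := (IsPGroup.of_card (p := 2) (n := 1) (G := zpowers sK)
    (by rw [Nat.card_zpowers, hsK, pow_one])).exists_le_sylow
  haveI : Nontrivial (P : Subgroup K) := ⟨⟨⟨sK, hP (mem_zpowers _)⟩, 1, fun e => by
    have : sK = 1 := congrArg Subtype.val e
    rw [this, orderOf_one] at hsK; omega⟩⟩
  haveI := P.2.center_nontrivial
  obtain ⟨z, hz⟩ := exists_ne (1 : center (P : Subgroup K))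
  obtain ⟨j, hj⟩ := IsPGroup.iff_orderOf.1 P.2 (z : (P : Subgroup K))
  rcases j with _ | j
  · rw [pow_zero, orderOf_eq_one_iff] at hj
    exact absurd (Subtype.ext hj) hz
  set z0 : (P : Subgroup K) := (z : (P : Subgroup K)) ^ 2 ^ j with hz0def
  have hz0c : z0 ∈ center (P : Subgroup K) := pow_mem z.2 _
  have hz0 : orderOf z0 = 2 := by
    rw [hz0def, orderOf_pow' _ (pow_ne_zero _ two_ne_zero), hj,
      Nat.gcd_eq_right (pow_dvd_pow 2 (Nat.le_succ j)), Nat.pow_div (Nat.le_succ j) two_pos]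
    simp
  set u : G := ((z0 : K) : G)
  have hu : u ∈ K := (z0 : K).2
  have hu2 : orderOf u = 2 := by rw [Subgroup.orderOf_coe, Subgroup.orderOf_coe, hz0]
  obtain ⟨a, ha, ha1, hua⟩ := hfix u hu hu2
  rw [← P.card_eq_multiplicity, ← C.card_fix_same hs hs2 C.L.yR C.L.y_ne_one hsy hu hu2 ha ha1 hua]
  set T := (P : Subgroup K).map K.subtype with hT
  have hTc : Nat.card T = Nat.card (P : Subgroup K) := Subgroup.card_map_of_injective K.subtype_injective
  rw [← hTc, ← card_orbit_mul T a]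
  have hTu : ∀ q ∈ T, Commute q u := by
    rintro q ⟨p, hp, rfl⟩
    exact congrArg (fun w : (P : Subgroup K) => ((w : K) : G))
      (Subgroup.mem_center_iff.1 hz0c ⟨p, hp⟩)
  have hTK : T ≤ K := Subgroup.map_subtype_le _
  have hst : Nat.card ↥(T ⊓ centralizer ({a} : Set G)) ≤ 2 := by
    rw [← (C.stab_eq hu hu2 ha ha1 hua).2]
    exact Subgroup.card_le_of_le (inf_le_inf_right _ hTK)
  have horb : Nat.card {b : G // ∃ h ∈ T, h * a * h⁻¹ = b} + 1 ≤ Nat.card (fixR R u) := by
    haveI := Fintype.ofFinite G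
    rw [Nat.card_eq_fintype_card, Fintype.card_subtype, Nat.card_eq_fintype_card,
      show Fintype.card (fixR R u) = (Finset.univ.filter (· ∈ fixR R u)).card from
        Fintype.card_subtype _,
      ← Finset.card_erase_add_one (show (1 : G) ∈ Finset.univ.filter (· ∈ fixR R u) by simp [one_mem])]
    refine Nat.add_le_add_right (Finset.card_le_card fun b hb => ?_) 1
    obtain ⟨h, hh, rfl⟩ := (Finset.mem_filter.1 hb).2
    refine Finset.mem_erase.2 ⟨fun e => ha1 (conj_eq_one_iff.1 e), Finset.mem_filter.2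
      ⟨Finset.mem_univ _, mem_fixR.2 ⟨C.conj_mem (hTK hh) ha, ?_⟩⟩⟩
    have := hua.map (MulAut.conj h).toMonoidHom
    simp only [MulEquiv.coe_toMonoidHom, MulAut.conj_apply] at this
    rwa [(hTu h hh).eq, mul_inv_cancel_right] at this
  rw [mul_comm 2]
  exact Nat.mul_le_mul (by omega) hst

/-- Two commuting involutions with fixed points. -/
theorem card_cube {s s' : G} (hs : s ∈ K) (hs2 : orderOf s = 2) (hs' : s' ∈ K)
    (hs2' : orderOf s' = 2) (hc : Commute s s') (hne : s ≠ s')
    (hfix : ∀ u ∈ K, orderOf u = 2 → ∃ a ∈ R, a ≠ 1 ∧ Commute u a) :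
    Nat.card (fixR R s) ^ 3 = Nat.card R := by
  have hss := sq_of_orderOf hs2
  have hss' := sq_of_orderOf hs2'
  have hp : s * s' ∈ K := mul_mem hs hs'
  have hp2 : orderOf (s * s') = 2 := orderOf_eq_prime
    (by rw [hc.mul_pow, sq, sq, hss, hss', one_mul])
    fun e => hne (by rw [eq_inv_of_mul_eq_one_left e, inv_eq_of_mul_eq_one_right hss'])
  -- distinct involutions have no common fixed point
  have hdis : ∀ {u v : G}, u ∈ K → orderOf u = 2 → v ∈ K → orderOf v = 2 → u ≠ v →
      ∀ a ∈ R, Commute u a → Commute v a → a = 1 := by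
    intro u v hu hu2 hv hv2 huv a ha hua hva
    by_contra ha1
    rcases (C.stab_eq hu hu2 ha ha1 hua).1 v hv hva with e | e
    · rw [e, orderOf_one] at hv2; omega
    · exact huv e.symm
  have hinv : ∀ {u v : G}, u ∈ K → orderOf u = 2 → v ∈ K → orderOf v = 2 → u ≠ v → Commute u v →
      ∀ a ∈ R, Commute v a → u * a * u⁻¹ = a⁻¹ := by
    intro u v hu hu2 hv hv2 huv huc a ha hva
    have hb : u * a * u⁻¹ ∈ R := C.conj_mem hu ha
    have hvb : Commute v (u * a * u⁻¹) := (huc.symm.mul_right hva).mul_right huc.symm.inv_right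
    refine eq_inv_of_mul_eq_one_right (hdis hu hu2 hv hv2 huv _ (mul_mem ha hb)
      (mul_inv_eq_iff_eq_mul.1 ?_) (hva.mul_right hvb))
    calc u * (a * (u * a * u⁻¹)) * u⁻¹ = (u * a * u⁻¹) * ((u * u) * a * (u * u)⁻¹) := by group
      _ = a * (u * a * u⁻¹) := by rw [sq_of_orderOf hu2]; simpa using (C.L.comm _ hb _ ha).eq
  let I : Subgroup G :=
    { carrier := InvBy R s
      one_mem' := ⟨one_mem R, by group⟩
      mul_mem' := fun {a b} ha hb => ⟨mul_mem ha.1 hb.1, by
        rw [conj_mul.symm, ha.2, hb.2, ← mul_inv_rev, (C.L.comm b hb.1 a ha.1).eq]⟩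
      inv_mem' := fun {a} ha => ⟨inv_mem ha.1, by rw [← conj_inv, ha.2]⟩ }
  have h1 := card_fix_mul_inv (R := R) (s := s) C.L.B.odd_r C.L.comm C.L.exp
    (fun a ha => C.conj_mem hs ha) hss
  have h2 := card_fix_mul_inv (R := I) (s := s') C.L.B.odd_r (fun a ha b hb => C.L.comm a ha.1 b hb.1)
    (fun a ha => C.L.exp a ha.1) (fun a ha => ⟨C.conj_mem hs' ha.1, by
      calc s * (s' * a * s'⁻¹) * s⁻¹ = (s * s') * a * (s * s')⁻¹ := by group
        _ = s' * (s * a * s⁻¹) * s'⁻¹ := by rw [hc.eq]; group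
        _ = (s' * a * s'⁻¹)⁻¹ := by rw [ha.2]; group⟩) hss'
  have e1 : I ⊓ centralizer ({s'} : Set G) = fixR R s' := by
    ext a
    rw [mem_inf, mem_fixR, mem_centralizer_singleton_iff]
    constructor
    · exact fun h => ⟨h.1.1, h.2.symm⟩
    · exact fun h => ⟨⟨h.1, hinv hs hs2 hs' hs2' hne hc a h.1 h.2⟩, h.2.eq.symm⟩
  have hsp : s ≠ s * s' := fun e => by
    have : s' = 1 := mul_eq_left.1 e.symm
    rw [this, orderOf_one] at hs2'; omega
  have hsp' : s' ≠ s * s' := fun e => by
    have : s = 1 := mul_eq_right.1 e.symm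
    rw [this, orderOf_one] at hs2; omega
  have e2 : InvBy I s' = (fixR R (s * s') : Set G) := by
    ext a
    constructor
    · rintro ⟨⟨ha, h3⟩, h4⟩
      refine mem_fixR.2 ⟨ha, mul_inv_eq_iff_eq_mul.1 ?_⟩
      calc s * s' * a * (s * s')⁻¹ = s * (s' * a * s'⁻¹) * s⁻¹ := by group
        _ = a := by rw [h4, ← conj_inv, h3, inv_inv]
    · intro ha
      obtain ⟨ha, hca⟩ := mem_fixR.1 ha
      exact ⟨⟨ha, hinv hs hs2 hp hp2 hsp ((Commute.refl s).mul_right hc) a ha hca⟩,
        hinv hs' hs2' hp hp2 hsp' (hc.symm.mul_right (Commute.refl s')) a ha hca⟩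
  obtain ⟨a, ha, ha1, hsa⟩ := hfix s hs hs2
  obtain ⟨a', ha', ha1', hsa'⟩ := hfix s' hs' hs2'
  obtain ⟨b, hb, hb1, hsb⟩ := hfix (s * s') hp hp2
  rw [e1, e2, C.card_fix_same hs hs2 ha ha1 hsa hs' hs2' ha' ha1' hsa'] at h2
  have h3 := C.card_fix_same hs hs2 ha ha1 hsa hp hp2 hb hb1 hsb
  change Nat.card (fixR R s) * Nat.card (fixR R (s * s')) = _ at h2
  rw [h3] at h2
  change Nat.card (fixR R s) * Nat.card I = _ at h1
  rw [← h1, ← h2]; ring

/-- An involution inverting a nontrivial element of `K` of odd order. -/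
theorem card_square {s g : G} (hs : s ∈ K) (hs2 : orderOf s = 2) (hg : g ∈ K)
    (hinv : s * g * s⁻¹ = g⁻¹) (hodd : Odd (orderOf g)) (hg1 : g ≠ 1)
    (hfix : ∀ u ∈ K, orderOf u = 2 → ∃ a ∈ R, a ≠ 1 ∧ Commute u a) :
    Nat.card (fixR R s) ^ 2 = Nat.card R := by
  set u := g * s * g⁻¹ with hu
  have huK : u ∈ K := mul_mem (mul_mem hg hs) (inv_mem hg)
  have hu2 : orderOf u = 2 := by rw [hu, ← MulAut.conj_apply, MulEquiv.orderOf_eq, hs2]
  have hgs : g ^ 2 = u * s := by
    rw [hu, sq, show g * s * g⁻¹ * s = g * (s * g⁻¹ * s⁻¹) * (s * s) by group, ← conj_inv, hinv,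
      inv_inv, sq_of_orderOf hs2, mul_one]
  have hgo : orderOf (g ^ 2) = orderOf g := by
    rw [orderOf_pow, Nat.Coprime.gcd_eq_one (Nat.coprime_two_right.2 hodd), Nat.div_one]
  have hfree : ∀ a ∈ R, Commute (g ^ 2) a → a = 1 := by
    intro a ha hga
    by_contra ha1
    refine C.L.B.no_comm (w := g ^ 2) (by rw [hgo]; exact hodd) ?_ ?_
      (Or.inr (C.L.orderOf_eq ha ha1)) hga
    · rw [hgo]
      exact fun h => C.cop (h.trans (Subgroup.orderOf_dvd_natCard K hg))
    · intro e
      rw [e, orderOf_one, eq_comm, orderOf_eq_one_iff] at hgo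
      exact hg1 hgo
  have hcf : ∀ a ∈ fixR R s, ∀ b ∈ fixR R u, a = b → a = 1 := by
    rintro a ha _ hb rfl
    obtain ⟨haR, hsa⟩ := mem_fixR.1 ha
    exact hfree a haR (hgs ▸ (mem_fixR.1 hb).2.mul_left hsa)
  obtain ⟨a, ha, ha1, hsa⟩ := hfix s hs hs2
  obtain ⟨a', ha', ha1', hua⟩ := hfix u huK hu2
  have hsame := C.card_fix_same hs hs2 ha ha1 hsa huK hu2 ha' ha1' hua
  have h1 : Nat.card (fixR R s) * Nat.card (fixR R u) ≤ Nat.card R := by
    rw [← Nat.card_prod]
    refine Nat.card_le_card_of_injective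
      (fun p : fixR R s × fixR R u => (⟨(p.1 : G) * p.2,
        mul_mem (mem_fixR.1 p.1.2).1 (mem_fixR.1 p.2.2).1⟩ : R)) ?_
    rintro ⟨⟨p, hp⟩, ⟨q, hq⟩⟩ ⟨⟨p', hp'⟩, ⟨q', hq'⟩⟩ e
    have e1 : p * q = p' * q' := congrArg Subtype.val e
    have e2 : p'⁻¹ * p = q' * q⁻¹ := by
      calc p'⁻¹ * p = p'⁻¹ * (p * q) * q⁻¹ := by group
        _ = q' * q⁻¹ := by rw [e1]; group
    have e3 := hcf _ (mul_mem (inv_mem hp') hp) _ (mul_mem hq' (inv_mem hq)) e2
    obtain rfl : p = p' := (inv_mul_eq_one.1 e3).symm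
    simp only [mul_right_inj] at e1
    subst e1; rfl
  have hi1 := card_fix_mul_inv (R := R) (s := s) C.L.B.odd_r C.L.comm C.L.exp
    (fun a ha => C.conj_mem hs ha) (sq_of_orderOf hs2)
  have hi2 := card_fix_mul_inv (R := R) (s := u) C.L.B.odd_r C.L.comm C.L.exp
    (fun a ha => C.conj_mem huK ha) (sq_of_orderOf hu2)
  change Nat.card (fixR R s) * _ = _ at hi1
  change Nat.card (fixR R u) * _ = _ at hi2
  have h2 : Nat.card (InvBy R s) * Nat.card (InvBy R u) ≤ Nat.card R := by
    rw [← Nat.card_prod]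
    refine Nat.card_le_card_of_injective
      (fun p : InvBy R s × InvBy R u => (⟨(p.1 : G) * p.2, mul_mem p.1.2.1 p.2.2.1⟩ : R)) ?_
    rintro ⟨⟨p, hp⟩, ⟨q, hq⟩⟩ ⟨⟨p', hp'⟩, ⟨q', hq'⟩⟩ e
    have e1 : p * q = p' * q' := congrArg Subtype.val e
    have e2 : p'⁻¹ * p = q' * q⁻¹ := by
      calc p'⁻¹ * p = p'⁻¹ * (p * q) * q⁻¹ := by group
        _ = q' * q⁻¹ := by rw [e1]; group
    have hi : ∀ {v a b : G}, a ∈ R → b ∈ R → v * a * v⁻¹ = a⁻¹ → v * b * v⁻¹ = b⁻¹ →
        v * (a * b) * v⁻¹ = (a * b)⁻¹ := fun {v a b} ha hb h h' => by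
      rw [conj_mul.symm, h, h', ← mul_inv_rev, (C.L.comm b hb a ha).eq]
    have hps : s * (p'⁻¹ * p) * s⁻¹ = (p'⁻¹ * p)⁻¹ :=
      hi (inv_mem hp'.1) hp.1 (by rw [← conj_inv, hp'.2]) hp.2
    have hpu : u * (p'⁻¹ * p) * u⁻¹ = (p'⁻¹ * p)⁻¹ := by
      rw [e2]
      exact hi hq'.1 (inv_mem hq.1) hq'.2 (by rw [← conj_inv, hq.2])
    have e3 := hfree _ (mul_mem (inv_mem hp'.1) hp.1) (hgs ▸ (mul_inv_eq_iff_eq_mul.1
      (show u * s * (p'⁻¹ * p) * (u * s)⁻¹ = p'⁻¹ * p by
        rw [show u * s * (p'⁻¹ * p) * (u * s)⁻¹ = u * (s * (p'⁻¹ * p) * s⁻¹) * u⁻¹ by group, hps,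
          ← conj_inv, hpu, inv_inv])))
    obtain rfl : p = p' := (inv_mul_eq_one.1 e3).symm
    simp only [mul_right_inj] at e1
    subst e1; rfl
  rw [hsame] at h1 hi2
  have hc0 : 0 < Nat.card (fixR R s) := Nat.card_pos
  have hieq : Nat.card (InvBy R u) = Nat.card (InvBy R s) :=
    Nat.eq_of_mul_eq_mul_left hc0 (hi2.trans hi1.symm)
  rw [hieq, ← hi1] at h2
  have hpos : 0 < Nat.card (InvBy R s) := by
    rcases Nat.eq_zero_or_pos (Nat.card (InvBy R s)) with e | e
    · rw [e, mul_zero] at hi1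
      exact absurd hi1.symm Nat.card_pos.ne'
    · exact e
  have h3 := Nat.le_of_mul_le_mul_right h2 hpos
  rw [sq]
  refine le_antisymm h1 (le_of_eq_of_le hi1.symm (Nat.mul_le_mul_left _ h3))

/-- A subgroup order kills a four group acting without fixed points. -/
theorem no_commuting {s s' : G} (hs : s ∈ K) (hs2 : orderOf s = 2) (hs' : s' ∈ K)
    (hs2' : orderOf s' = 2) (hc : Commute s s') (hne : s ≠ s') {p : ℕ} [Fact p.Prime] (hp2 : p ≠ 2)
    (P : Sylow p K) [(P : Subgroup K).Normal] (hP : Nat.card (P : Subgroup K) = p) : False := by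
  set M := (P : Subgroup K).map K.subtype
  have hcard : Nat.card M = p := by rw [Subgroup.card_map_of_injective K.subtype_injective, hP]
  haveI := isCyclic_of_prime_card (p := p) hP
  have hMK : M ≤ K := Subgroup.map_subtype_le _
  have hpr : p ≠ r := fun e => C.cop (e ▸ hP ▸ Subgroup.card_subgroup_dvd_card (P : Subgroup K))
  have hf : ∀ {u : G}, orderOf u = 2 → ∀ a ∈ M, Commute u a → a = 1 := by
    intro u hu a ha hua
    by_contra ha1
    have ho : orderOf a = p := by
      have h := Subgroup.orderOf_dvd_natCard M ha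
      rw [hcard] at h
      exact ((Nat.dvd_prime (Fact.out : p.Prime)).1 h).resolve_left fun e =>
        ha1 (orderOf_eq_one_iff.1 e)
    exact C.L.no_comm Fact.out hp2 hpr ho (Or.inl hu) hua.symm
  have hn : ∀ {u : G}, u ∈ K → ∀ a ∈ M, u * a * u⁻¹ ∈ M := by
    rintro u hu _ ⟨a, ha, rfl⟩
    exact ⟨⟨u, hu⟩ * a * ⟨u, hu⟩⁻¹, Subgroup.Normal.conj_mem inferInstance a ha ⟨u, hu⟩, rfl⟩
  refine no_four_inverting (M := M) ?_ ?_ (hn hs) (hn hs') (sq_of_orderOf hs2) (sq_of_orderOf hs2')
    (hf hs2) (hf hs2') (hf (orderOf_eq_prime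
      (by rw [hc.mul_pow, sq, sq, sq_of_orderOf hs2, sq_of_orderOf hs2', one_mul])
      fun e => hne (by
        rw [eq_inv_of_mul_eq_one_left e, inv_eq_of_mul_eq_one_right (sq_of_orderOf hs2')])))
  · intro e
    rw [e, Subgroup.card_bot] at hcard
    exact (Fact.out : p.Prime).ne_one hcard.symm
  · rintro _ ⟨a, ha, rfl⟩ _ ⟨b, hb, rfl⟩
    exact congrArg (fun w : (P : Subgroup K) => ((w : K) : G))
      ((IsCyclic.isMulCommutative (α := (P : Subgroup K))).is_comm.comm ⟨a, ha⟩ ⟨b, hb⟩)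

theorem normal_of_count {p : ℕ} [Fact p.Prime] (P : Sylow p K) (h : ∀ d, d ∣ (P : Subgroup K).index →
    d % p = 1 → d = 1) : (P : Subgroup K).Normal := by
  haveI : Subsingleton (Sylow p K) := by
    refine Finite.card_le_one_iff_subsingleton.1 (le_of_eq (h _ (P.card_dvd_index) ?_))
    have := card_sylow_modEq_one p K
    rwa [Nat.ModEq, Nat.mod_eq_of_lt (Fact.out : p.Prime).one_lt] at this
  exact Sylow.normal_of_subsingleton P

theorem card_prime_sylow {p m : ℕ} [Fact p.Prime] (P : Sylow p K) (hK : Nat.card K = p * m)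
    (hm : ¬ p ∣ m) : Nat.card (P : Subgroup K) = p ∧ (P : Subgroup K).index = m := by
  have hp := (Fact.out : p.Prime)
  have h1 : Nat.card (P : Subgroup K) = p := by
    rw [P.card_eq_multiplicity, hK, Nat.factorization_mul hp.ne_zero (fun e => hm (by rw [e]; exact dvd_zero p)),
      Finsupp.add_apply, Nat.factorization_eq_zero_of_not_dvd hm, add_zero, hp.factorization_self,
      pow_one]
  refine ⟨h1, Nat.eq_of_mul_eq_mul_left hp.pos ?_⟩
  rw [← hK, ← (P : Subgroup K).card_mul_index, h1]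

theorem not_small {s s' : G} (hs : s ∈ K) (hs2 : orderOf s = 2) (hs' : s' ∈ K)
    (hs2' : orderOf s' = 2) (hc : Commute s s') (hne : s ≠ s')
    (hK : Nat.card K = 52 ∨ Nat.card K = 248 ∨ Nat.card K = 1456) : False := by
  rcases hK with hK | hK | hK
  · haveI := Fact.mk (show Nat.Prime 13 by norm_num)
    obtain ⟨P⟩ : Nonempty (Sylow 13 K) := Sylow.nonempty
    obtain ⟨h1, h2⟩ := C.card_prime_sylow P (m := 4) hK (by norm_num)
    haveI := C.normal_of_count P fun d hd hm => by
      rw [h2] at hd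
      have := Nat.le_of_dvd (by norm_num) hd
      interval_cases d <;> omega
    exact C.no_commuting hs hs2 hs' hs2' hc hne (by norm_num) P h1
  · haveI := Fact.mk (show Nat.Prime 31 by norm_num)
    obtain ⟨P⟩ : Nonempty (Sylow 31 K) := Sylow.nonempty
    obtain ⟨h1, h2⟩ := C.card_prime_sylow P (m := 8) hK (by norm_num)
    haveI := C.normal_of_count P fun d hd hm => by
      rw [h2] at hd
      have := Nat.le_of_dvd (by norm_num) hd
      interval_cases d <;> omega
    exact C.no_commuting hs hs2 hs' hs2' hc hne (by norm_num) P h1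
  · haveI := Fact.mk (show Nat.Prime 7 by norm_num)
    obtain ⟨P⟩ : Nonempty (Sylow 7 K) := Sylow.nonempty
    obtain ⟨h1, h2⟩ := C.card_prime_sylow P (m := 208) hK (by norm_num)
    by_cases hn : (P : Subgroup K).Normal
    · exact C.no_commuting hs hs2 hs' hs2' hc hne (by norm_num) P h1
    have hn7 : Nat.card (Sylow 7 K) = 8 := by
      have hd := P.card_dvd_index
      rw [h2] at hd
      have hm : Nat.card (Sylow 7 K) % 7 = 1 := card_sylow_modEq_one 7 K
      have hne1 : Nat.card (Sylow 7 K) ≠ 1 := fun e => hn (by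
        haveI := Finite.card_le_one_iff_subsingleton.1 e.le
        exact Sylow.normal_of_subsingleton P)
      have hmem := Nat.mem_divisors.2 ⟨hd, show (208 : ℕ) ≠ 0 by norm_num⟩
      rw [show Nat.divisors 208 = {1, 2, 4, 8, 13, 16, 26, 52, 104, 208} by decide] at hmem
      simp only [Finset.mem_insert, Finset.mem_singleton] at hmem
      omega
    set N := normalizer ((P : Subgroup K) : Set K) with hN
    have hN182 : Nat.card N = 182 := by
      have := N.card_mul_index
      rw [show N.index = Nat.card (Sylow 7 K) from P.card_eq_index_normalizer.symm, hn7, hK] at this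
      omega
    haveI := Fact.mk (show Nat.Prime 13 by norm_num)
    obtain ⟨w, hw⟩ := exists_prime_orderOf_dvd_card' 13 (show 13 ∣ Nat.card N by rw [hN182]; norm_num)
    haveI := isCyclic_of_prime_card (p := 7) h1
    obtain ⟨g, hg⟩ := IsCyclic.exists_generator (α := (P : Subgroup K))
    have hgo : orderOf (g : K) = 7 := by
      rw [Subgroup.orderOf_coe, orderOf_eq_card_of_forall_mem_zpowers hg, h1]
    have hconj : (w : K) * g * (w : K)⁻¹ ∈ (P : Subgroup K) :=
      (Subgroup.mem_normalizer_iff.1 w.2 g).1 g.2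
    obtain ⟨i, hi⟩ := (Submonoid.mem_powers_iff _ _).1 (mem_powers_iff_mem_zpowers.2 (hg ⟨_, hconj⟩))
    have hi' : (w : K) * g * (w : K)⁻¹ = (g : K) ^ i := (congrArg Subtype.val hi).symm.trans (by simp)
    have hpow : ∀ n : ℕ, (w : K) ^ n * g * ((w : K) ^ n)⁻¹ = (g : K) ^ i ^ n := by
      intro n
      induction n with
      | zero => simp
      | succ n ih =>
        calc (w : K) ^ (n + 1) * g * ((w : K) ^ (n + 1))⁻¹
            = (w : K) ^ n * ((w : K) * g * (w : K)⁻¹) * ((w : K) ^ n)⁻¹ := by rw [pow_succ]; group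
          _ = (g : K) ^ i ^ (n + 1) := by rw [hi', ← conj_pow, ih, ← pow_mul, pow_succ]
    have hw13 : (w : K) ^ 13 = 1 := by rw [← hw, ← Subgroup.orderOf_coe, pow_orderOf_eq_one]
    have h9 := hpow 13
    rw [hw13, one_mul, inv_one, mul_one] at h9
    have h13 : i ^ 13 % 7 = 1 := by
      have h9' : (g : K) ^ i ^ 13 = (g : K) ^ 1 := by rw [pow_one, ← h9]
      rw [pow_eq_pow_iff_modEq, hgo] at h9'
      exact h9'
    have hi7 : i % 7 = 1 := by
      rw [Nat.pow_mod] at h13
      have : i % 7 < 7 := Nat.mod_lt _ (by norm_num)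
      interval_cases h : i % 7 <;> first | rfl | norm_num at h13
    have hcw : Commute (w : K) g := by
      refine mul_inv_eq_iff_eq_mul.1 ?_
      rw [hi', ← pow_mod_orderOf, hgo, hi7, pow_one]
    obtain ⟨Q, hQ⟩ := (IsPGroup.of_card (p := 13) (n := 1) (G := zpowers (w : K))
      (by rw [Nat.card_zpowers, Subgroup.orderOf_coe, hw, pow_one])).exists_le_sylow
    obtain ⟨q1, q2⟩ := C.card_prime_sylow Q (m := 112) hK (by norm_num)
    have hQeq : (Q : Subgroup K) = zpowers (w : K) := (Subgroup.eq_of_le_of_card_ge hQ (by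
      rw [q1, Nat.card_zpowers, Subgroup.orderOf_coe, hw])).symm
    haveI : (Q : Subgroup K).Normal := by
      have hgN : (g : K) ∈ normalizer ((Q : Subgroup K) : Set K) :=
        (Subgroup.centralizer_le_normalizer _) (by
          rw [hQeq, mem_centralizer_iff]
          rintro _ ⟨n, rfl⟩
          exact (hcw.zpow_left n).eq)
      haveI : Subsingleton (Sylow 13 K) := by
        refine Finite.card_le_one_iff_subsingleton.1 ?_
        have hd := Q.card_dvd_index
        rw [q2] at hd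
        have hm : Nat.card (Sylow 13 K) % 13 = 1 := card_sylow_modEq_one 13 K
        have h7 : 7 ∣ Nat.card (normalizer ((Q : Subgroup K) : Set K)) := by
          rw [← hgo]; exact Subgroup.orderOf_dvd_natCard _ hgN
        have h13' : 13 ∣ Nat.card (normalizer ((Q : Subgroup K) : Set K)) := by
          have := Subgroup.card_dvd_of_le (Subgroup.le_normalizer (H := (Q : Subgroup K)))
          rwa [q1] at this
        obtain ⟨m, hm91⟩ := (show Nat.Coprime 7 13 by norm_num).mul_dvd_of_dvd_of_dvd h7 h13'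
        have hmul := (normalizer ((Q : Subgroup K) : Set K)).card_mul_index
        rw [show (normalizer ((Q : Subgroup K) : Set K)).index = Nat.card (Sylow 13 K) from
          Q.card_eq_index_normalizer.symm, hK, hm91] at hmul
        have h16 : Nat.card (Sylow 13 K) ∣ 16 := ⟨m, by linarith [mul_assoc 91 m (Nat.card (Sylow 13 K))]⟩
        have hle := Nat.le_of_dvd (by norm_num) h16
        rcases (show Nat.card (Sylow 13 K) = 1 ∨ Nat.card (Sylow 13 K) = 14 by omega) with e | e
        · exact e.le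
        · rw [e] at h16; norm_num at h16
      exact Sylow.normal_of_subsingleton Q
    exact C.no_commuting hs hs2 hs' hs2' hc hne (by norm_num) Q q1

/-- The main case analysis. -/
theorem card_cases : Nat.card R = r ∨ Nat.card R = 9 := by
  haveI := Fact.mk Nat.prime_two
  have hd := C.L.card_eq
  have he := C.L.two_le_exp
  have hsplit := C.L.card_split
  have hY := C.card_Y
  have hr35 := C.L.B.r_eq
  have hfin : ∀ k, Nat.card R = 2 ^ k + 1 → Nat.card R = r ∨ Nat.card R = 9 := fun k hk => by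
    rw [hd] at hk ⊢
    exact pow_eq_of_pred_two_pow hr35 he hk
  by_cases hy1 : Nat.card ↥(K ⊓ centralizer ({y} : Set G)) = 1
  · rw [hy1, mul_one] at hY
    have hfree : ∀ u ∈ K, orderOf u = 2 → ∀ a ∈ R, a ≠ 1 → ¬ Commute u a := by
      intro u hu hu2 a ha ha1 hua
      obtain ⟨k, hk, hka⟩ := C.trans ha C.L.yR (C.L.conj_y_of_commute ha ha1 hu2 hua)
      have h1 : k * u * k⁻¹ ∈ K ⊓ centralizer ({y} : Set G) := mem_inf.2
        ⟨mul_mem (mul_mem hk hu) (inv_mem hk), mem_centralizer_singleton_iff.2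
          (show Commute (k * u * k⁻¹) y by
            have h := hua.map (MulAut.conj k).toMonoidHom
            simp only [MulEquiv.coe_toMonoidHom, MulAut.conj_apply] at h
            rwa [hka] at h).eq⟩
      rw [Subgroup.card_eq_one.1 hy1, Subgroup.mem_bot, conj_eq_one_iff] at h1
      rw [h1, orderOf_one] at hu2; omega
    obtain ⟨k, hk, hky⟩ := C.trans C.L.yR (inv_mem C.L.yR) C.L.inv_conj.symm
    have hk2 : k * k = 1 := by
      rw [← Subgroup.mem_bot, ← Subgroup.card_eq_one.1 hy1]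
      refine mem_inf.2 ⟨mul_mem hk hk, mem_centralizer_singleton_iff.2 (mul_inv_eq_iff_eq_mul.1 ?_)⟩
      calc k * k * y * (k * k)⁻¹ = k * (k * y * k⁻¹) * k⁻¹ := by group
        _ = y := by rw [hky, ← conj_inv, hky, inv_inv]
    have hk1 : k ≠ 1 := by
      intro e
      rw [e] at hky
      simp only [one_mul, inv_one, mul_one] at hky
      have h1 : y ^ 2 = 1 := by rw [sq]; nth_rw 2 [hky]; rw [mul_inv_cancel]
      have h2 := orderOf_dvd_of_pow_eq_one h1
      rw [C.L.B.hy] at h2
      have := Nat.le_of_dvd two_pos h2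
      have := C.L.B.three_le
      omega
    have hko : orderOf k = 2 := orderOf_eq_prime (by rw [sq]; exact hk2) hk1
    obtain ⟨i, hi⟩ := C.two_group_of_free hk hko (hfree k hk hko)
    rcases C.card_Z with hz | ⟨hz, -⟩
    · exact hfin i (by omega)
    · exact hfin (i + 1) (by rw [pow_succ]; omega)
  obtain ⟨k, hk⟩ : ∃ k ∈ K ⊓ centralizer ({y} : Set G), k ≠ 1 := by
    by_contra hc
    push Not at hc
    exact hy1 (Subgroup.card_eq_one.2 ((Subgroup.eq_bot_iff_forall _).2 hc))
  obtain ⟨s, hs, hs2, hsy⟩ := C.stab_invol (mem_inf.1 hk.1).1 C.L.yR C.L.y_ne_one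
    (mem_centralizer_singleton_iff.1 (mem_inf.1 hk.1).2) hk.2
  rw [(C.stab_eq hs hs2 C.L.yR C.L.y_ne_one hsy).2] at hY
  by_cases hK2 : ∃ i, Nat.card K = 2 ^ i
  · obtain ⟨i, hi⟩ := hK2
    rcases i with _ | i
    · rw [pow_zero] at hi; omega
    rw [pow_succ] at hi
    rcases C.card_Z with hz | ⟨hz, z, hzR, hz1, hzy⟩
    · exact hfin i (by omega)
    · exfalso
      have hR : Nat.card R = 3 * 2 ^ i + 1 := by omega
      rcases hr35 with e | e
      · have h3 : 3 ∣ Nat.card R := by
          have := dvd_pow_self r (show (Nat.card G).factorization r ≠ 0 by omega)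
          rw [← hd, e] at this; exact this
        omega
      · refine C.not_three_twenty_five hs hs2 hsy e ?_ hzR hz1 hzy
        rw [hd, e] at hR ⊢
        exact five_pow_eq hR
  have hfix : ∀ u ∈ K, orderOf u = 2 → ∃ a ∈ R, a ≠ 1 ∧ Commute u a := by
    intro u hu hu2
    by_contra hc
    push Not at hc
    exact hK2 (C.two_group_of_free hu hu2 hc)
  have htp := C.two_part_le hs hs2 hsy hfix
  have hcc := C.fix_cases hs hs2 C.L.yR C.L.y_ne_one hsy
  have hdvd2 : ∀ {i : ℕ}, 2 ^ i ∣ Nat.card K → 2 ^ i ≤ 2 * (Nat.card (fixR R s) - 1) := by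
    intro i hi
    exact le_trans (Nat.pow_le_pow_right two_pos
      ((Nat.prime_two.pow_dvd_iff_le_factorization Nat.card_pos.ne').1 hi)) htp
  rcases C.card_Z with hz | ⟨hz, -⟩
  swap
  · exfalso
    rcases hr35 with e | e
    · have h3 : 3 ∣ Nat.card R := by
          have := dvd_pow_self r (show (Nat.card G).factorization r ≠ 0 by omega)
          rw [← hd, e] at this; exact this
      omega
    · have hc5 : Nat.card (fixR R s) = 5 := by
        rcases hcc with h | h
        · rw [h, e]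
        · have := Subgroup.card_dvd_of_le (show fixR R s ≤ R from inf_le_left)
          rw [h, hd, e] at this
          exact absurd ((show Nat.Prime 3 by norm_num).dvd_of_dvd_pow ((by norm_num : 3 ∣ 9).trans this))
            (by norm_num)
      rw [e] at hd
      rcases Nat.even_or_odd ((Nat.card G).factorization r) with ⟨j, hj⟩ | ⟨j, hj⟩ <;>
        rw [e] at hj <;> rw [hj] at hd
      · have h24 : 5 ^ (j + j) % 24 = 1 := by
          rw [← two_mul, pow_mul, Nat.pow_mod]; simp
        rw [← hd] at h24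
        have := hdvd2 (i := 4) (by omega)
        omega
      · have h3 : 5 ^ (2 * j + 1) % 3 = 2 := by
          rw [pow_succ, pow_mul, Nat.mul_mod, Nat.pow_mod]; simp
        rw [← hd] at h3
        omega
  by_cases hcm : ∃ u ∈ K, ∃ v ∈ K, orderOf u = 2 ∧ orderOf v = 2 ∧ Commute u v ∧ u ≠ v
  · exfalso
    obtain ⟨u, hu, v, hv, hu2, hv2, huv, hne⟩ := hcm
    have h3 := C.card_cube hu hu2 hv hv2 huv hne hfix
    obtain ⟨a, ha, ha1, hua⟩ := hfix u hu hu2
    rw [C.card_fix_same hs hs2 C.L.yR C.L.y_ne_one hsy hu hu2 ha ha1 hua] at h3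
    refine C.not_small hu hu2 hv hv2 huv hne ?_
    rcases hcc with h | h <;> rw [h] at h3
    · rcases hr35 with e | e <;> rw [e] at h3 <;> norm_num at h3
      · left; omega
      · right; left; omega
    · norm_num at h3
      right; right; omega
  push Not at hcm
  have hcent : ¬ ∀ k ∈ K, Commute k s := by
    intro hall
    refine hK2 ⟨_, Nat.eq_prime_pow_of_unique_prime_dvd Nat.card_pos.ne' (p := 2) fun {p} hp hdp => ?_⟩
    by_contra hp2
    haveI := Fact.mk hp
    obtain ⟨w, hw⟩ := exists_prime_orderOf_dvd_card' p hdp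
    exact C.L.no_comm hp hp2 (fun e => C.cop (e ▸ hdp)) (by rw [Subgroup.orderOf_coe, hw])
      (Or.inl hs2) (hall w w.2)
  push Not at hcent
  obtain ⟨g, hg, hgs⟩ := hcent
  set s' := g * s * g⁻¹ with hs'def
  have hs' : s' ∈ K := mul_mem (mul_mem hg hs) (inv_mem hg)
  have hs2' : orderOf s' = 2 := by rw [hs'def, ← MulAut.conj_apply, MulEquiv.orderOf_eq, hs2]
  have hne : s ≠ s' := fun e => hgs (mul_inv_eq_iff_eq_mul.1 e.symm)
  have hinv : s * (s * s') * s⁻¹ = (s * s')⁻¹ := by
    rw [← mul_assoc s s s', sq_of_orderOf hs2, one_mul, mul_inv_rev,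
      inv_eq_of_mul_eq_one_right (sq_of_orderOf hs2'), inv_eq_of_mul_eq_one_right (sq_of_orderOf hs2)]
  obtain ⟨w, hwK, hws, hwodd, hw1⟩ : ∃ w ∈ K, s * w * s⁻¹ = w⁻¹ ∧ Odd (orderOf w) ∧ w ≠ 1 := by
    obtain ⟨e, m, hm, hem⟩ := Nat.exists_eq_two_pow_mul_odd (orderOf_pos (s * s')).ne'
    have hcinv : ∀ n : ℕ, s * (s * s') ^ n * s⁻¹ = ((s * s') ^ n)⁻¹ := fun n => by
      rw [← conj_pow, hinv, inv_pow]
    rcases eq_or_ne m 1 with rfl | hm1
    · exfalso
      rw [mul_one] at hem
      rcases e with _ | e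
      · rw [pow_zero, orderOf_eq_one_iff] at hem
        exact hne ((eq_inv_of_mul_eq_one_left hem).trans
          (inv_eq_of_mul_eq_one_right (sq_of_orderOf hs2')))
      set q := (s * s') ^ 2 ^ e with hq
      have hq2 : orderOf q = 2 := by
        rw [hq, orderOf_pow' _ (pow_ne_zero _ two_ne_zero), hem,
          Nat.gcd_eq_right (pow_dvd_pow 2 (Nat.le_succ e)), Nat.pow_div (Nat.le_succ e) two_pos]
        simp
      have hqs : Commute q s := by
        have := hcinv (2 ^ e)
        rw [← hq, inv_eq_of_mul_eq_one_right (sq_of_orderOf hq2)] at this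
        exact (mul_inv_eq_iff_eq_mul.1 this).symm
      have hqeq : q = s := hcm q (pow_mem (mul_mem hs hs') _) s hs hq2 hs2 hqs
      have hss : Commute s (s * s') := by
        have := (Commute.refl (s * s')).pow_left (2 ^ e)
        rw [show (s * s') ^ 2 ^ e = s from hq.symm.trans hqeq] at this; exact this
      have hss' : Commute s s' := by
        have := (Commute.refl s).inv_right.mul_right hss
        rwa [inv_mul_cancel_left] at this
      exact hne (hcm s hs s' hs' hs2 hs2' hss')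
    · refine ⟨(s * s') ^ 2 ^ e, pow_mem (mul_mem hs hs') _, hcinv _, ?_, ?_⟩
      · rw [orderOf_pow' _ (pow_ne_zero _ two_ne_zero), hem, Nat.gcd_mul_right_left,
          Nat.mul_div_cancel_left _ (Nat.two_pow_pos e)]
        exact hm
      · intro e1
        have h1 := Nat.le_of_dvd (Nat.two_pow_pos e) (hem ▸ orderOf_dvd_of_pow_eq_one e1)
        have : 2 ≤ m := by rcases hm with ⟨q, rfl⟩; omega
        have := Nat.mul_le_mul_left (2 ^ e) this
        have := Nat.two_pow_pos e
        omega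
  have h2 := C.card_square hs hs2 hwK hws hwodd hw1 hfix
  rcases hcc with h | h <;> rw [h] at h2
  · rcases hr35 with e | e <;> rw [e] at h2 h <;> norm_num at h2
    · exact Or.inr h2.symm
    · exfalso
      have := hdvd2 (i := 4) (by omega)
      omega
  · exfalso
    norm_num at h2
    have := hdvd2 (i := 5) (by omega)
    omega

end Comp

/-- `R` has order `r` or nine. -/
theorem Loc.card_cases (L : Loc A₁ A₂ A₃ r y t x R) : Nat.card R = r ∨ Nat.card R = 9 := by
  by_cases h : ∃ s : G, orderOf s = 2 ∧ ∀ a ∈ R, Commute s a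
  · obtain ⟨s, hs, hR⟩ := h
    exact L.cases_of_centralized hs hR
  · obtain ⟨K, C⟩ := L.exists_comp fun s hs hR => h ⟨s, hs, hR⟩
    exact C.card_cases

end CfsgLib.Recog.SuzThree
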