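import Cfsg.Agent.Lib.Recog.SuzThree.RStab

/-!
# The Sylow `r`-subgroup: fixed points of involutions
-/

set_option autoImplicit false
set_option linter.style.haveILetI false
set_option linter.unusedSectionVars false
set_option linter.unusedVariables false

namespace CfsgLib.Recog.SuzThree

open CfsgLib.Chars CfsgLib.CharApps Subgroup
open scoped Classical

universe u

variable {G : Type u} [Group G] [Finite G] {A₁ A₂ A₃ : Subgroup G} {r : ℕ} {y t x : G}
  {R : Subgroup G}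

/-- The elements of `R` conjugate to `y`, and the others. -/
theorem Loc.card_split (L : Loc A₁ A₂ A₃ r y t x R) :
    Nat.card {a : G // a ∈ R ∧ a ≠ 1 ∧ IsConj a y} +
      Nat.card {a : G // a ∈ R ∧ a ≠ 1 ∧ ¬ IsConj a y} + 1 = Nat.card R := by
  haveI := Fintype.ofFinite G
  simp only [Nat.card_eq_fintype_card, Fintype.card_subtype]
  rw [← Finset.card_erase_add_one (show (1 : G) ∈ Finset.univ.filter (· ∈ R) by simp [one_mem])]
  congr 1
  rw [← Finset.card_union_of_disjoint (Finset.disjoint_filter.2 fun a _ h h' => h'.2.2 h.2.2)]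
  congr 1
  ext a
  simp only [Finset.mem_union, Finset.mem_filter, Finset.mem_univ, true_and, Finset.mem_erase]
  tauto

theorem Loc.conj_y_of_commute (L : Loc A₁ A₂ A₃ r y t x R) {a s : G} (ha : a ∈ R) (ha1 : a ≠ 1)
    (hs : orderOf s = 2) (h : Commute s a) : IsConj a y :=
  L.B.r_class hs (L.orderOf_eq ha ha1) h

theorem Loc.inv_conj (L : Loc A₁ A₂ A₃ r y t x R) : IsConj y⁻¹ y :=
  L.B.r_class L.B.ht (by rw [orderOf_inv, L.B.hy]) L.B.hc.inv_right

/-- The fixed points of an involution. -/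
def fixR (R : Subgroup G) (s : G) : Subgroup G := R ⊓ centralizer ({s} : Set G)

theorem mem_fixR {s a : G} : a ∈ fixR R s ↔ a ∈ R ∧ Commute s a := by
  rw [fixR, mem_inf, mem_centralizer_singleton_iff]
  exact and_congr_right fun _ => ⟨fun h => h.symm, fun h => h.eq.symm⟩

namespace Comp

variable {K : Subgroup G} (C : Comp A₁ A₂ A₃ r y t x R K)
include C

theorem card_Y :
    Nat.card {a : G // a ∈ R ∧ a ≠ 1 ∧ IsConj a y} *
      Nat.card ↥(K ⊓ centralizer ({y} : Set G)) = Nat.card K := by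
  conv_rhs => rw [← card_orbit_mul K y]
  congr 1
  refine Nat.card_congr (Equiv.subtypeEquivRight fun a => ⟨?_, ?_⟩)
  · rintro ⟨ha, -, hc⟩
    exact C.trans C.L.yR ha hc.symm
  · rintro ⟨k, hk, rfl⟩
    exact ⟨C.conj_mem hk C.L.yR, fun e => C.L.y_ne_one (conj_eq_one_iff.1 e),
      (isConj_iff.2 ⟨k, rfl⟩ : IsConj y _).symm⟩

theorem stab_of_other {a : G} (ha : a ∈ R) (ha1 : a ≠ 1) (hc : ¬ IsConj a y) :
    Nat.card ↥(K ⊓ centralizer ({a} : Set G)) = 1 := by
  rw [Subgroup.card_eq_one, Subgroup.eq_bot_iff_forall]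
  intro k hk
  by_contra hk1
  obtain ⟨s, -, hs, hsa⟩ := C.stab_invol (mem_inf.1 hk).1 ha ha1
    (mem_centralizer_singleton_iff.1 (mem_inf.1 hk).2) hk1
  exact hc (C.L.conj_y_of_commute ha ha1 hs hsa)

theorem card_Z :
    Nat.card {a : G // a ∈ R ∧ a ≠ 1 ∧ ¬ IsConj a y} = 0 ∨
      (Nat.card {a : G // a ∈ R ∧ a ≠ 1 ∧ ¬ IsConj a y} = Nat.card K ∧
        ∃ z ∈ R, z ≠ 1 ∧ ¬ IsConj z y) := by
  rcases isEmpty_or_nonempty {a : G // a ∈ R ∧ a ≠ 1 ∧ ¬ IsConj a y} with h | ⟨⟨z, hz, hz1, hzy⟩⟩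
  · exact Or.inl Nat.card_of_isEmpty
  refine Or.inr ⟨?_, z, hz, hz1, hzy⟩
  have hex : ∀ {a : G}, a ∈ R → a ≠ 1 → ¬ IsConj a y → Extra A₁ A₂ A₃ y t x a := by
    intro a ha ha1 hay
    have ho := C.L.orderOf_eq ha ha1
    obtain ⟨k, hk⟩ := C.L.B.odd_r
    have h3 := C.L.B.three_le
    refine ⟨C.L.B.out_of_dvd (by rw [ho]), fun s hs hc => ?_⟩
    have h1 := IsConj.orderOf_eq' hc
    simp only [Finset.mem_insert, Finset.mem_singleton] at hs
    rcases hs with rfl | rfl | rfl | rfl | rfl <;>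
      first
        | exact hay hc
        | (simp only [ho, orderOf_one, C.L.B.ht, C.L.B.hx, C.L.B.orderOf_ty] at h1; omega)
  conv_rhs => rw [← card_orbit_mul K z, C.stab_of_other hz hz1 hzy, mul_one]
  refine Nat.card_congr (Equiv.subtypeEquivRight fun a => ⟨?_, ?_⟩)
  · rintro ⟨ha, ha1, hay⟩
    exact C.trans hz ha (C.L.B.extra_conj (hex hz hz1 hzy) (hex ha ha1 hay))
  · rintro ⟨k, hk, rfl⟩
    exact ⟨C.conj_mem hk hz, fun e => hz1 (conj_eq_one_iff.1 e),
      fun h => hzy ((isConj_iff.2 ⟨k, rfl⟩ : IsConj z _).trans h)⟩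

/-- An involution of `K` without fixed points inverts `R` and is central in `K`. -/
theorem central_of_free {s : G} (hs : s ∈ K) (hs2 : orderOf s = 2)
    (hfree : ∀ a ∈ R, a ≠ 1 → ¬ Commute s a) :
    ∀ k ∈ K, Commute k s := by
  have hss := sq_of_orderOf hs2
  have hinv : ∀ a ∈ R, s * a * s⁻¹ = a⁻¹ := by
    intro a ha
    have hb : s * a * s⁻¹ ∈ R := C.conj_mem hs ha
    by_contra hne
    refine hfree _ (mul_mem ha hb) (fun e => hne (eq_inv_of_mul_eq_one_right e))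
      (mul_inv_eq_iff_eq_mul.1 ?_)
    calc s * (a * (s * a * s⁻¹)) * s⁻¹ = (s * a * s⁻¹) * ((s * s) * a * (s * s)⁻¹) := by group
      _ = a * (s * a * s⁻¹) := by rw [hss]; simpa using (C.L.comm _ hb _ ha).eq
  intro k hk
  have hmem : k * s * k⁻¹ * s⁻¹ ∈ K :=
    mul_mem (mul_mem (mul_mem hk hs) (inv_mem hk)) (inv_mem hs)
  have h1 := C.eq_one_of_fix hmem fun a ha => by
    have hb : k⁻¹ * a⁻¹ * k ∈ R := by
      simpa using C.conj_mem (inv_mem hk) (inv_mem ha)
    have e1 : s⁻¹ * a * s = a⁻¹ := by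
      rw [inv_eq_of_mul_eq_one_right hss]
      have := hinv a ha
      rwa [inv_eq_of_mul_eq_one_right hss] at this
    have e2 := hinv _ hb
    refine mul_inv_eq_iff_eq_mul.1 ?_
    calc k * s * k⁻¹ * s⁻¹ * a * (k * s * k⁻¹ * s⁻¹)⁻¹
        = k * (s * (k⁻¹ * (s⁻¹ * a * s) * k) * s⁻¹) * k⁻¹ := by group
      _ = a := by rw [e1, e2]; group
  exact mul_inv_eq_iff_eq_mul.1 (mul_inv_eq_one.1 h1)

/-- If some involution of `K` has no fixed point then `K` is a 2-group. -/
theorem two_group_of_free {s : G} (hs : s ∈ K) (hs2 : orderOf s = 2)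
    (hfree : ∀ a ∈ R, a ≠ 1 → ¬ Commute s a) : ∃ k, Nat.card K = 2 ^ k := by
  refine ⟨_, Nat.eq_prime_pow_of_unique_prime_dvd Nat.card_pos.ne' fun {p} hp hd => ?_⟩
  by_contra hp2
  haveI := Fact.mk hp
  obtain ⟨w, hw⟩ := exists_prime_orderOf_dvd_card' p hd
  exact C.L.no_comm hp hp2 (fun e => C.cop (e ▸ hd)) (by rw [Subgroup.orderOf_coe, hw])
    (Or.inl hs2) (C.central_of_free hs hs2 hfree w w.2)

theorem fix_isSylow {s a : G} (hs : s ∈ K) (hs2 : orderOf s = 2) (ha : a ∈ R) (ha1 : a ≠ 1)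
    (hsa : Commute s a) :
    ∃ P : Sylow r (centralizer ({s} : Set G)), (P : Subgroup (centralizer ({s} : Set G))) =
      (fixR R s).subgroupOf (centralizer ({s} : Set G)) := by
  haveI := Fact.mk C.L.B.hr
  set S := centralizer ({s} : Set G)
  have hU : IsPGroup r ((fixR R s).subgroupOf S) :=
    (C.L.isPGroup.to_le inf_le_left).of_equiv (subgroupOfEquivOfLe inf_le_right).symm
  refine ⟨⟨_, hU, fun {Q} hQ hle => le_antisymm (fun q hq => ?_) hle⟩, rfl⟩
  set Q' := Q.map S.subtype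
  have hQ' : IsPGroup r Q' := hQ.map _
  obtain ⟨P, hP⟩ := hQ'.exists_le_sylow
  haveI := C.L.B.T.ab r C.L.B.hr C.L.B.hr2 C.L.B.not_dvd P
  have haQ : a ∈ Q' :=
    ⟨⟨a, mem_centralizer_singleton_iff.2 hsa.symm⟩, hle (mem_fixR.2 ⟨ha, hsa⟩), rfl⟩
  have hQa : Q' ≤ centralizer ({a} : Set G) := fun b hb =>
    mem_centralizer_singleton_iff.2
      (congrArg Subtype.val (mul_comm' (⟨b, hP hb⟩ : (P : Subgroup G)) ⟨a, hP haQ⟩))
  have hqR : (q : G) ∈ R := C.pgroup_le hs hs2 ha ha1 hsa hQ' hQa ⟨q, hq, rfl⟩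
  exact mem_fixR.2 ⟨hqR, (mem_centralizer_singleton_iff.1 q.2 : Commute (q : G) s).symm⟩

/-- The number of fixed points is the `r`-part of the order of the centralizer of an involution. -/
theorem card_fix_eq {s a : G} (hs : s ∈ K) (hs2 : orderOf s = 2) (ha : a ∈ R) (ha1 : a ≠ 1)
    (hsa : Commute s a) :
    Nat.card (fixR R s) = r ^ (Nat.card (centralizer ({t} : Set G))).factorization r := by
  haveI := Fact.mk C.L.B.hr
  obtain ⟨P, hP⟩ := C.fix_isSylow hs hs2 ha ha1 hsa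
  have h1 : Nat.card (centralizer ({s} : Set G)) = Nat.card (centralizer ({t} : Set G)) := by
    have hc := C.L.B.invol_conj hs2
    have e1 := card_isConj_mul_card_centralizer s
    have e2 := card_isConj_mul_card_centralizer t
    have e3 : Nat.card {x : G // IsConj s x} = Nat.card {x : G // IsConj t x} :=
      Nat.card_congr (Equiv.subtypeEquivRight fun z =>
        ⟨fun h => hc.symm.trans h, fun h => hc.trans h⟩)
    rw [e3, ← e2] at e1
    haveI : Nonempty {x : G // IsConj t x} := ⟨⟨t, IsConj.refl t⟩⟩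
    exact Nat.eq_of_mul_eq_mul_left Nat.card_pos e1
  have h2 := P.card_eq_multiplicity
  rw [hP, Nat.card_congr (subgroupOfEquivOfLe (show fixR R s ≤ _ from inf_le_right)).toEquiv, h1] at h2
  exact h2

theorem fix_cases {s a : G} (hs : s ∈ K) (hs2 : orderOf s = 2) (ha : a ∈ R) (ha1 : a ≠ 1)
    (hsa : Commute s a) : Nat.card (fixR R s) = r ∨ Nat.card (fixR R s) = 9 := by
  haveI := Fact.mk C.L.B.hr
  set S := centralizer ({s} : Set G)
  obtain ⟨P, hP⟩ := C.fix_isSylow hs hs2 ha ha1 hsa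
  haveI : IsMulCommutative (P : Subgroup S) := ⟨⟨fun p q => Subtype.ext (Subtype.ext (by
    have hp : ((p : S) : G) ∈ fixR R s := hP.le p.2
    have hq : ((q : S) : G) ∈ fixR R s := hP.le q.2
    exact (C.L.comm _ (mem_fixR.1 hp).1 _ (mem_fixR.1 hq).1).eq))⟩⟩
  set aS : S := ⟨a, mem_centralizer_singleton_iff.2 hsa.symm⟩
  set N := normalizer ((P : Subgroup S) : Set S)
  have horb : Nat.card {b : S // ∃ h ∈ N, h * aS * h⁻¹ = b} + 1 = Nat.card (P : Subgroup S) := by
    haveI := Fintype.ofFinite S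
    rw [Nat.card_eq_fintype_card, Fintype.card_subtype, Nat.card_eq_fintype_card,
      show Fintype.card (P : Subgroup S) = (Finset.univ.filter (· ∈ (P : Subgroup S))).card from
        Fintype.card_subtype _,
      ← Finset.card_erase_add_one
        (show (1 : S) ∈ Finset.univ.filter (· ∈ (P : Subgroup S)) by simp [one_mem])]
    congr 2
    ext b
    simp only [Finset.mem_filter, Finset.mem_univ, true_and, Finset.mem_erase]
    have haP : aS ∈ (P : Subgroup S) := hP.ge (mem_fixR.2 ⟨ha, hsa⟩)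
    constructor
    · rintro ⟨h, hh, rfl⟩
      exact ⟨fun e => ha1 (congrArg Subtype.val (conj_eq_one_iff.1 e)),
        (Subgroup.mem_normalizer_iff.1 hh aS).1 haP⟩
    · rintro ⟨hb1, hb⟩
      obtain ⟨hbR, hsb⟩ : (b : G) ∈ R ∧ Commute s (b : G) := mem_fixR.1 (hP.le hb)
      have hb1' : (b : G) ≠ 1 := fun e => hb1 (Subtype.ext e)
      have hc := C.L.B.pair_conj hs2 hs2 (C.L.orderOf_eq ha ha1) (C.L.orderOf_eq hbR hb1') hsa hsb
      obtain ⟨g, hg⟩ := isConj_iff.1 hc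
      obtain ⟨a1, a2⟩ := split_pow hs2 (C.L.orderOf_eq ha ha1) C.L.B.odd_r hsa
      obtain ⟨b1, b2⟩ := split_pow hs2 (C.L.orderOf_eq hbR hb1') C.L.B.odd_r hsb
      have hgs : g * s * g⁻¹ = s := by
        conv_lhs => rw [← a2, ← conj_pow, hg, b2]
      have hga : g * a * g⁻¹ = b := by
        conv_lhs => rw [← a1, ← conj_pow, hg, b1]
      set gS : S := ⟨g, mem_centralizer_singleton_iff.2 (mul_inv_eq_iff_eq_mul.1 hgs)⟩
      obtain ⟨n, hn, hne⟩ := P.conj_eq_normalizer_conj_of_mem aS gS⁻¹ haP (by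
        have : gS⁻¹⁻¹ * aS * gS⁻¹ = b := Subtype.ext (by simpa [gS, aS] using hga)
        rw [this]; exact hb)
      refine ⟨n⁻¹, inv_mem hn, ?_⟩
      rw [inv_inv, ← hne]
      exact Subtype.ext (by simpa [gS, aS] using hga)
  have hdvd : Nat.card {b : S // ∃ h ∈ N, h * aS * h⁻¹ = b} ∣ Nat.card S :=
    (Dvd.intro _ (card_orbit_mul N aS)).trans (Subgroup.card_subgroup_dvd_card N)
  obtain ⟨e, he⟩ := P.2.exists_card_eq
  have hc : Nat.card (P : Subgroup S) = Nat.card (fixR R s) := by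
    rw [hP]
    exact Nat.card_congr (subgroupOfEquivOfLe inf_le_right).toEquiv
  haveI : Nonempty {b : S // ∃ h ∈ N, h * aS * h⁻¹ = b} :=
    ⟨⟨aS, 1, one_mem _, by group⟩⟩
  have hpos : 0 < Nat.card {b : S // ∃ h ∈ N, h * aS * h⁻¹ = b} := Nat.card_pos
  rw [he] at horb
  have he1 : 1 ≤ e := by
    rcases Nat.eq_zero_or_pos e with rfl | h
    · rw [pow_zero] at horb; omega
    · exact h
  have h2 := Nat.eq_prime_pow_of_unique_prime_dvd hpos.ne' (p := 2) fun {p} hp hd => by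
    rcases C.L.primes_centralizer (Or.inl hs2) hp (hd.trans hdvd) with e' | e'
    · exact e'
    · exfalso
      subst e'
      have h9 : p ∣ 1 := (Nat.dvd_add_right hd).1 (horb ▸ dvd_pow_self p (by omega))
      exact hp.not_dvd_one h9
  rw [← hc, he]
  exact pow_eq_of_pred_two_pow C.L.B.r_eq he1 (by rw [← horb, h2])

end Comp

end CfsgLib.Recog.SuzThree
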