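import Cfsg.Agent.Lib.Recog.SuzThree.Basic

/-!
# Tools for the Sylow subgroup of order prime to the three subgroups
-/

set_option autoImplicit false
set_option linter.style.haveILetI false
set_option linter.unusedSectionVars false

namespace CfsgLib.Recog.SuzThree

open Subgroup

variable {G : Type*} [Group G]

/-- Orbit times stabilizer for conjugation by a subgroup. -/
theorem card_orbit_mul [Finite G] (H : Subgroup G) (a : G) :
    Nat.card {x : G // ∃ h ∈ H, h * a * h⁻¹ = x} *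
      Nat.card ↥(H ⊓ centralizer ({a} : Set G)) = Nat.card H := by
  classical
  let F : H → {x : G // ∃ h ∈ H, h * a * h⁻¹ = x} := fun h =>
    ⟨(h : G) * a * (h : G)⁻¹, h, h.2, rfl⟩
  have hfib : ∀ y, Nat.card {h : H // F h = y} = Nat.card ↥(H ⊓ centralizer ({a} : Set G)) := by
    rintro ⟨y, k, hk, rfl⟩
    refine Nat.card_congr
      { toFun := fun h => ⟨k⁻¹ * (h.1 : G), mem_inf.2 ⟨mul_mem (inv_mem hk) h.1.2, ?_⟩⟩
        invFun := fun c => ⟨⟨k * (c : G), mul_mem hk (mem_inf.1 c.2).1⟩, ?_⟩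
        left_inv := fun h => Subtype.ext (Subtype.ext (mul_inv_cancel_left _ _))
        right_inv := fun c => Subtype.ext (inv_mul_cancel_left _ _) }
    · have h1 : (h.1 : G) * a * (h.1 : G)⁻¹ = k * a * k⁻¹ := congrArg Subtype.val h.2
      rw [mem_centralizer_singleton_iff]
      calc k⁻¹ * (h.1 : G) * a = k⁻¹ * ((h.1 : G) * a * (h.1 : G)⁻¹) * h.1 := by group
        _ = a * (k⁻¹ * h.1) := by rw [h1]; group
    · refine Subtype.ext ?_
      have h2 := mem_centralizer_singleton_iff.1 (mem_inf.1 c.2).2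
      show k * (c : G) * a * (k * (c : G))⁻¹ = k * a * k⁻¹
      rw [mul_assoc k, h2]
      group
  haveI := Fintype.ofFinite {x : G // ∃ h ∈ H, h * a * h⁻¹ = x}
  rw [← Nat.card_congr (Equiv.sigmaFiberEquiv F), Nat.card_sigma,
    Finset.sum_congr rfl fun y _ => hfib y, Finset.sum_const, smul_eq_mul, Finset.card_univ,
    ← Nat.card_eq_fintype_card]

/-- A complement of an abelian normal Hall subgroup inside a normalizer. -/
theorem exists_complement [Finite G] (R : Subgroup G)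
    (hc : (Nat.card R).Coprime (R.relIndex (normalizer (R : Set G)))) :
    ∃ K : Subgroup G, K ≤ normalizer (R : Set G) ∧ R ⊓ K = ⊥ ∧
      (∀ n ∈ normalizer (R : Set G), ∃ ρ ∈ R, ∃ k ∈ K, n = ρ * k) ∧
      Nat.card K = R.relIndex (normalizer (R : Set G)) := by
  set N := normalizer (R : Set G) with hN
  haveI : (R.subgroupOf N).Normal := Subgroup.normal_in_normalizer
  have hRN : R ≤ N := Subgroup.le_normalizer
  have hcard : Nat.card (R.subgroupOf N) = Nat.card R :=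
    Nat.card_congr (subgroupOfEquivOfLe hRN).toEquiv
  have hc' : (Nat.card (R.subgroupOf N)).Coprime (R.subgroupOf N).index := by
    rw [hcard]; exact hc
  obtain ⟨H, hH⟩ := Subgroup.exists_left_complement'_of_coprime hc'
  refine ⟨H.map N.subtype, ?_, ?_, ?_, ?_⟩
  · exact Subgroup.map_subtype_le H
  · rw [eq_bot_iff]
    intro g hg
    obtain ⟨h1, h, hh, rfl⟩ := hg
    have h2 : h ∈ R.subgroupOf N ⊓ H := ⟨h1, hh⟩
    rw [disjoint_iff.1 hH.symm.disjoint, Subgroup.mem_bot] at h2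
    subst h2
    simp
  · intro n hn
    obtain ⟨⟨ρ, k⟩, hρk⟩ := hH.symm.2 ⟨n, hn⟩
    exact ⟨(ρ : N), ρ.2, (k : N), ⟨(k : N), k.2, rfl⟩, (congrArg Subtype.val hρk).symm⟩
  · rw [Subgroup.card_map_of_injective N.subtype_injective]
    exact hH.index_eq_card.symm

/-- A power of three or five one more than a power of two. -/
theorem pow_eq_of_pred_two_pow {r d k : ℕ} (hr : r = 3 ∨ r = 5) (hd : 1 ≤ d)
    (h : r ^ d = 2 ^ k + 1) : r ^ d = r ∨ r ^ d = 9 := by
  rcases Nat.even_or_odd d with ⟨e, rfl⟩ | ⟨e, rfl⟩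
  · right
    have hr1 : 1 ≤ r ^ e := Nat.one_le_pow _ _ (by omega)
    obtain ⟨a, ha⟩ : ∃ a, r ^ e = a + 1 := ⟨r ^ e - 1, by omega⟩
    have h1 : a * (a + 2) = 2 ^ k := by
      rw [pow_add, ha] at h
      have : a * (a + 2) + 1 = 2 ^ k + 1 := by rw [← h]; ring
      omega
    obtain ⟨i, -, hi⟩ := (Nat.dvd_prime_pow Nat.prime_two).1 ⟨a + 2, h1.symm⟩
    obtain ⟨j, -, hj⟩ := (Nat.dvd_prime_pow Nat.prime_two).1
      (show a + 2 ∣ 2 ^ k from ⟨a, by rw [← h1, mul_comm]⟩)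
    have h2 : a = 2 := by
      have hpi := Nat.two_pow_pos i
      have hpj := Nat.two_pow_pos j
      rcases i with _ | _ | i <;> rcases j with _ | _ | j <;>
        simp only [pow_succ, pow_zero] at hi hj hpi hpj <;> omega
    simp [pow_add, ha, h2]
  · left
    suffices hk : 2 ^ k = r - 1 by rw [h, hk]; omega
    rcases hr with rfl | rfl
    · have h1 : 3 ^ (2 * e + 1) % 4 = 3 := by
        rw [pow_succ, pow_mul, Nat.mul_mod, Nat.pow_mod]; simp
      rw [h] at h1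
      rcases k with _ | _ | k
      · simp at h1
      · norm_num
      · rw [pow_succ, pow_succ] at h1; omega
    · have h1 : 5 ^ (2 * e + 1) % 8 = 5 := by
        rw [pow_succ, pow_mul, Nat.mul_mod, Nat.pow_mod]; simp
      rw [h] at h1
      rcases k with _ | _ | _ | k
      · simp at h1
      · simp at h1
      · norm_num
      · rw [pow_succ, pow_succ, pow_succ] at h1; omega

/-- A power of five one more than three times a power of two. -/
theorem five_pow_eq {d k : ℕ} (h : 5 ^ d = 3 * 2 ^ k + 1) : 5 ^ d = 25 := by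
  rcases Nat.even_or_odd d with ⟨e, rfl⟩ | ⟨e, rfl⟩
  · have hr1 : 1 ≤ 5 ^ e := Nat.one_le_pow _ _ (by omega)
    obtain ⟨a, ha⟩ : ∃ a, 5 ^ e = a + 1 := ⟨5 ^ e - 1, by omega⟩
    have h1 : a * (a + 2) = 3 * 2 ^ k := by
      rw [pow_add, ha] at h
      have : a * (a + 2) + 1 = 3 * 2 ^ k + 1 := by rw [← h]; ring
      omega
    rcases Nat.eq_zero_or_pos e with rfl | he
    · norm_num at h
    have h4 : (a + 1) % 4 = 1 := by rw [← ha, Nat.pow_mod]; simp
    obtain ⟨b, hb⟩ : ∃ b, a + 2 = 2 * b := ⟨(a + 2) / 2, by omega⟩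
    have hbodd : b % 2 = 1 := by omega
    have h2 : b ∣ 3 * 2 ^ k := ⟨2 * a, by rw [← h1, hb]; ring⟩
    have h3 : b ∣ 3 := (Nat.Coprime.pow_right k
      (Nat.coprime_two_right.2 (Nat.odd_iff.2 hbodd))).dvd_of_dvd_mul_right h2
    have h5 : b ≤ 3 := Nat.le_of_dvd (by norm_num) h3
    have h6 : 5 ^ 1 ≤ 5 ^ e := Nat.pow_le_pow_right (by norm_num) he
    have h7 : a = 4 := by omega
    simp [pow_add, ha, h7]
  · have h1 : 5 ^ (2 * e + 1) % 3 = 2 := by
      rw [pow_succ, pow_mul, Nat.mul_mod, Nat.pow_mod]; simp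
    rw [h] at h1
    omega

/-- The part of `R` inverted by `s`. -/
def InvBy (R : Subgroup G) (s : G) : Set G := {a | a ∈ R ∧ s * a * s⁻¹ = a⁻¹}

/-- Fixed part times inverted part. -/
theorem card_fix_mul_inv [Finite G] {R : Subgroup G} {s : G} {r : ℕ} (hr : Odd r)
    (hcomm : ∀ a ∈ R, ∀ b ∈ R, Commute a b) (hexp : ∀ a ∈ R, a ^ r = 1)
    (hnorm : ∀ a ∈ R, s * a * s⁻¹ ∈ R) (hs : s * s = 1) :
    Nat.card ↥(R ⊓ centralizer ({s} : Set G)) * Nat.card (InvBy R s) = Nat.card R := by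
  rw [← Nat.card_prod]
  have hs' : ∀ a : G, s * (s * a * s⁻¹) * s⁻¹ = a := fun a => by
    rw [show s * (s * a * s⁻¹) * s⁻¹ = (s * s) * a * (s * s)⁻¹ by group, hs]; group
  refine Nat.card_eq_of_bijective
    (fun p : ↥(R ⊓ centralizer ({s} : Set G)) × InvBy R s =>
      (⟨(p.1 : G) * (p.2 : G), mul_mem (mem_inf.1 p.1.2).1 p.2.2.1⟩ : R)) ⟨?_, ?_⟩
  · rintro ⟨⟨u, hu⟩, ⟨v, hv⟩⟩ ⟨⟨u', hu'⟩, ⟨v', hv'⟩⟩ he
    have h1 : u * v = u' * v' := congrArg Subtype.val he
    obtain ⟨huR, hus⟩ := mem_inf.1 hu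
    obtain ⟨hu'R, hu's⟩ := mem_inf.1 hu'
    have h2 : u * v⁻¹ = u' * v'⁻¹ := by
      have h3 := congrArg (fun z => s * z * s⁻¹) h1
      rw [conj_mul.symm, conj_mul.symm, hv.2, hv'.2] at h3
      have e1 : s * u * s⁻¹ = u :=
        mul_inv_eq_iff_eq_mul.2 (mem_centralizer_singleton_iff.1 hus).symm
      have e2 : s * u' * s⁻¹ = u' :=
        mul_inv_eq_iff_eq_mul.2 (mem_centralizer_singleton_iff.1 hu's).symm
      rwa [e1, e2] at h3
    have h4 : u ^ 2 = u' ^ 2 := by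
      have h5 : ∀ {a b : G}, a ∈ R → b ∈ R → a ^ 2 = (a * b) * (a * b⁻¹) := fun {a b} ha hb => by
        rw [sq, mul_assoc, ← mul_assoc b, (hcomm b hb a ha).eq, mul_inv_cancel_right]
      rw [h5 huR hv.1, h5 hu'R hv'.1, h1, h2]
    obtain ⟨m, hm⟩ := hr
    have h6 : u = u' := by
      have h7 : ∀ {a : G}, a ∈ R → a = (a ^ 2) ^ (m + 1) := fun {a} ha => by
        rw [← pow_mul, show 2 * (m + 1) = r + 1 by omega, pow_succ, hexp a ha, one_mul]
      rw [h7 huR, h7 hu'R, h4]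
    subst h6
    simp only [mul_right_inj] at h1
    subst h1
    rfl
  · rintro ⟨a, ha⟩
    set b := s * a * s⁻¹ with hb
    have hbR : b ∈ R := hnorm a ha
    obtain ⟨m, hm⟩ := hr
    refine ⟨(⟨(a * b) ^ (m + 1), mem_inf.2 ⟨pow_mem (mul_mem ha hbR) _, ?_⟩⟩,
      ⟨(a * b⁻¹) ^ (m + 1), pow_mem (mul_mem ha (inv_mem hbR)) _, ?_⟩), Subtype.ext ?_⟩
    · refine mem_centralizer_singleton_iff.2 (Eq.symm (mul_inv_eq_iff_eq_mul.1 ?_))
      rw [← conj_pow, conj_mul.symm, hs' a, ← hb, (hcomm b hbR a ha).eq]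
    · rw [← conj_pow, conj_mul.symm, ← conj_inv, hs' a, ← hb, ← inv_pow, mul_inv_rev, inv_inv]
    · show (a * b) ^ (m + 1) * (a * b⁻¹) ^ (m + 1) = a
      rw [← Commute.mul_pow (hcomm _ (mul_mem ha hbR) _ (mul_mem ha (inv_mem hbR))),
        show a * b * (a * b⁻¹) = a ^ 2 by
          rw [sq, mul_assoc, ← mul_assoc b, (hcomm b hbR a ha).eq, mul_inv_cancel_right],
        ← pow_mul, show 2 * (m + 1) = r + 1 by omega, pow_succ, hexp a ha, one_mul]

end CfsgLib.Recog.SuzThree
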