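import Cfsg.Agent.Lib.Recog.SuzThree.Orders
import Cfsg.Agent.Lib.Recog.SuzThree.RTools
import Cfsg.Agent.Lib.Base.MinimalNormal
import Cfsg.Agent.Lib.Chars.Burnside

/-!
# The Sylow `r`-subgroup: exponent, centralizers of its elements
-/

set_option autoImplicit false
set_option linter.style.haveILetI false
set_option linter.unusedSectionVars false
set_option linter.unusedVariables false

namespace CfsgLib.Recog.SuzThree

open CfsgLib.Chars CfsgLib.CharApps Subgroup
open scoped Classical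

universe u

variable {G : Type u} [Group G] [Finite G] {A₁ A₂ A₃ : Subgroup G} {r : ℕ} {y t x : G}

theorem eq_two_pow_mul {n r : ℕ} (hr : r.Prime) (hn : n ≠ 0) (hr2 : r ≠ 2)
    (h : ∀ p, p.Prime → p ∣ n → p = 2 ∨ p = r) :
    n = 2 ^ n.factorization 2 * r ^ n.factorization r := by
  conv_lhs => rw [← Nat.prod_factorization_pow_eq_self hn]
  rw [Finsupp.prod_of_support_subset n.factorization (s := {2, r}) _ _ (fun i _ => pow_zero i),
    Finset.prod_pair hr2.symm]
  intro p hp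
  rw [Nat.support_factorization, Nat.mem_primeFactors] at hp
  rcases h p hp.1 hp.2.1 with e | e <;> simp [e]

/-- An involution or an element of order four in a group of exponent four. -/
theorem two_cases {v : G} (h4 : v ^ 4 = 1) : v = 1 ∨ orderOf v = 2 ∨ orderOf v = 4 := by
  obtain ⟨i, hi, hio⟩ := (Nat.dvd_prime_pow Nat.prime_two).1
    (show orderOf v ∣ 2 ^ 2 from orderOf_dvd_of_pow_eq_one h4)
  interval_cases i
  · exact Or.inl (orderOf_eq_one_iff.1 hio)
  · exact Or.inr (Or.inl hio)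
  · exact Or.inr (Or.inr hio)

theorem pow_eq_self_of_mod {w : G} {k : ℕ} (hw : w ^ 4 = 1) (hk : k % 4 = 1) : w ^ k = w := by
  conv_lhs => rw [← Nat.div_add_mod k 4, pow_add, pow_mul, hw, one_pow, one_mul, hk, pow_one]

/-- A Sylow `r`-subgroup containing `y`. -/
structure Loc (A₁ A₂ A₃ : Subgroup G) (r : ℕ) (y t x : G) (R : Subgroup G) : Prop where
  B : Bad A₁ A₂ A₃ r y t x
  syl : ∃ P : Sylow r G, (P : Subgroup G) = R
  yR : y ∈ R

namespace Loc

variable {R : Subgroup G} (L : Loc A₁ A₂ A₃ r y t x R)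
include L

theorem card_eq : Nat.card R = r ^ (Nat.card G).factorization r := by
  haveI := Fact.mk L.B.hr
  obtain ⟨P, rfl⟩ := L.syl
  exact P.card_eq_multiplicity

theorem isPGroup : IsPGroup r R := by
  obtain ⟨P, rfl⟩ := L.syl
  exact P.2

theorem comm : ∀ a ∈ R, ∀ b ∈ R, Commute a b := by
  obtain ⟨P, rfl⟩ := L.syl
  haveI := L.B.T.ab r L.B.hr L.B.hr2 L.B.not_dvd P
  intro a ha b hb
  exact congrArg Subtype.val (mul_comm' (⟨a, ha⟩ : (P : Subgroup G)) ⟨b, hb⟩)

theorem le_of_isPGroup {P : Subgroup G} (hP : IsPGroup r P) (hle : R ≤ P) : P = R := by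
  obtain ⟨S, rfl⟩ := L.syl
  exact S.3 hP hle

theorem conj_normalizer {a b : G} (ha : a ∈ R) (hb : b ∈ R) (h : IsConj a b) :
    ∃ n ∈ normalizer (R : Set G), n * a * n⁻¹ = b := by
  haveI := Fact.mk L.B.hr
  obtain ⟨P, rfl⟩ := L.syl
  haveI := L.B.T.ab r L.B.hr L.B.hr2 L.B.not_dvd P
  obtain ⟨g, hg⟩ := isConj_iff.1 h
  obtain ⟨n, hn, hne⟩ := P.conj_eq_normalizer_conj_of_mem a g⁻¹ ha (by rw [inv_inv, hg]; exact hb)
  refine ⟨n⁻¹, inv_mem hn, ?_⟩
  rw [inv_inv, hg] at hne
  rw [inv_inv, hne]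

theorem exp : ∀ a ∈ R, a ^ r = 1 := by
  haveI := Fact.mk L.B.hr
  by_contra hno
  push Not at hno
  have hext : ∀ a ∈ R, a ^ r ≠ 1 →
      Extra A₁ A₂ A₃ y t x a ∧ ∃ j, 2 ≤ j ∧ orderOf a = r ^ j := by
    intro a ha har
    obtain ⟨j, hj⟩ := IsPGroup.iff_orderOf.1 L.isPGroup ⟨a, ha⟩
    rw [← Subgroup.orderOf_coe] at hj
    change orderOf a = r ^ j at hj
    have hj2 : 2 ≤ j := by
      by_contra hlt
      refine har (orderOf_dvd_iff_pow_eq_one.1 ?_)
      rw [hj]
      exact (pow_dvd_pow r (show j ≤ 1 by omega)).trans (by rw [pow_one])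
    refine ⟨?_, j, hj2, hj⟩
    have h9 : r * r ≤ r ^ j := by rw [← sq]; exact Nat.pow_le_pow_right L.B.hr.pos hj2
    have h3 := L.B.three_le
    have h3' := Nat.mul_le_mul h3 (le_refl r)
    refine L.B.extra_of_order (L.B.out_of_dvd (by rw [hj]; exact dvd_pow_self r (by omega)))
      ?_ ?_ ?_ ?_ ?_ <;> rw [hj] <;> omega
  obtain ⟨a, ha, har⟩ := hno
  obtain ⟨hea, j, hj, hao⟩ := hext a ha har
  have hj2 : j = 2 := by
    by_contra hne
    have h1 : orderOf (a ^ r) = r ^ (j - 1) := by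
      rw [orderOf_pow' _ L.B.hr.ne_zero, hao,
        Nat.gcd_eq_right (dvd_pow_self r (by omega)), show r ^ j = r ^ (j - 1) * r by
          rw [← pow_succ]; congr 1; omega, Nat.mul_div_cancel _ L.B.hr.pos]
    have h2 : (a ^ r) ^ r ≠ 1 := by
      rw [Ne, ← orderOf_dvd_iff_pow_eq_one, h1]
      intro hd
      have := Nat.le_of_dvd L.B.hr.pos hd
      have h5 : r * r ≤ r ^ (j - 1) := by rw [← sq]; exact Nat.pow_le_pow_right L.B.hr.pos (by omega)
      have := Nat.mul_le_mul L.B.three_le (le_refl r)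
      have := L.B.hr.pos
      omega
    have h3 := L.B.extra_orderOf hea (hext _ (pow_mem ha r) h2).1
    rw [hao, h1] at h3
    have := Nat.pow_right_injective L.B.hr.two_le h3
    omega
  set N := normalizer (R : Set G)
  have hS : Nat.card {b : G // ∃ h ∈ N, h * a * h⁻¹ = b} + Nat.card {b : R // b ^ r = 1} =
      Nat.card R := by
    rw [← Nat.card_sum]
    refine Nat.card_eq_of_bijective (Sum.elim (fun b => ⟨b.1, ?_⟩) fun b => b.1) ⟨?_, ?_⟩
    · obtain ⟨h, hh, e⟩ := b.2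
      rw [← e]
      exact (Subgroup.mem_normalizer_iff.1 hh a).1 ha
    · have hd : ∀ (b : {b : G // ∃ h ∈ N, h * a * h⁻¹ = b}) (c : {b : R // b ^ r = 1}),
          b.1 ≠ (c.1 : G) := by
        rintro ⟨b, h, hh, rfl⟩ ⟨c, hc⟩ e
        refine har ?_
        have : (h * a * h⁻¹) ^ r = 1 := by
          rw [show h * a * h⁻¹ = (c : G) from e, ← SubmonoidClass.coe_pow, hc, OneMemClass.coe_one]
        rwa [conj_pow, conj_eq_one_iff] at this
      rintro (b | b) (c | c) e <;> simp only [Sum.elim_inl, Sum.elim_inr] at e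
      · exact congrArg Sum.inl (Subtype.ext (congrArg (fun z : R => (z : G)) e))
      · exact absurd (congrArg Subtype.val e) (hd b c)
      · exact absurd (congrArg Subtype.val e).symm (hd c b)
      · exact congrArg Sum.inr (Subtype.ext e)
    · rintro ⟨b, hb⟩
      by_cases hbr : b ^ r = 1
      · exact ⟨Sum.inr ⟨⟨b, hb⟩, Subtype.ext (by simpa using hbr)⟩, rfl⟩
      · exact ⟨Sum.inl ⟨b, L.conj_normalizer ha hb (L.B.extra_conj hea (hext b hb hbr).1)⟩, rfl⟩
  have hΩ : r ∣ Nat.card {b : R // b ^ r = 1} := by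
    let Ω : Subgroup R :=
      { carrier := {b | b ^ r = 1}
        one_mem' := one_pow r
        mul_mem' := fun {b c} hb hc => by
          show (b * c) ^ r = 1
          have hbc : Commute b c := Subtype.ext (L.comm b b.2 c c.2).eq
          rw [hbc.mul_pow, hb, hc, one_mul]
        inv_mem' := fun {b} hb => by
          show (b⁻¹) ^ r = 1
          rw [inv_pow, hb, inv_one] }
    have h1 := Subgroup.orderOf_dvd_natCard Ω (x := ⟨y, L.yR⟩)
      (Subtype.ext (by simp [← L.B.hy, pow_orderOf_eq_one]))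
    rwa [← Subgroup.orderOf_coe, L.B.hy] at h1
  have hv : 1 ≤ (Nat.card G).factorization r :=
    (L.B.hr.dvd_iff_one_le_factorization Nat.card_pos.ne').1 (L.B.hy ▸ orderOf_dvd_natCard y)
  have hR : r ∣ Nat.card R := L.card_eq ▸ dvd_pow_self r (by omega)
  have hr' : r ∣ Nat.card {b : G // ∃ h ∈ N, h * a * h⁻¹ = b} :=
    (Nat.dvd_add_left hΩ).1 (hS ▸ hR)
  have h1 := card_orbit_mul N a
  have hstab : R ≤ N ⊓ centralizer ({a} : Set G) := le_inf Subgroup.le_normalizer fun b hb =>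
    mem_centralizer_singleton_iff.2 (L.comm b hb a ha).eq
  have h2 : r ^ ((Nat.card G).factorization r + 1) ∣ Nat.card G := by
    refine dvd_trans ?_ (Subgroup.card_subgroup_dvd_card N)
    rw [← h1, pow_succ, mul_comm, ← L.card_eq]
    exact mul_dvd_mul hr' (Subgroup.card_dvd_of_le hstab)
  have := (L.B.hr.pow_dvd_iff_le_factorization Nat.card_pos.ne').1 h2
  omega

theorem orderOf_eq {a : G} (ha : a ∈ R) (ha1 : a ≠ 1) : orderOf a = r := by
  haveI := Fact.mk L.B.hr
  exact orderOf_eq_prime (L.exp a ha) ha1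

theorem y_ne_one : y ≠ 1 := fun e => by
  have h := L.B.hy
  rw [e, orderOf_one] at h
  exact L.B.hr.ne_one h.symm

/-- Elements of odd order prime to `r` centralize no involution and no element of `R`. -/
theorem no_comm {w c : G} {p : ℕ} (hp : p.Prime) (hp2 : p ≠ 2) (hpr : p ≠ r) (hw : orderOf w = p)
    (hc : orderOf c = 2 ∨ (c ∈ R ∧ c ≠ 1)) : ¬ Commute w c := by
  refine L.B.no_comm (by rw [hw]; exact hp.odd_of_ne_two hp2) ?_ ?_ ?_
  · rw [hw]; exact fun h => hpr.symm ((Nat.prime_dvd_prime_iff_eq L.B.hr hp).1 h)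
  · intro e; rw [e, orderOf_one] at hw; exact hp.ne_one hw.symm
  · exact hc.imp_right fun h => L.orderOf_eq h.1 h.2

theorem primes_centralizer {c : G} (hc : orderOf c = 2 ∨ (c ∈ R ∧ c ≠ 1)) {p : ℕ} (hp : p.Prime)
    (hd : p ∣ Nat.card (centralizer ({c} : Set G))) : p = 2 ∨ p = r := by
  by_contra hne
  push Not at hne
  haveI := Fact.mk hp
  obtain ⟨w, hw⟩ := exists_prime_orderOf_dvd_card' p hd
  exact L.no_comm hp hne.1 hne.2 (by rw [Subgroup.orderOf_coe, hw]) hc
    (mem_centralizer_singleton_iff.1 w.2)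

theorem le_centralizer {a : G} (ha : a ∈ R) : R ≤ centralizer ({a} : Set G) := fun b hb =>
  mem_centralizer_singleton_iff.2 (L.comm b hb a ha).eq

/-- In the centralizer of an element of order `r` all involutions are conjugate. -/
theorem invol_conj {a e e' : G} (ha : a ∈ R) (ha1 : a ≠ 1) (he : orderOf e = 2)
    (he' : orderOf e' = 2) (h : Commute e a) (h' : Commute e' a) :
    ∃ g : G, Commute g a ∧ g * e * g⁻¹ = e' :=
  L.B.conj_in_centralizer he he' (L.orderOf_eq ha ha1) h h'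
    (L.B.pair_conj he he' (L.orderOf_eq ha ha1) (L.orderOf_eq ha ha1) h h')

/-- Elements of order four in the centralizer of an element of order `r` are conjugate there. -/
theorem four_conj {a v v' : G} (ha : a ∈ R) (ha1 : a ≠ 1) (hv : orderOf v = 4)
    (hv' : orderOf v' = 4) (h : Commute v a) (h' : Commute v' a) :
    ∃ g : G, Commute g a ∧ g * v * g⁻¹ = v' := by
  have hao := L.orderOf_eq ha ha1
  have hex := L.B.extra_four_r hv hao h
  have hex' := L.B.extra_four_r hv' hao h'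
  obtain ⟨g, hg⟩ := isConj_iff.1 (L.B.extra_conj hex.2 hex'.2)
  have hr35 := L.B.r_eq
  have har : a ^ r = 1 := L.exp a ha
  have h4 : ∀ {w : G}, orderOf w = 4 → Commute w a →
      (w * a) ^ (4 * 4) = a ^ (4 * 4) ∧ (w * a) ^ (r * r) = w := by
    intro w hw hwa
    have hw4 : w ^ 4 = 1 := by rw [← hw, pow_orderOf_eq_one]
    refine ⟨by rw [hwa.mul_pow, pow_mul w, hw4, one_pow, one_mul], ?_⟩
    rw [hwa.mul_pow, pow_mul a, har, one_pow, mul_one,
      pow_eq_self_of_mod hw4 (by rcases hr35 with e | e <;> simp [e])]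
  have h16 : a ^ (4 * 4) = a := by
    rw [← pow_mod_orderOf, hao]
    rcases hr35 with e | e <;> simp [e]
  obtain ⟨a1, a2⟩ := h4 hv h
  obtain ⟨b1, b2⟩ := h4 hv' h'
  refine ⟨g, mul_inv_eq_iff_eq_mul.1 ?_, ?_⟩
  · conv_lhs => rw [← h16, ← a1, ← conj_pow, hg, b1, h16]
  · conv_lhs => rw [← a2, ← conj_pow, hg, b2]

end Loc

end CfsgLib.Recog.SuzThree
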