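import Cfsg.Agent.Lib.Recog.SuzThree.RLocal

/-!
# The Sylow `r`-subgroup: stabilizers in a complement of the normalizer
-/

set_option autoImplicit false
set_option linter.style.haveILetI false
set_option linter.unusedSectionVars false
set_option linter.unusedVariables false

namespace CfsgLib.Recog.SuzThree

open CfsgLib.Chars CfsgLib.CharApps Subgroup
open scoped Classical

universe u

variable {G : Type u} [Group G] [Finite G] {A₁ A₂ A₃ : Subgroup G} {r : ℕ} {y t x : G}
  {R : Subgroup G}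

/-- A complement of `R` in its normalizer, when no involution centralizes `R`. -/
structure Comp (A₁ A₂ A₃ : Subgroup G) (r : ℕ) (y t x : G) (R K : Subgroup G) : Prop where
  L : Loc A₁ A₂ A₃ r y t x R
  noinv : ∀ s : G, orderOf s = 2 → ¬ (∀ a ∈ R, Commute s a)
  le : K ≤ normalizer (R : Set G)
  inf : R ⊓ K = ⊥
  prod : ∀ n ∈ normalizer (R : Set G), ∃ ρ ∈ R, ∃ k ∈ K, n = ρ * k
  cop : ¬ r ∣ Nat.card K

theorem Loc.exists_comp (L : Loc A₁ A₂ A₃ r y t x R)
    (hno : ∀ s : G, orderOf s = 2 → ¬ (∀ a ∈ R, Commute s a)) :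
    ∃ K, Comp A₁ A₂ A₃ r y t x R K := by
  haveI := Fact.mk L.B.hr
  have hcop : ¬ r ∣ R.relIndex (normalizer (R : Set G)) := by
    obtain ⟨P, hP⟩ := L.syl
    subst hP
    exact (P.subtype Subgroup.le_normalizer).not_dvd_index
  obtain ⟨K, h1, h2, h3, h4⟩ := exists_complement R (by
    rw [L.card_eq]
    exact Nat.Coprime.pow_left _ ((L.B.hr.coprime_iff_not_dvd).2 hcop))
  exact ⟨K, L, hno, h1, h2, h3, h4 ▸ hcop⟩

namespace Comp

variable {K : Subgroup G} (C : Comp A₁ A₂ A₃ r y t x R K)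
include C

theorem conj_mem {k a : G} (hk : k ∈ K) (ha : a ∈ R) : k * a * k⁻¹ ∈ R :=
  (Subgroup.mem_normalizer_iff.1 (C.le hk) a).1 ha

theorem eq_one_of_mem {g : G} (h1 : g ∈ R) (h2 : g ∈ K) : g = 1 := by
  rw [← Subgroup.mem_bot, ← C.inf]
  exact mem_inf.2 ⟨h1, h2⟩

theorem centralizer_le : centralizer (R : Set G) ≤ R := by
  haveI := Fact.mk C.L.B.hr
  have hRc : R ≤ centralizer (R : Set G) := fun b hb =>
    mem_centralizer_iff.2 fun a ha => (C.L.comm a ha b hb).eq
  have hle : centralizer (R : Set G) ≤ centralizer ({y} : Set G) :=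
    Subgroup.centralizer_le (Set.singleton_subset_iff.2 C.L.yR)
  have hcard := eq_two_pow_mul (n := Nat.card (centralizer (R : Set G))) C.L.B.hr Nat.card_pos.ne'
    C.L.B.hr2 fun p hp hd =>
      C.L.primes_centralizer (Or.inr ⟨C.L.yR, C.L.y_ne_one⟩) hp (hd.trans (Subgroup.card_dvd_of_le hle))
  have h2 : (Nat.card (centralizer (R : Set G))).factorization 2 = 0 := by
    by_contra h0
    haveI := Fact.mk Nat.prime_two
    obtain ⟨s, hs⟩ := exists_prime_orderOf_dvd_card' 2
      ((Nat.prime_two.dvd_iff_one_le_factorization Nat.card_pos.ne').2 (Nat.one_le_iff_ne_zero.2 h0))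
    exact C.noinv s (by rw [Subgroup.orderOf_coe, hs]) fun a ha =>
      (mem_centralizer_iff.1 s.2 a ha).symm
  rw [h2, pow_zero, one_mul] at hcard
  exact (C.L.le_of_isPGroup (IsPGroup.of_card hcard) hRc).le

theorem eq_one_of_fix {k : G} (hk : k ∈ K) (h : ∀ a ∈ R, Commute k a) : k = 1 :=
  C.eq_one_of_mem (C.centralizer_le (mem_centralizer_iff.2 fun a ha => (h a ha).eq.symm)) hk

theorem trans {a b : G} (ha : a ∈ R) (hb : b ∈ R) (h : IsConj a b) :
    ∃ k ∈ K, k * a * k⁻¹ = b := by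
  obtain ⟨n, hn, hna⟩ := C.L.conj_normalizer ha hb h
  obtain ⟨ρ, hρ, k, hk, rfl⟩ := C.prod n hn
  refine ⟨k, hk, ?_⟩
  rw [← hna, show ρ * k * a * (ρ * k)⁻¹ = ρ * (k * a * k⁻¹) * ρ⁻¹ by group,
    (C.L.comm ρ hρ _ (C.conj_mem hk ha)).eq, mul_inv_cancel_right]

/-- An element of `K` fixing a nonidentity element of `R` has order dividing four. -/
theorem pow_four {k a : G} (hk : k ∈ K) (ha : a ∈ R) (ha1 : a ≠ 1) (h : Commute k a) :
    k ^ 4 = 1 := by
  have hdvd : orderOf k ∣ Nat.card K := Subgroup.orderOf_dvd_natCard K hk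
  have h2 : ∀ p, p.Prime → p ∣ orderOf k → p = 2 := by
    intro p hp hpd
    by_contra hp2
    have hpr : p ≠ r := fun e => C.cop (e ▸ hpd.trans hdvd)
    exact C.L.no_comm hp hp2 hpr (orderOf_pow_orderOf_div (orderOf_pos k).ne' hpd)
      (Or.inr ⟨ha, ha1⟩) (h.pow_left _)
  have h3 : orderOf k = 2 ^ (orderOf k).primeFactorsList.length :=
    Nat.eq_prime_pow_of_unique_prime_dvd (orderOf_pos k).ne' fun {d} hd hdd => h2 d hd hdd
  exact C.L.B.pow_four (k := (orderOf k).primeFactorsList.length)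
    (by rw [← h3, pow_orderOf_eq_one]) (C.L.orderOf_eq ha ha1) h

/-- An element of `K` fixing a point is trivial, unless an involution of `K` fixes it. -/
theorem stab_invol {k a : G} (hk : k ∈ K) (ha : a ∈ R) (ha1 : a ≠ 1) (h : Commute k a)
    (hk1 : k ≠ 1) : ∃ s ∈ K, orderOf s = 2 ∧ Commute s a := by
  rcases two_cases (C.pow_four hk ha ha1 h) with e | e | e
  · exact absurd e hk1
  · exact ⟨k, hk, e, h⟩
  · exact ⟨k ^ 2, pow_mem hk 2, by rw [orderOf_pow' _ two_ne_zero, e]; norm_num, h.pow_left 2⟩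

/-- If an involution of `K` centralizes `a`, then `R` is normal in the centralizer of `a`. -/
theorem normal_in_centralizer {s a : G} (hs : s ∈ K) (hs2 : orderOf s = 2) (ha : a ∈ R)
    (ha1 : a ≠ 1) (hsa : Commute s a) :
    centralizer ({a} : Set G) ≤ normalizer (R : Set G) := by
  haveI := Fact.mk C.L.B.hr
  haveI := Fact.mk Nat.prime_two
  set W := centralizer ({a} : Set G) with hW
  have hRW : R ≤ W := C.L.le_centralizer ha
  obtain ⟨P, hP⟩ := C.L.syl
  have hPW : (P : Subgroup G) ≤ W := hP ▸ hRW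
  have hcard := eq_two_pow_mul (n := Nat.card W) C.L.B.hr Nat.card_pos.ne' C.L.B.hr2
    fun p hp hd => C.L.primes_centralizer (Or.inr ⟨ha, ha1⟩) hp hd
  haveI : Group.IsSolvable W :=
    CfsgLib.Chars.isSolvable_of_card_eq_pow_mul_pow Nat.prime_two C.L.B.hr hcard
  set sW : W := ⟨s, mem_centralizer_singleton_iff.2 hsa⟩ with hsW
  have hV : Cfsg.pPrimeCore r W = ⊥ := by
    by_contra hne
    set V := Cfsg.pPrimeCore r W with hVdef
    have hVn : V.Normal := Subgroup.sSup_normal _ fun N hN => hN.1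
    have h2 : 2 ∣ Nat.card V := by
      obtain ⟨p, hp, hpd⟩ := Nat.exists_prime_and_dvd
        (n := Nat.card V) (fun e => hne (Subgroup.card_eq_one.1 e))
      rcases C.L.primes_centralizer (Or.inr ⟨ha, ha1⟩) hp
        (hpd.trans (Subgroup.card_subgroup_dvd_card V)) with e | e
      · exact e ▸ hpd
      · rw [e] at hpd
        exact absurd hpd (CfsgLib.Base.not_dvd_card_pPrimeCore r W)
    obtain ⟨e, he⟩ := exists_prime_orderOf_dvd_card' 2 h2
    have heo : orderOf ((e : W) : G) = 2 := by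
      rw [Subgroup.orderOf_coe, Subgroup.orderOf_coe, he]
    obtain ⟨g, hg, hge⟩ := C.L.invol_conj ha ha1 heo hs2
      (mem_centralizer_singleton_iff.1 (e : W).2) hsa
    have hsV : sW ∈ V := by
      have h1 := hVn.conj_mem _ e.2 ⟨g, mem_centralizer_singleton_iff.2 hg⟩
      have e1 : (⟨g, mem_centralizer_singleton_iff.2 hg⟩ : W) * (e : W) *
          (⟨g, mem_centralizer_singleton_iff.2 hg⟩ : W)⁻¹ = sW := Subtype.ext hge
      exact e1 ▸ h1
    refine C.noinv s hs2 fun ρ hρ => ?_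
    set ρW : W := ⟨ρ, hRW hρ⟩
    have hmR : ρ * (s * ρ⁻¹ * s⁻¹) ∈ R := mul_mem hρ (C.conj_mem hs (inv_mem hρ))
    have hmV : ρW * sW * ρW⁻¹ * sW⁻¹ ∈ V := mul_mem (hVn.conj_mem _ hsV ρW) (inv_mem hsV)
    have h1 : ρW * sW * ρW⁻¹ * sW⁻¹ = 1 := by
      rw [← orderOf_eq_one_iff]
      refine Nat.eq_one_of_dvd_coprimes (a := r)
        (b := Nat.card V) ((C.L.B.hr.coprime_iff_not_dvd).2
          (CfsgLib.Base.not_dvd_card_pPrimeCore r W)) ?_ (Subgroup.orderOf_dvd_natCard V hmV)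
      refine orderOf_dvd_of_pow_eq_one (Subtype.ext ?_)
      show (ρ * s * ρ⁻¹ * s⁻¹) ^ r = 1
      rw [show ρ * s * ρ⁻¹ * s⁻¹ = ρ * (s * ρ⁻¹ * s⁻¹) by group]
      exact C.L.exp _ hmR
    have h2 : ρ * s * ρ⁻¹ * s⁻¹ = 1 := congrArg Subtype.val h1
    show s * ρ = ρ * s
    calc s * ρ = (ρ * s * ρ⁻¹ * s⁻¹) * s * ρ := by rw [h2, one_mul]
      _ = ρ * s := by group
  have hle := CfsgLib.Base.centralizer_pCore_le_of_isSolvable (p := r) hV
  have hcore := CfsgLib.Base.pCore_le_sylow (P.subtype hPW)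
  have hRcore : R.subgroupOf W ≤ Cfsg.pCore r W := by
    refine fun b hb => hle (mem_centralizer_iff.2 fun c hc => Subtype.ext ?_)
    have hcR : (c : G) ∈ R := by
      have := hcore hc
      rw [← hP]
      exact this
    exact (C.L.comm _ hcR _ hb).eq
  have heq : Cfsg.pCore r W = R.subgroupOf W := le_antisymm (fun c hc => by
    have := hcore hc
    show (c : G) ∈ R
    rw [← hP]
    exact this) hRcore
  haveI hn : (Cfsg.pCore r W).Normal := Subgroup.sSup_normal _ fun N hN => hN.1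
  intro g hg
  refine Subgroup.mem_normalizer_iff.2 fun b => ⟨fun hb => ?_, fun hb => ?_⟩
  · have := hn.conj_mem ⟨b, hRW hb⟩ (by rw [heq]; exact hb) ⟨g, hg⟩
    rw [heq] at this
    exact this
  · have := hn.conj_mem ⟨g * b * g⁻¹, hRW hb⟩ (by rw [heq]; exact hb) ⟨g⁻¹, inv_mem hg⟩
    rw [heq] at this
    simpa [Subgroup.mem_subgroupOf, mul_assoc] using this

/-- The `r`-subgroups of that centralizer lie in `R`. -/
theorem pgroup_le {s a : G} (hs : s ∈ K) (hs2 : orderOf s = 2) (ha : a ∈ R) (ha1 : a ≠ 1)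
    (hsa : Commute s a) {Q : Subgroup G} (hQ : IsPGroup r Q)
    (hQa : Q ≤ centralizer ({a} : Set G)) : Q ≤ R := by
  have h1 := IsPGroup.to_sup_of_normal_right' hQ C.L.isPGroup
    (hQa.trans (C.normal_in_centralizer hs hs2 ha ha1 hsa))
  rw [← C.L.le_of_isPGroup h1 le_sup_right]
  exact le_sup_left

/-- The stabilizer in `K` of a point fixed by an involution has order two. -/
theorem stab_eq {s a : G} (hs : s ∈ K) (hs2 : orderOf s = 2) (ha : a ∈ R) (ha1 : a ≠ 1)
    (hsa : Commute s a) :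
    (∀ k ∈ K, Commute k a → k = 1 ∨ k = s) ∧
      Nat.card ↥(K ⊓ centralizer ({a} : Set G)) = 2 := by
  haveI := Fact.mk Nat.prime_two
  set H := K ⊓ centralizer ({a} : Set G) with hH
  have hmem : ∀ h : H, (h : G) ∈ K ∧ Commute (h : G) a := fun h =>
    ⟨(mem_inf.1 h.2).1, mem_centralizer_singleton_iff.1 (mem_inf.1 h.2).2⟩
  have h4 : ∀ h : H, h ^ 4 = 1 := fun h => Subtype.ext (by
    simpa using C.pow_four (hmem h).1 ha ha1 (hmem h).2)
  -- conjugation in the centralizer can be done inside `H`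
  have hproj : ∀ h h' : H, (∃ g : G, Commute g a ∧ g * (h : G) * g⁻¹ = (h' : G)) → IsConj h h' := by
    rintro h h' ⟨g, hg, hgh⟩
    obtain ⟨ρ, hρ, k, hk, rfl⟩ := C.prod g
      (C.normal_in_centralizer hs hs2 ha ha1 hsa (mem_centralizer_singleton_iff.2 hg))
    have hρa : Commute ρ a := C.L.comm ρ hρ a ha
    have hka : Commute k a := by
      have h1 := hρa.inv_left.mul_left hg
      rwa [inv_mul_cancel_left] at h1
    refine isConj_iff.2 ⟨⟨k, mem_inf.2 ⟨hk, mem_centralizer_singleton_iff.2 hka⟩⟩, Subtype.ext ?_⟩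
    set m := k * (h : G) * k⁻¹ with hm
    have hmK : m ∈ K := mul_mem (mul_mem hk (hmem h).1) (inv_mem hk)
    have h2 : ρ * m * ρ⁻¹ = (h' : G) := by rw [← hgh, hm]; group
    have hR : (h' : G) * m⁻¹ ∈ R := by
      rw [← h2, show ρ * m * ρ⁻¹ * m⁻¹ = ρ * (m * ρ⁻¹ * m⁻¹) by group]
      exact mul_mem hρ (C.conj_mem hmK (inv_mem hρ))
    exact (mul_inv_eq_one.1 (C.eq_one_of_mem hR (mul_mem (hmem h').1 (inv_mem hmK)))).symm
  set sH : H := ⟨s, mem_inf.2 ⟨hs, mem_centralizer_singleton_iff.2 hsa⟩⟩ with hsH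
  have hsH2 : orderOf sH = 2 := by rw [← Subgroup.orderOf_coe]; exact hs2
  have hcoe : ∀ h : H, orderOf (h : G) = orderOf h := fun h => Subgroup.orderOf_coe h
  have hpg : IsPGroup 2 H := fun h => ⟨2, h4 h⟩
  haveI : Nontrivial H := ⟨⟨sH, 1, fun e => by rw [e, orderOf_one] at hsH2; omega⟩⟩
  haveI := hpg.center_nontrivial
  obtain ⟨z, hz1⟩ := exists_ne (1 : center H)
  obtain ⟨z0, hz0c, hz0⟩ : ∃ z0 : H, z0 ∈ center H ∧ orderOf z0 = 2 := by
    rcases two_cases (h4 (z : H)) with e | e | e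
    · exact absurd (Subtype.ext e) hz1
    · exact ⟨z, z.2, e⟩
    · exact ⟨(z : H) ^ 2, pow_mem z.2 2, by rw [orderOf_pow' _ two_ne_zero, e]; norm_num⟩
  have huniq : ∀ h : H, orderOf h = 2 → h = z0 := by
    intro h hh
    obtain ⟨c, hc⟩ := isConj_iff.1 (hproj z0 h (C.L.invol_conj ha ha1
      ((hcoe z0).trans hz0) ((hcoe h).trans hh) (hmem z0).2 (hmem h).2))
    rw [← hc, Subgroup.mem_center_iff.1 hz0c c, mul_inv_cancel_right]
  have hno4 : ∀ h : H, orderOf h ≠ 4 := by
    intro v hv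
    haveI := Fintype.ofFinite H
    have h1 := card_isConj_mul_card_centralizer v
    have h2 : 4 ∣ Nat.card (centralizer ({v} : Set H)) := by
      rw [← hv]
      exact Subgroup.orderOf_dvd_natCard _ (mem_centralizer_singleton_iff.2 rfl)
    have h3 : 4 * Nat.card {h : H // IsConj v h} ≤ Nat.card H := by
      rw [← h1, mul_comm]
      exact Nat.mul_le_mul_left _ (Nat.le_of_dvd Nat.card_pos h2)
    have h5 : Nat.card H ≤ Nat.card {h : H // IsConj v h} + 2 := by
      rw [Nat.card_eq_fintype_card, Nat.card_eq_fintype_card, Fintype.card_subtype (fun h : H => IsConj v h), ← Finset.card_univ]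
      refine le_trans (Finset.card_le_card (t := (Finset.univ.filter (IsConj v)) ∪ {1, z0}) ?_)
        ((Finset.card_union_le _ _).trans (Nat.add_le_add_left Finset.card_le_two _))
      intro h _
      rcases two_cases (h4 h) with e | e | e
      · simp [e]
      · simp [huniq h e]
      · exact Finset.mem_union_left _ (Finset.mem_filter.2 ⟨Finset.mem_univ _,
          hproj v h (C.L.four_conj ha ha1 ((hcoe v).trans hv) ((hcoe h).trans e)
            (hmem v).2 (hmem h).2)⟩)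
    have h6 : 4 ≤ Nat.card H := by rw [← hv]; exact Nat.le_of_dvd Nat.card_pos (orderOf_dvd_natCard v)
    omega
  have hall : ∀ h : H, h = 1 ∨ h = sH := by
    intro h
    rcases two_cases (h4 h) with e | e | e
    · exact Or.inl e
    · exact Or.inr ((huniq h e).trans (huniq sH hsH2).symm)
    · exact absurd e (hno4 h)
  constructor
  · intro k hk hka
    exact (hall ⟨k, mem_inf.2 ⟨hk, mem_centralizer_singleton_iff.2 hka⟩⟩).imp
      (congrArg Subtype.val) (congrArg Subtype.val)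
  · haveI := Fintype.ofFinite H
    have hu : (Finset.univ : Finset H) = {1, sH} := by
      ext h; simpa using hall h
    rw [Nat.card_eq_fintype_card, ← Finset.card_univ, hu,
      Finset.card_pair fun e => by rw [← e, orderOf_one] at hsH2; omega]

end Comp

end CfsgLib.Recog.SuzThree
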